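import Groth.Agent.L22.SymCorr.Rat
import Groth.Agent.L22.CurveThrough
import Groth.Agent.L22.DimOneAmple.Affine
import Groth.Agent.S1585
import Groth.Agent.L22.Cyc.Limit
import Mathlib.RingTheory.DedekindDomain.PID

/-!
Moving zero-cycles into an open subset.
-/

set_option autoImplicit false
set_option linter.style.haveILetI false
set_option backward.isDefEq.respectTransparency false
set_option backward.isDefEq.respectTransparency.types false

universe u

open AlgebraicGeometry CategoryTheory Groth.L22.Cyc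
open scoped Classical

noncomputable section

namespace Groth.L22.SymCorr

section Curve

theorem exists_generator {R : Type u} [CommRing R] [IsDomain R] [IsNoetherianRing R] [IsLocalRing R]
    [IsIntegrallyClosed R] [Ring.KrullDimLE 1 R] : IsPrincipalIdealRing R := by
  haveI : Ring.DimensionLEOne R := ⟨fun {p} hne hp => Ring.krullDimLE_one_iff_of_isPrime_bot.1 inferInstance p hne hp⟩
  haveI : IsDedekindRing R := { }
  haveI : IsDedekindDomain R := { }
  exact IsPrincipalIdealRing.of_finite_maximals ((Set.finite_singleton (IsLocalRing.maximalIdeal R)).subset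
    fun I hI => IsLocalRing.eq_maximalIdeal hI)

/-- A function with a simple zero at a point and units at finitely many others. -/
theorem exists_section_ord {C : Scheme.{u}} [IsIntegral C] [IsLocallyNoetherian C] (hC : Pi1.IsNormalScheme C)
    {U : C.Opens} (hU : IsAffineOpen U) (S : Finset C) (hSU : ∀ v ∈ S, v ∈ U)
    (hScl : ∀ v ∈ S, IsClosed ({v} : Set C)) (hSdim : ∀ v ∈ S, Ring.KrullDimLE 1 (C.presheaf.stalk v))
    {c : C} (hc : c ∈ S) (hcne : c ≠ genericPoint C) :
    ∃ g : Γ(C, U), ∀ v (hv : v ∈ S), Ring.ord (C.presheaf.stalk v) (C.presheaf.germ U v (hSU v hv) g) =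
      if v = c then 1 else 0 := by
  let P : {v // v ∈ S} → Ideal Γ(C, U) := fun v => (hU.primeIdealOf ⟨v.1, hSU v.1 v.2⟩).asIdeal
  haveI hmax : ∀ v, (P v).IsMaximal := fun v => by
    let pv : PrimeSpectrum Γ(C, U) := hU.primeIdealOf ⟨v.1, hSU v.1 v.2⟩
    refine (PrimeSpectrum.isClosed_singleton_iff_isMaximal pv).1 ?_
    have : ({pv} : Set (PrimeSpectrum Γ(C, U))) = hU.fromSpec ⁻¹' {v.1} := by
      ext z
      constructor
      · rintro rfl
        exact hU.fromSpec_primeIdealOf ⟨v.1, hSU v.1 v.2⟩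
      · intro hz
        exact hU.fromSpec.isOpenEmbedding.injective
          ((Set.mem_singleton_iff.1 hz).trans (hU.fromSpec_primeIdealOf ⟨v.1, hSU v.1 v.2⟩).symm)
    rw [this]
    exact (hScl v.1 v.2).preimage hU.fromSpec.continuous
  have hinj : Function.Injective P := fun v w h => by
    have h1 : hU.primeIdealOf ⟨v.1, hSU v.1 v.2⟩ = hU.primeIdealOf ⟨w.1, hSU w.1 w.2⟩ := PrimeSpectrum.ext h
    have h2 := congrArg hU.fromSpec h1
    rw [hU.fromSpec_primeIdealOf, hU.fromSpec_primeIdealOf] at h2
    exact Subtype.ext h2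
  let c' : {v // v ∈ S} := ⟨c, hc⟩
  letI := C.presheaf.algebra_section_stalk (⟨c, hSU c hc⟩ : U)
  haveI : IsLocalization.AtPrime (C.presheaf.stalk c) (P c') := hU.isLocalization_stalk ⟨c, hSU c hc⟩
  haveI := hSdim c hc
  haveI := (hC c).1
  haveI := (hC c).2
  haveI := exists_generator (R := C.presheaf.stalk c)
  obtain ⟨π, hπ⟩ := (IsPrincipalIdealRing.principal (IsLocalRing.maximalIdeal (C.presheaf.stalk c))).principal
  obtain ⟨⟨a, s⟩, has⟩ := IsLocalization.surj (P c').primeCompl π
  have hs : IsUnit (algebraMap Γ(C, U) (C.presheaf.stalk c) s) := IsLocalization.map_units _ s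
  have ha : IsLocalRing.maximalIdeal (C.presheaf.stalk c) = Ideal.span {algebraMap Γ(C, U) (C.presheaf.stalk c) a} := by
    rw [← has, Ideal.span_singleton_mul_right_unit hs]
    exact hπ
  let I : {v // v ∈ S} → Ideal Γ(C, U) := fun v => if v = c' then P v ^ 2 else P v
  have hI : Pairwise (Function.onFun IsCoprime I) := by
    intro v w hvw
    have h : IsCoprime (P v) (P w) := Ideal.isCoprime_iff_sup_eq.2
      ((hmax v).coprime_of_ne (hmax w) fun e => hvw (hinj e))
    show IsCoprime (I v) (I w)
    simp only [I]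
    split_ifs with h1 h2 h2
    · exact absurd (h1.trans h2.symm) hvw
    · exact h.pow_left (m := 2)
    · exact h.pow_right (n := 2)
    · exact h
  obtain ⟨g, hg⟩ := Ideal.exists_forall_sub_mem_ideal hI fun v => if v = c' then a else 1
  refine ⟨g, fun v hv => ?_⟩
  by_cases hvc : v = c
  · subst hvc
    rw [if_pos rfl]
    show Ring.ord _ (algebraMap Γ(C, U) (C.presheaf.stalk v) g) = 1
    have h1 := hg c'
    simp only [I, if_pos] at h1
    have hPm : (P c').map (algebraMap Γ(C, U) (C.presheaf.stalk v)) = IsLocalRing.maximalIdeal (C.presheaf.stalk v) :=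
      IsLocalization.AtPrime.map_eq_maximalIdeal (P c') (C.presheaf.stalk v)
    have h2 := Ideal.mem_map_of_mem (algebraMap Γ(C, U) (C.presheaf.stalk v)) h1
    rw [Ideal.map_pow, hPm, ha, Ideal.span_singleton_pow, Ideal.mem_span_singleton] at h2
    obtain ⟨t, ht⟩ := h2
    set A := algebraMap Γ(C, U) (C.presheaf.stalk v) a
    have hA : A ∈ IsLocalRing.maximalIdeal (C.presheaf.stalk v) := ha ▸ Ideal.subset_span rfl
    have hge : algebraMap Γ(C, U) (C.presheaf.stalk v) g = A * (1 + A * t) := by
      rw [map_sub, sub_eq_iff_eq_add'] at ht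
      rw [ht]
      ring
    have hu : IsUnit (1 + A * t) := by
      rcases IsLocalRing.isUnit_or_isUnit_of_add_one (a := 1 + A * t) (b := -(A * t)) (by ring) with h | h
      · exact h
      · exact absurd h fun h => (IsLocalRing.mem_maximalIdeal _).1 (neg_mem (Ideal.mul_mem_right t _ hA)) h
    rw [hge, Ring.ord, Ideal.span_singleton_mul_right_unit hu, ← ha, Module.length_eq_one_iff]
    exact isSimpleModule_iff_isCoatom.2 (Ideal.isMaximal_def.1 (IsLocalRing.maximalIdeal.isMaximal _))
  · rw [if_neg hvc]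
    have hne : (⟨v, hv⟩ : {v // v ∈ S}) ≠ c' := fun e => hvc (congrArg Subtype.val e)
    have h1 := hg ⟨v, hv⟩
    simp only [I, if_neg hne] at h1
    letI := C.presheaf.algebra_section_stalk (⟨v, hSU v hv⟩ : U)
    haveI : IsLocalization.AtPrime (C.presheaf.stalk v) (P ⟨v, hv⟩) := hU.isLocalization_stalk ⟨v, hSU v hv⟩
    refine Ring.ord_of_isUnit (IsLocalization.map_units (C.presheaf.stalk v)
      (⟨g, fun hmem => (hmax ⟨v, hv⟩).ne_top ((Ideal.eq_top_iff_one _).2 ?_)⟩ : (P ⟨v, hv⟩).primeCompl))
    have := sub_mem hmem h1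
    simpa using this

end Curve

variable {k : Type u} [Field k] [IsAlgClosed k] {W : Scheme.{u}} (sw : W ⟶ Spec (CommRingCat.of k))
  [IsProper sw] {δ : W → ℤ} (hδ : Cyc.DeltaCompat sw δ fun _ => 0)

include hδ

theorem delta_eq_one {y : W} (hy : topologicalKrullDim ↥(closure ({y} : Set W)) = 1) : δ y = 1 := by
  obtain ⟨n, hn, hd⟩ := hδ y
  let e : clSub y ≃ₜ ↥(closure ({y} : Set W)) :=
    (clι y).isClosedEmbedding.isEmbedding.toHomeomorph.trans (Homeomorph.setCongr (range_clι y))
  have h1 : rtrdeg (clι y ≫ sw) (genericPoint (clSub y)) = ((1 : ℕ) : Cardinal.{u}) :=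
    rtrdeg_genericPoint (clι y ≫ sw) 1 ((IsHomeomorph.topologicalKrullDim_eq _ e.isHomeomorph).trans hy)
  rw [rtrdeg_comp, Groth.L22.Bundle.rtrdeg_eq_zero (clι y), add_zero] at h1
  have h2 : rtrdeg sw (clι y (genericPoint (clSub y))) = rtrdeg sw y := by rw [clι_genericPoint]
  rw [h2, show rtrdeg sw y = (n : Cardinal.{u}) from hn] at h1
  have : n = 1 := by exact_mod_cast h1
  rw [hd, this]
  simp

set_option maxHeartbeats 1600000 in
/-- A closed point is equivalent to a cycle avoiding a given proper closed subset. -/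
theorem exists_moving [IsIntegral W] {T : Set W} (hT : IsClosed T) (hTne : genericPoint W ∉ T)
    {w : W} (hw : IsClosed ({w} : Set W)) (hwT : w ∈ T) :
    ∃ (y : W) (G : W.residueField y), δ y = 1 ∧ G ≠ 0 ∧
      ∀ x ∈ T, Cyc.divFun δ y G x = if x = w then 1 else 0 := by
  letI : W.Over (Spec (CommRingCat.of k)) := ⟨sw⟩
  haveI : LocallyOfFiniteType (W ↘ Spec (CommRingCat.of k)) := inferInstanceAs (LocallyOfFiniteType sw)
  haveI : IsLocallyNoetherian W := LocallyOfFiniteType.isLocallyNoetherian sw
  obtain ⟨y, -, hyw, hyT, hydim⟩ := Groth.L22.CurveThrough.exists_curve_avoiding k W hT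
    (genericPoint_specializes' w) hw hwT hTne
  have hy1 := delta_eq_one sw hδ hydim
  let Z := clSub y
  haveI : IsLocallyNoetherian Z := isLocallyNoetherian_clSub y
  haveI : CompactSpace W := QuasiCompact.compactSpace_of_compactSpace sw
  haveI : IsNoetherian W := { }
  haveI : CompactSpace Z := (clι y).isClosedEmbedding.compactSpace
  letI : Z.Over (Spec (CommRingCat.of k)) := ⟨clι y ≫ sw⟩
  haveI : LocallyOfFiniteType (Z ↘ Spec (CommRingCat.of k)) := inferInstanceAs (LocallyOfFiniteType (clι y ≫ sw))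
  haveI : QuasiCompact (Z.fromSpecStalk (genericPoint Z)) := inferInstance
  haveI : QuasiSeparated (Z.fromSpecStalk (genericPoint Z)) := inferInstance
  obtain ⟨hfin, hdom, -, hint, hnorm⟩ := Groth.Agent.S1585.result k Z
  let C := Curv2.normalization Z
  let ν : C ⟶ Z := Curv2.normalizationι Z
  haveI : IsIntegral C := hint
  haveI : IsFinite ν := hfin
  haveI : IsDominant ν := hdom
  let p : C ⟶ W := ν ≫ clι y
  haveI : IsFinite p := inferInstanceAs (IsFinite (ν ≫ clι y))
  let sc : C ⟶ Spec (CommRingCat.of k) := p ≫ sw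
  haveI : IsProper sc := inferInstanceAs (IsProper (p ≫ sw))
  haveI : IsLocallyNoetherian C := LocallyOfFiniteType.isLocallyNoetherian sc
  haveI : CompactSpace C := QuasiCompact.compactSpace_of_compactSpace sc
  haveI : IsNoetherian C := { }
  haveI : C.IsSeparated := ⟨by rw [← Limits.terminal.comp_from sc]; infer_instance⟩
  have hpη : p (genericPoint C) = y := by
    rw [Scheme.Hom.comp_apply, show ν (genericPoint C) = genericPoint Z from ?_, clι_genericPoint]
    exact ((genericPoint_spec C).image ν.continuous).eq (by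
      simpa [Set.image_univ, ν.denseRange.closure_range] using genericPoint_spec Z)
  obtain ⟨δC, hδC⟩ := exists_delta sc
  have hdC := isDimFun_of_field sc hδC
  have hdW := isDimFun_of_field sw hδ
  have hc : Cyc.DeltaCompat p δC δ := Groth.L22.Bundle.deltaCompat_cancel p sw hδC hδ
  have hη1 : δC (genericPoint C) = 1 := by
    obtain ⟨n, hn, hd⟩ := hc (genericPoint C)
    have h0 : (n : Cardinal.{u}) = 0 := hn.symm.trans (rtrdeg_eq_zero p (genericPoint C))
    rw [hd, hpη, hy1, show n = 0 by exact_mod_cast h0]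
    simp
  have hcl : ∀ v : C, v ≠ genericPoint C → IsClosed ({v} : Set C) := fun v hv => by
    have h1 := (hdC (genericPoint C) v (genericPoint_specializes' v) (Ne.symm hv)).1
    have h2 := delta_nonneg sc hδC v
    exact (delta_eq_zero_iff sc hδC v).1 (by omega)
  have hdim : topologicalKrullDim C ≤ 1 := by
    letI : C.Over (Spec (CommRingCat.of k)) := ⟨sc⟩
    haveI : LocallyOfFiniteType (C ↘ Spec (CommRingCat.of k)) := inferInstanceAs (LocallyOfFiniteType sc)
    obtain ⟨m, hm, -⟩ := Groth.L22.SchemeDim.exists_dim_closure_eq_trdeg k C (genericPoint C)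
    have h1 : topologicalKrullDim C = m := by
      rw [← hm, genericPoint_closure]
      exact (IsHomeomorph.topologicalKrullDim_eq _ (Homeomorph.Set.univ C).isHomeomorph).symm
    obtain ⟨n, hn, hd⟩ := hδC (genericPoint C)
    have h2 : (n : Cardinal.{u}) = m := hn.symm.trans (rtrdeg_genericPoint sc m h1)
    have : n = m := by exact_mod_cast h2
    rw [h1]
    have : (n : ℤ) = 1 := by rw [hη1] at hd; simpa using hd.symm
    have : m = 1 := by omega
    subst this
    exact le_of_eq Nat.cast_one
  have hSfin : (p ⁻¹' T).Finite := finite_of_closed_points (hT.preimage p.continuous) fun v hv =>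
    hcl v fun e => hyT (by rw [← hpη, ← e]; exact hv)
  let S := hSfin.toFinset
  have hScl : ∀ v ∈ S, IsClosed ({v} : Set C) := fun v hv =>
    hcl v fun e => hyT (by rw [← hpη, ← e]; exact hSfin.mem_toFinset.1 hv)
  have hdim1 : ∀ v, IsClosed ({v} : Set C) → Ring.KrullDimLE 1 (C.presheaf.stalk v) := fun v hv =>
    krullDimLE_one_stalk hdC v (by rw [hη1, (delta_eq_zero_iff sc hδC v).2 hv]; rfl)
  obtain ⟨c, hcw⟩ : ∃ c, p c = w := by
    have h1 : IsClosed (Set.range p) := p.isClosedMap.isClosed_range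
    exact hyw.mem_closed h1 ⟨genericPoint C, hpη⟩
  have hcS : c ∈ S := hSfin.mem_toFinset.2 (show p c ∈ T from hcw ▸ hwT)
  have hcne : c ≠ genericPoint C := fun e => hyT (by rw [← hpη, ← e, hcw]; exact hwT)
  obtain ⟨U, hU, -, hSU⟩ := Groth.L22.DimOneAmple.exists_affine_finset hdim S hScl
  obtain ⟨g, hg⟩ := exists_section_ord hnorm hU S hSU hScl (fun v hv => hdim1 v (hScl v hv)) hcS hcne
  have hηU : genericPoint C ∈ U := ((genericPoint_spec C).mem_open_set_iff U.2).2 (by
    simpa using ⟨c, hSU c hcS⟩)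
  let f := C.evaluation U (genericPoint C) hηU g
  have hgne : ∀ v (hv : v ∈ S), C.presheaf.germ U v (hSU v hv) g ≠ 0 := by
    intro v hv h0
    have hgv := hg v hv
    rw [h0] at hgv
    haveI := hdim1 v (hScl v hv)
    haveI : IsDomain (C.presheaf.stalk v) := (specMap_injective v (genericPoint_specializes' v)).isDomain
    rw [Ring.ord_zero] at hgv
    split_ifs at hgv
    · have hsimp : IsSimpleModule (C.presheaf.stalk v) (C.presheaf.stalk v) := Module.length_eq_one_iff.1 hgv
      have hF : IsField (C.presheaf.stalk v) := Ring.isField_iff_isSimpleOrder_ideal.2 ((isSimpleModule_iff _ _).1 hsimp)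
      letI := hF.toField
      obtain ⟨q, hq⟩ : genericPoint C ∈ Set.range (C.fromSpecStalk v) := by
        rw [Scheme.range_fromSpecStalk]; exact genericPoint_specializes' v
      haveI : Subsingleton (PrimeSpectrum (C.presheaf.stalk v)) := inferInstance
      have hvη : v = genericPoint C :=
        (Scheme.fromSpecStalk_closedPoint (X := C) (x := v)).symm.trans
          ((congrArg (C.fromSpecStalk v) (Subsingleton.elim (α := PrimeSpectrum (C.presheaf.stalk v)) _ q)).trans hq)
      exact hyT (by rw [← hpη, ← hvη]; exact hSfin.mem_toFinset.1 hv)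
    · haveI := Module.length_eq_zero_iff.1 hgv
      exact false_of_nontrivial_of_subsingleton (C.presheaf.stalk v)
  have hev : ∀ v (hv : v ∈ S), f = Cyc.specMap v (genericPoint C) (genericPoint_specializes' v)
      (C.presheaf.germ U v (hSU v hv) g) := fun v hv => evaluation_eq_specMap (hSU v hv) hηU _ _
  have hf : f ≠ 0 := by
    rw [hev c hcS]
    exact fun h => hgne c hcS ((map_eq_zero_iff _ (specMap_injective c _)).1 h)
  have hord : ∀ v (hv : v ∈ S), Cyc.divFun δC (genericPoint C) f v = if v = c then 1 else 0 := by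
    intro v hv
    have hv0 := (delta_eq_zero_iff sc hδC v).2 (hScl v hv)
    haveI := hdim1 v (hScl v hv)
    rw [Cyc.divFun, dif_pos ⟨genericPoint_specializes' v, by rw [hv0, hη1]; rfl⟩, hev v hv,
      show Cyc.specMap v (genericPoint C) (genericPoint_specializes' v) (C.presheaf.germ U v (hSU v hv) g) =
        Cyc.specMap v (genericPoint C) (genericPoint_specializes' v) (C.presheaf.germ U v (hSU v hv) g) /
          Cyc.specMap v (genericPoint C) (genericPoint_specializes' v) 1 by rw [map_one, div_one],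
      ordAt_div v _ (hgne v hv) one_ne_zero, hg v hv, Ring.ord_one]
    split_ifs <;> simp
  have hd : δ (p (genericPoint C)) = 1 := by rw [hpη, hy1]
  refine ⟨p (genericPoint C), Cyc.normGen p (genericPoint C) f, hd, ?_, fun x hx => ?_⟩
  · letI := (p.residueFieldMap (genericPoint C)).hom.toAlgebra
    haveI : Module.Finite (W.residueField (p (genericPoint C))) (C.residueField (genericPoint C)) :=
      Module.finite_of_finrank_pos (Nat.pos_of_ne_zero fun h0 =>
        absurd (hd.trans hη1.symm) ((residueDegree_eq_zero_of_lt p hc (genericPoint C)).2 h0).ne)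
    exact Algebra.norm_ne_zero_iff.2 hf
  have hm := map_divFun p hdC hdW hc (genericPoint C) f hf x
  rw [if_pos (hd.trans hη1.symm)] at hm
  rw [← hm, finsum_mem_congr (s := p ⁻¹' {x}) rfl (g := fun v => if v = c then (1 : ℤ) else 0) fun v hv => ?_]
  · by_cases hxw : x = w
    · subst hxw
      rw [if_pos rfl, finsum_mem_eq_sum_of_inter_support_eq (fun v => if v = c then (1 : ℤ) else 0) (t := {c}) ?_]
      · simp
      · ext v
        simp only [Set.mem_inter_iff, Set.mem_preimage, Set.mem_singleton_iff, Function.mem_support,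
          Finset.coe_singleton]
        exact ⟨fun ⟨_, h⟩ => ⟨by_contra fun h' => h (if_neg h'), h⟩, fun ⟨h, h'⟩ => ⟨h ▸ hcw, h'⟩⟩
    · rw [if_neg hxw]
      refine finsum_mem_of_eqOn_zero fun v hv => ?_
      simp only [Pi.zero_apply]
      exact if_neg fun (e : v = c) => hxw ((show p v = x from hv).symm.trans (e ▸ hcw))
  · have hvS : v ∈ S := hSfin.mem_toFinset.2 (show p v ∈ T from (show p v = x from hv).symm ▸ hx)
    have h1 := residueDegree_of_isClosed sc v (hScl v hvS)
    rw [residueDegree_comp] at h1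
    rw [hord v hvS, mapCoeff_eq p hc, Nat.eq_one_of_mul_eq_one_left h1, Nat.cast_one, mul_one]

omit [IsAlgClosed k] in
theorem divFun_inv (ξ : W) {f : W.residueField ξ} (hf : f ≠ 0) (hd : Cyc.IsDimFun W δ) [IsLocallyNoetherian W] (x : W) :
    Cyc.divFun δ ξ f⁻¹ x = - Cyc.divFun δ ξ f x := by
  rw [Cyc.divFun, Cyc.divFun]
  split_ifs with h
  · obtain ⟨a, b, hb, rfl⟩ := exists_specMap_div_gen x ξ h.1 f
    have ha : Cyc.specMap x ξ h.1 a ≠ 0 := fun h0 => hf (by rw [h0, zero_div])
    rw [inv_div, ordAt_div_gen hd x ξ h.1 h.2 hb ha, ordAt_div_gen hd x ξ h.1 h.2 ha hb]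
    ring
  · exact neg_zero.symm

set_option maxHeartbeats 1600000 in
/-- Moving a zero-cycle into an open set. -/
theorem exists_moved [IsIntegral W] (U : W.Opens) (hU : (U : Set W).Nonempty)
    (z : AlgebraicCycle W ℤ) (hz : z ∈ Cyc.Zk W δ 0) :
    ∃ z' : AlgebraicCycle W ℤ, z' ∈ Cyc.Zk W δ 0 ∧ (∀ w, z' w ≠ 0 → w ∈ U) ∧ Cyc.RatEquiv δ 0 z z' := by
  haveI : IsLocallyNoetherian W := LocallyOfFiniteType.isLocallyNoetherian sw
  haveI : CompactSpace W := QuasiCompact.compactSpace_of_compactSpace sw
  have hd := isDimFun_of_field sw hδ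
  let T : Set W := (U : Set W)ᶜ
  have hTne : genericPoint W ∉ T := fun h => h (((genericPoint_spec W).mem_open_set_iff U.2).2 (by simpa using hU))
  let B := (finite_support z).toFinset.filter fun w => w ∈ T
  have hB : ∀ w : {w // w ∈ B}, ∃ (y : W) (G : W.residueField y), δ y = 1 ∧ G ≠ 0 ∧
      ∀ x ∈ T, Cyc.divFun δ y G x = if x = w.1 then 1 else 0 := fun w => by
    obtain ⟨hw, hwT⟩ := Finset.mem_filter.1 w.2
    exact exists_moving sw hδ U.2.isClosed_compl hTne ((delta_eq_zero_iff sw hδ w.1).1
      (by_contra fun h => (finite_support z).mem_toFinset.1 hw (hz _ h))) hwT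
  choose y G hy hG hGT using hB
  let D : W → ℤ := fun x => ∑ w : {w // w ∈ B}, z w.1 * Cyc.divFun δ (y w) (G w) x
  have hD : (Function.support D).Finite :=
    (Set.finite_iUnion fun w : {w // w ∈ B} => finite_support_divFun hd (y w) (G w) (hG w)).subset fun x hx => by
      obtain ⟨w, -, hw⟩ := Finset.exists_ne_zero_of_sum_ne_zero hx
      exact Set.mem_iUnion.2 ⟨w, right_ne_zero_of_mul hw⟩
  obtain ⟨ΔD, hΔ⟩ := exists_cycle_of_finite D hD
  refine ⟨z - ΔD, fun x hx => ?_, fun x hx => ?_, ?_⟩
  · rw [Function.locallyFinsuppWithin.coe_sub, Pi.sub_apply, hz x hx, hΔ, zero_sub, neg_eq_zero]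
    refine Finset.sum_eq_zero fun w _ => ?_
    rw [Cyc.divFun, dif_neg fun h => hx (by rw [hy w] at h; omega), mul_zero]
  · by_contra hxU
    refine hx ?_
    rw [Function.locallyFinsuppWithin.coe_sub, Pi.sub_apply, hΔ, sub_eq_zero]
    simp only [D, hGT _ x hxU, mul_ite, mul_one, mul_zero]
    rw [Finset.univ_eq_attach, Finset.sum_attach B (fun w => if x = w then z w else 0), Finset.sum_ite_eq]
    split_ifs with hxB
    · rfl
    · by_contra h
      exact hxB (Finset.mem_filter.2 ⟨(finite_support z).mem_toFinset.2 h, hxU⟩)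
  · let ι := (w : {w // w ∈ B}) × Fin (z w.1).natAbs
    obtain ⟨G', hG'⟩ : ∃ G' : (w : {w // w ∈ B}) → W.residueField (y w), ∀ w, G' w = if 0 ≤ z w.1 then G w else (G w)⁻¹ :=
      ⟨_, fun _ => rfl⟩
    refine ⟨ι, fun i => y i.1, fun i => G' i.1, fun i => by rw [hy]; norm_num,
      fun i => ?_, fun x => ⟨Set.univ, isOpen_univ, trivial, Set.toFinite _⟩, fun x => ?_⟩
    · show G' i.1 ≠ 0
      rw [hG']
      split_ifs
      · exact hG _
      · exact inv_ne_zero (hG _)
    rw [Function.locallyFinsuppWithin.coe_sub, Pi.sub_apply, Function.locallyFinsuppWithin.coe_sub, Pi.sub_apply,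
      sub_sub_cancel, hΔ, finsum_eq_sum_of_fintype, Fintype.sum_sigma]
    refine Finset.sum_congr rfl fun w _ => ?_
    dsimp only
    rw [Finset.sum_const, Finset.card_univ, Fintype.card_fin, nsmul_eq_mul, hG']
    split_ifs with h
    · rw [Int.natAbs_of_nonneg h]
    · rw [divFun_inv sw hδ _ (hG w) hd, Int.ofNat_natAbs_of_nonpos (le_of_not_ge h)]
      ring

end Groth.L22.SymCorr
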