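import Groth.Agent.L22.SymCorr.Residue
import Groth.Agent.L22.Cyc.Setup
import Groth.Agent.L06.DimLftJacobson
import Groth.Agent.L21.Smooth.Scheme
import Groth.Agent.L18.UnivCatenary
import Groth.Agent.L22.Cyc.FiniteDeg
import Mathlib.AlgebraicGeometry.AlgClosed.Basic

/-!
Dimension functions of schemes of finite type over an algebraically closed field.
-/

set_option autoImplicit false
set_option linter.style.haveILetI false
set_option backward.isDefEq.respectTransparency false
set_option backward.isDefEq.respectTransparency.types false

universe u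

open AlgebraicGeometry CategoryTheory Groth.L22.Cyc

noncomputable section

namespace Groth.L22.SymCorr

theorem isSetup_field (k : Type u) [Field k] : Cyc.IsSetup (Spec (CommRingCat.of k)) fun _ => 0 := by
  haveI : Subsingleton ↥(Spec (CommRingCat.of k)) := inferInstanceAs (Subsingleton (PrimeSpectrum k))
  refine ⟨inferInstance, fun x => ?_, fun x y _ hne => absurd (Subsingleton.elim x y) hne⟩
  haveI := Groth.L21.Smooth.regular_stalk (𝟙 (Spec (CommRingCat.of k))) x
  exact Groth.L06.DimLftJacobson.isUniversallyCatenary_of_regularLocal _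

variable {k : Type u} [Field k] {X : Scheme.{u}} (sx : X ⟶ Spec (CommRingCat.of k)) [LocallyOfFiniteType sx]
  {δ : X → ℤ} (hδ : Cyc.DeltaCompat sx δ fun _ => 0)

include hδ in
theorem isDimFun_of_field : Cyc.IsDimFun X δ :=
  Groth.Agent.S9684.result sx _ (isSetup_field k) δ hδ

include hδ in
omit [LocallyOfFiniteType sx] in
theorem delta_nonneg (x : X) : 0 ≤ δ x := by
  obtain ⟨m, -, hd⟩ := hδ x
  rw [hd]
  simp

variable [IsAlgClosed k]

theorem residueDegree_of_isClosed (x : X) (hx : IsClosed ({x} : Set X)) : sx.residueDegree x = 1 := by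
  have h := residueDegree_congr _ (pointOfClosedPoint_comp sx x hx) (IsLocalRing.closedPoint k)
  rw [residueDegree_comp, pointOfClosedPoint_apply, Scheme.Hom.residueDegree_id] at h
  exact Nat.eq_one_of_mul_eq_one_right h

include hδ in
theorem delta_eq_zero_iff (x : X) : δ x = 0 ↔ IsClosed ({x} : Set X) := by
  constructor
  · intro h
    haveI : JacobsonSpace X := LocallyOfFiniteType.jacobsonSpace sx
    obtain ⟨y, hy, hyc⟩ := nonempty_inter_closedPoints (Z := closure ({x} : Set X))
      ⟨x, subset_closure rfl⟩ isClosed_closure.isLocallyClosed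
    rcases eq_or_ne x y with rfl | hne
    · exact hyc
    · have := (isDimFun_of_field sx hδ x y (specializes_iff_mem_closure.2 hy) hne).1
      have := delta_nonneg sx hδ y
      omega
  · intro h
    obtain ⟨m, hm, hd⟩ := hδ x
    have h1 : rtrdeg sx x = 0 := by
      letI := (sx.residueFieldMap x).hom.toAlgebra
      haveI : Module.Finite ((Spec (CommRingCat.of k)).residueField (sx x)) (X.residueField x) :=
        Module.finite_of_finrank_pos (by
          show 0 < sx.residueDegree x
          rw [residueDegree_of_isClosed sx x h]; norm_num)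
      haveI : Algebra.IsAlgebraic ((Spec (CommRingCat.of k)).residueField (sx x)) (X.residueField x) :=
        Algebra.IsAlgebraic.of_finite _ _
      exact trdeg_eq_zero
    have h2 : (m : Cardinal.{u}) = 0 := hm.symm.trans h1
    rw [hd, show m = 0 by exact_mod_cast h2]
    simp

theorem exists_delta : ∃ δ : X → ℤ, Cyc.DeltaCompat sx δ fun _ => 0 :=
  (exists_setup sx (isSetup_field k)).imp fun _ h => h.2

end Groth.L22.SymCorr
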