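import Groth.Agent.L16.AlgEqC.Basic
import Groth.Agent.L16.ProjSpace.BaseChange
import Groth.Agent.L26.Pic0.CurveChain
import Groth.Agent.L22.SymCorr.Dim
import Groth.Agent.L22.Cyc.Limit
import Groth.Agent.L21.Smooth.Scheme
import Groth.Agent.L22.Cyc.PushPull
import Groth.Agent.S2344
import Groth.Agent.S1627
import Groth.Agent.L00.EquidimFlat
import Mathlib.Topology.Separation.Connected

/-!
Zero-cycles of degree zero on a connected smooth projective variety are algebraically trivial.
-/

set_option autoImplicit false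
set_option linter.style.haveILetI false
set_option backward.isDefEq.respectTransparency false
set_option backward.isDefEq.respectTransparency.types false

universe u

open AlgebraicGeometry CategoryTheory CategoryTheory.Limits MonoidalCategory

noncomputable section

namespace Groth.L22.SymCorr.AlgTriv

theorem elemAlgTriv_of_map {k : Type u} [Field k] {X : Scheme.{u}} [DecidableEq ↥X]
    (p : X ⟶ Spec (CommRingCat.of k)) [IsSeparated p] {C : Scheme.{u}} (q : C ⟶ Spec (CommRingCat.of k)) (hs : Smooth q)
    (hp : Neron.IsProjectiveOver k (Over.mk q)) (hi : IsIntegral C) (hd : topologicalKrullDim ↥C = 1)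
    (ι : C ⟶ X) (hι : ι ≫ p = q)
    (P₁ P₂ : Spec (CommRingCat.of k) ⟶ C) (h₁ : P₁ ≫ q = 𝟙 _) (h₂ : P₂ ≫ q = 𝟙 _) :
    AlgEqCyc.IsElemAlgTriv p
      (Function.locallyFinsuppWithin.single (ι (P₁ (IsLocalRing.closedPoint k))) (1 : ℤ) -
        Function.locallyFinsuppWithin.single (ι (P₂ (IsLocalRing.closedPoint k))) (1 : ℤ)) := by
  haveI := hi
  haveI := Groth.L16.AlgEqC.isProper_of_projective hp
  let d : C ⟶ pullback p q := pullback.lift ι (𝟙 C) (by rw [hι, Category.id_comp])
  have hd1 : d ≫ pullback.fst p q = ι := pullback.lift_fst _ _ _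
  have hd2 : d ≫ pullback.snd p q = 𝟙 C := pullback.lift_snd _ _ _
  haveI : IsClosedImmersion d := by
    haveI : IsClosedImmersion (d ≫ pullback.snd p q) := by rw [hd2]; infer_instance
    exact IsClosedImmersion.of_comp d (pullback.snd p q)
  have hd1' : ∀ c, pullback.fst p q (d c) = ι c := fun c => by
    rw [← Scheme.Hom.comp_apply, hd1]
  have hd2' : ∀ c, pullback.snd p q (d c) = c := fun c => by
    rw [← Scheme.Hom.comp_apply, hd2]; rfl
  classical
  let W : AlgebraicCycle (pullback p q) ℤ := Function.locallyFinsuppWithin.single (d (genericPoint C)) 1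
  have hW : ∀ w, W w = if w = d (genericPoint C) then 1 else 0 := fun w =>
    Function.locallyFinsuppWithin.single_apply
  have hWeq : ∀ w, W w ≠ 0 → w = d (genericPoint C) := fun w hw => by
    by_contra hh
    exact hw (by rw [hW, if_neg hh])
  refine ⟨C, q, hs, hp, hi, hd, W, ?_, P₁, P₂, h₁, h₂, ?_⟩
  · intro w hw
    rw [hWeq w hw, hd2']; exact genericPoint_spec C
  · have key : ∀ (t : Spec (CommRingCat.of k) ⟶ C) (ht : t ≫ q = 𝟙 _) (x : X),
        AlgEqCyc.fibreFun p q W t ht x = if x = ι (t (IsLocalRing.closedPoint k)) then 1 else 0 := by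
      intro t ht x
      have e1 : ∀ x, pullback.fst p q (AlgEqCyc.slice p q t ht x) = x := fun x => by
        rw [← Scheme.Hom.comp_apply, AlgEqCyc.slice, pullback.lift_fst]; rfl
      have e2 : pullback.snd p q (AlgEqCyc.slice p q t ht x) = t (IsLocalRing.closedPoint k) := by
        rw [← Scheme.Hom.comp_apply, AlgEqCyc.slice, pullback.lift_snd, Scheme.Hom.comp_apply]
        congr 1
        exact Subsingleton.elim (α := PrimeSpectrum k) _ _
      have hv : d (genericPoint C) ⤳ AlgEqCyc.slice p q t ht x →
          AlgEqCyc.slice p q t ht x = d (t (IsLocalRing.closedPoint k)) := fun h => by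
        obtain ⟨c, hc⟩ := h.mem_closed d.isClosedEmbedding.isClosed_range ⟨_, rfl⟩
        rw [← hc]
        rw [← hc, hd2'] at e2
        rw [e2]
      have hiff : d (genericPoint C) ⤳ AlgEqCyc.slice p q t ht x ↔ x = ι (t (IsLocalRing.closedPoint k)) := by
        constructor
        · intro h
          rw [← e1 x, hv h, hd1']
        · rintro rfl
          have e : t ≫ ι ≫ AlgEqCyc.slice p q t ht = t ≫ d := by
            apply pullback.hom_ext
            · simp only [AlgEqCyc.slice, Category.assoc, pullback.lift_fst, hd1, Category.comp_id]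
            · simp only [AlgEqCyc.slice, Category.assoc, pullback.lift_snd, hd2]
              rw [reassoc_of% hι, reassoc_of% ht, Category.comp_id]
          have := congr($e (IsLocalRing.closedPoint k))
          simp only [Scheme.Hom.comp_apply] at this
          rw [this]
          exact (genericPoint_specializes _).map d.continuous
      unfold AlgEqCyc.fibreFun
      split_ifs with hx
      · haveI : Unique {w : ↥(pullback p q) // W w ≠ 0 ∧ w ⤳ AlgEqCyc.slice p q t ht x} :=
          { default := ⟨d (genericPoint C), by rw [hW, if_pos rfl]; exact one_ne_zero, hiff.2 hx⟩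
            uniq := fun w => Subtype.ext (hWeq _ w.2.1) }
        rw [finsum_unique]
        have hdef := hWeq _ (default : {w : ↥(pullback p q) // W w ≠ 0 ∧ w ⤳ AlgEqCyc.slice p q t ht x}).2.1
        rw [hW, if_pos hdef, one_mul]
        have gen : ∀ (v w : ↥(pullback p q)) (c : C) (_ : v = d c) (_ : w = d (genericPoint C)) (h : w ⤳ v),
            (AlgEqCyc.fibreMult (pullback.snd p q) v w h : ℤ) = 1 := by
          rintro v w c rfl rfl h
          rw [Groth.L16.AlgEqC.fibreMult_section d (pullback.snd p q) hd2 c h, Nat.cast_one]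
        exact gen _ _ _ (hv (hiff.2 hx)) hdef _
      · haveI : IsEmpty {w : ↥(pullback p q) // W w ≠ 0 ∧ w ⤳ AlgEqCyc.slice p q t ht x} :=
          ⟨fun ⟨w, hw, hs⟩ => hx (hiff.1 (by rwa [← hWeq w hw]))⟩
        exact finsum_of_isEmpty _
    intro x
    rw [key, key]
    rw [Function.locallyFinsuppWithin.coe_sub, Pi.sub_apply, Function.locallyFinsuppWithin.single_apply,
      Function.locallyFinsuppWithin.single_apply]

theorem isProjectiveOver_curve {k : Type u} [Field k] (C : Over (Spec (CommRingCat.of k))) [IsProper C.hom]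
    [AlgebraicGeometry.IsIntegral C.left] (hd : topologicalKrullDim C.left = 1) : Neron.IsProjectiveOver k C := by
  letI : C.left.Over (Spec (CommRingCat.of k)) := ⟨C.hom⟩
  haveI : IsProper (C.left ↘ Spec (CommRingCat.of k)) := inferInstanceAs (IsProper C.hom)
  rcases Groth.Agent.S1627.result k C.left hd with h | ⟨d, c, hc, hcq⟩
  · exfalso
    haveI := h
    haveI : IsFinite C.hom := IsFinite.iff_isProper_and_isAffineHom.2 ⟨inferInstance, inferInstance⟩
    haveI : Finite ↥C.left := Set.finite_univ_iff.1
      ((C.hom.finite_preimage_singleton (IsLocalRing.closedPoint k)).subset fun x _ =>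
        Subsingleton.elim (α := PrimeSpectrum k) _ _)
    haveI : LocallyOfFiniteType C.hom := inferInstance
    haveI : JacobsonSpace C.left := LocallyOfFiniteType.jacobsonSpace C.hom
    haveI : DiscreteTopology C.left := JacobsonSpace.discreteTopology (Set.toFinite _)
    have hsub : Subsingleton ↥C.left := PreconnectedSpace.trivial_of_discrete
    have h0 : topologicalKrullDim C.left ≤ 0 := by
      haveI : Subsingleton (TopologicalSpace.IrreducibleCloseds ↥C.left) := ⟨fun s t => TopologicalSpace.IrreducibleCloseds.ext <| by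
        obtain ⟨v, hv⟩ := s.isIrreducible.nonempty
        obtain ⟨w, hw⟩ := t.isIrreducible.nonempty
        ext z
        exact ⟨fun _ => Subsingleton.elim w z ▸ hw, fun _ => Subsingleton.elim v z ▸ hv⟩⟩
      exact Order.krullDim_nonpos_of_subsingleton
    rw [hd] at h0
    exact absurd h0 (by norm_num)
  · haveI := hc
    exact ⟨d, c ≫ (Groth.L16.ProjSpace.isoOver d k).hom, inferInstance, by
      rw [Category.assoc, Groth.L16.ProjSpace.isoOver_hom_toBase]; exact hcq⟩

set_option maxHeartbeats 800000 in
theorem link_algTriv {k : Type u} [Field k] [IsAlgClosed k] {X : Scheme.{u}} [DecidableEq ↥X]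
    (p : X ⟶ Spec (CommRingCat.of k)) [IsProper p] (a a' : 𝟙_ (Over (Spec (CommRingCat.of k))) ⟶ Over.mk p)
    (h : Groth.Agent.Pic0.Chain.CurveLink₁ (Over.mk p) a a') :
    Function.locallyFinsuppWithin.single (a.left (IsLocalRing.closedPoint k)) (1 : ℤ) -
      Function.locallyFinsuppWithin.single (a'.left (IsLocalRing.closedPoint k)) (1 : ℤ) ∈ AlgEqCyc.algTriv p := by
  obtain ⟨C, _, _, _, hd, V, g, c, c', rfl, rfl⟩ := h
  letI : C.left.Over (Spec (CommRingCat.of k)) := ⟨C.hom⟩
  letI : X.Over (Spec (CommRingCat.of k)) := ⟨p⟩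
  haveI : IsProper (C.left ↘ Spec (CommRingCat.of k)) := inferInstanceAs (IsProper C.hom)
  haveI : IsProper (X ↘ Spec (CommRingCat.of k)) := inferInstanceAs (IsProper p)
  haveI : IsIntegral C.left := GeometricallyIntegral.isIntegral_of_subsingleton C.hom
  haveI : Nonempty C.left := inferInstance
  have hne : (V : Set C.left).Nonempty := ⟨(c.left ≫ V.ι) (IsLocalRing.closedPoint k), by
    rw [← Scheme.Opens.range_ι]; exact ⟨_, rfl⟩⟩
  have hcurve : ∀ x : C.left, IsClosed ({x} : Set C.left) → ringKrullDim (C.left.presheaf.stalk x) = 1 := by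
    intro x hx
    obtain ⟨na, nb, hna, hnb, hD⟩ := Groth.L00.EquidimFlat.point_data' k C.hom (topologicalKrullDim C.left)
      (fun Z hZ => by
        rw [irreducibleComponents_eq_singleton, Set.mem_singleton_iff] at hZ
        subst hZ
        exact (Homeomorph.Set.univ _).isHomeomorph.topologicalKrullDim_eq) x
    have h1 : Cyc.rtrdeg C.hom x = 0 := by
      letI := (C.hom.residueFieldMap x).hom.toAlgebra
      haveI : Module.Finite ((Spec (CommRingCat.of k)).residueField (C.hom x)) (C.left.residueField x) :=
        Module.finite_of_finrank_pos (by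
          show 0 < C.hom.residueDegree x
          rw [Groth.L22.SymCorr.residueDegree_of_isClosed C.hom x hx]; norm_num)
      haveI : Algebra.IsAlgebraic ((Spec (CommRingCat.of k)).residueField (C.hom x)) (C.left.residueField x) :=
        Algebra.IsAlgebraic.of_finite _ _
      exact trdeg_eq_zero
    have h2 : na = 0 := by exact_mod_cast hna.symm.trans h1
    rw [hnb]
    rw [hd, h2, zero_add] at hD
    exact hD.symm
  obtain ⟨h, ⟨hVh, hh⟩, -⟩ := Groth.Agent.S2344.result k C.left X hcurve
    (fun x => ⟨Groth.L21.Smooth.isDomain_stalk C.hom x, Groth.L21.Smooth.isIntegrallyClosed_stalk C.hom x⟩) V (V.2.dense hne) g.left (Over.w g)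
  have hpt : ∀ c : 𝟙_ (Over (Spec (CommRingCat.of k))) ⟶ Over.mk (V.ι ≫ C.hom),
      (c ≫ g).left (IsLocalRing.closedPoint k) = h ((c.left ≫ V.ι) (IsLocalRing.closedPoint k)) := fun c => by
    show (c.left ≫ g.left) (IsLocalRing.closedPoint k) = _
    rw [← hVh]
    rfl
  rw [hpt c, hpt c']
  exact AddSubgroup.subset_closure (elemAlgTriv_of_map p C.hom inferInstance (isProjectiveOver_curve C hd) inferInstance hd h hh
    (c.left ≫ V.ι) (c'.left ≫ V.ι) (by rw [Category.assoc]; exact Over.w c) (by rw [Category.assoc]; exact Over.w c'))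

set_option maxHeartbeats 800000 in
/-- Degree zero implies algebraically trivial. -/
theorem isAlgEquivZero_of_deg {k : Type u} [Field k] [IsAlgClosed k] {X : Scheme.{u}}
    (p : X ⟶ Spec (CommRingCat.of k)) [IsProper p] [IsIntegral X] {δ : X → ℤ}
    (hδ : Cyc.DeltaCompat p δ fun _ => 0) (α : AlgebraicCycle X ℤ) (hα : α ∈ Cyc.Zk X δ 0)
    (hdeg : ChowOps.deg p δ α = 0) : AlgEqCyc.IsAlgEquivZero p α := by
  classical
  haveI : CompactSpace X := QuasiCompact.compactSpace_of_compactSpace p
  haveI : Subsingleton ↥(Spec (CommRingCat.of k)) := inferInstanceAs (Subsingleton (PrimeSpectrum k))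
  let B := (Groth.L22.Cyc.finite_support α).toFinset
  have hBc : ∀ x ∈ B, IsClosed ({x} : Set X) := fun x hx => (Groth.L22.SymCorr.delta_eq_zero_iff p hδ x).1
    (by_contra fun h => (Groth.L22.Cyc.finite_support α).mem_toFinset.1 hx (hα x h))
  rcases B.eq_empty_or_nonempty with hB | ⟨x₀, hx₀⟩
  · have : α = 0 := Function.locallyFinsuppWithin.ext fun x => by
      by_contra hx
      exact Finset.notMem_empty x (hB ▸ (Groth.L22.Cyc.finite_support α).mem_toFinset.2 (by simpa using hx) : x ∈ (∅ : Finset X))
    rw [this]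
    exact zero_mem _
  have hsum : ∑ x ∈ B, α x = 0 := by
    rw [← hdeg, ChowOps.deg]
    show _ = ∑ᶠ x ∈ p ⁻¹' {IsLocalRing.closedPoint k}, α x * ((AlgebraicCycle.mapCoeff p δ (fun _ => (0 : ℤ)) x : ℕ) : ℤ)
    rw [show p ⁻¹' {IsLocalRing.closedPoint k} = Set.univ from Set.eq_univ_of_forall fun x => Subsingleton.elim _ _,
      finsum_mem_univ, finsum_eq_sum_of_support_subset _ (s := B) fun x hx =>
        (Groth.L22.Cyc.finite_support α).mem_toFinset.2 (left_ne_zero_of_mul hx)]
    refine Finset.sum_congr rfl fun x hx => ?_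
    rw [Groth.L22.Cyc.mapCoeff_eq p hδ, Groth.L22.SymCorr.residueDegree_of_isClosed p x (hBc x hx), Nat.cast_one, mul_one]
  have hlink : ∀ x, IsClosed ({x} : Set X) → Function.locallyFinsuppWithin.single x (1 : ℤ) -
      Function.locallyFinsuppWithin.single x₀ (1 : ℤ) ∈ AlgEqCyc.algTriv p := by
    intro x hx
    let a : 𝟙_ (Over (Spec (CommRingCat.of k))) ⟶ Over.mk p :=
      Over.homMk (pointOfClosedPoint p x hx) (pointOfClosedPoint_comp _ _ _)
    let a' : 𝟙_ (Over (Spec (CommRingCat.of k))) ⟶ Over.mk p :=
      Over.homMk (pointOfClosedPoint p x₀ (hBc x₀ hx₀)) (pointOfClosedPoint_comp _ _ _)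
    haveI : IsIntegral (Over.mk p).left := inferInstanceAs (IsIntegral X)
    haveI : LocallyOfFiniteType (Over.mk p).hom := inferInstanceAs (LocallyOfFiniteType p)
    have key : ∀ b b', Relation.EqvGen (Groth.Agent.Pic0.Chain.CurveLink₁ (Over.mk p)) b b' →
        Function.locallyFinsuppWithin.single (b.left (IsLocalRing.closedPoint k)) (1 : ℤ) -
          Function.locallyFinsuppWithin.single (b'.left (IsLocalRing.closedPoint k)) (1 : ℤ) ∈ AlgEqCyc.algTriv p := by
      intro b b' h
      induction h with
      | rel b b' h => exact link_algTriv p b b' h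
      | refl b => rw [sub_self]; exact zero_mem _
      | symm b b' _ ih => rw [← neg_sub]; exact neg_mem ih
      | trans b b' b'' _ _ ih ih' => rw [← sub_add_sub_cancel _ (Function.locallyFinsuppWithin.single (b'.left (IsLocalRing.closedPoint k)) (1 : ℤ))]; exact add_mem ih ih'
    have h1 := key a a' (Groth.Agent.Pic0.Chain.eqvGen_curveLink (Over.mk p) a a')
    have e1 : a.left (IsLocalRing.closedPoint k) = x := pointOfClosedPoint_apply p x hx _
    have e2 : a'.left (IsLocalRing.closedPoint k) = x₀ := pointOfClosedPoint_apply p x₀ (hBc x₀ hx₀) _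
    rw [e1, e2] at h1
    exact h1
  have he : α = ∑ x ∈ B, α x • (Function.locallyFinsuppWithin.single x (1 : ℤ) -
      Function.locallyFinsuppWithin.single x₀ (1 : ℤ)) := by
    refine Function.locallyFinsuppWithin.ext fun y => ?_
    simp only [Function.locallyFinsuppWithin.coe_sum, Finset.sum_apply, Function.locallyFinsuppWithin.coe_zsmul,
      Pi.smul_apply, Function.locallyFinsuppWithin.coe_sub, Pi.sub_apply, Function.locallyFinsuppWithin.single_apply,
      smul_eq_mul, mul_sub]
    rw [Finset.sum_sub_distrib, ← Finset.sum_mul, hsum, zero_mul, sub_zero]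
    simp only [mul_ite, mul_one, mul_zero]
    rw [Finset.sum_ite_eq]
    split_ifs with hy
    · rfl
    · by_contra h
      exact hy ((Groth.L22.Cyc.finite_support α).mem_toFinset.2 h)
  show α ∈ AlgEqCyc.algTriv p
  rw [he]
  exact sum_mem fun x hx => AddSubgroup.zsmul_mem _ (hlink x (hBc x hx)) _

end Groth.L22.SymCorr.AlgTriv
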