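import Groth.Prelude.Def_CurvBase
import Groth.Agent.L22.SchemeDim
import Groth.Agent.L22.Cyc.RelDim
import Mathlib.AlgebraicGeometry.Morphisms.Finite
import Mathlib.FieldTheory.IsAlgClosed.AlgebraicClosure

/-!
Residue fields and geometric points of schemes finite over an integral base.
-/

set_option autoImplicit false
set_option linter.style.haveILetI false
set_option backward.isDefEq.respectTransparency false
set_option backward.isDefEq.respectTransparency.types false

universe u

open AlgebraicGeometry CategoryTheory Groth.L22.Cyc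

noncomputable section

namespace Groth.L22.SymCorr

/-- Residue extensions of integral morphisms are algebraic. -/
theorem isAlgebraic_residueFieldMap {Y T : Scheme.{u}} (f : Y ⟶ T) [IsIntegralHom f] (y : Y) :
    letI := (f.residueFieldMap y).hom.toAlgebra
    Algebra.IsAlgebraic (T.residueField (f y)) (Y.residueField y) := by
  letI := (f.residueFieldMap y).hom.toAlgebra
  obtain ⟨_, ⟨U, hU, rfl⟩, hxU, -⟩ :=
    T.isBasis_affineOpens.exists_subset_of_mem_open (Set.mem_univ (f y)) isOpen_univ
  have hV : IsAffineOpen (f ⁻¹ᵁ U) := hU.preimage f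
  have hyV : y ∈ f ⁻¹ᵁ U := hxU
  have hev : ∀ a, IsAlgebraic (T.residueField (f y)) (Y.evaluation (f ⁻¹ᵁ U) y hyV a) := fun a => by
    obtain ⟨p, hp, hpa⟩ := IsIntegralHom.isIntegral_app f U hU a
    refine IsIntegral.isAlgebraic ⟨p.map (T.evaluation U (f y) hxU).hom, hp.map _, ?_⟩
    rw [Polynomial.eval₂_map]
    have h2 : ((f.residueFieldMap y).hom.comp (T.evaluation U (f y) hxU).hom) =
        (Y.evaluation (f ⁻¹ᵁ U) y hyV).hom.comp (f.app U).hom :=
      RingHom.ext fun s => Scheme.evaluation_naturality_apply f y hxU s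
    show Polynomial.eval₂ ((f.residueFieldMap y).hom.comp _) _ p = 0
    rw [h2, ← Polynomial.hom_eval₂, hpa, map_zero]
  refine ⟨fun z => ?_⟩
  obtain ⟨w, rfl⟩ := Y.residue_surjective y z
  letI : Algebra Γ(Y, f ⁻¹ᵁ U) (Y.presheaf.stalk y) :=
    TopCat.Presheaf.algebra_section_stalk Y.presheaf ⟨y, hyV⟩
  haveI := hV.isLocalization_stalk ⟨y, hyV⟩
  obtain ⟨a, s, rfl⟩ := IsLocalization.exists_mk'_eq (hV.primeIdealOf ⟨y, hyV⟩).asIdeal.primeCompl w
  have hs : IsUnit (Y.residue y (algebraMap _ _ (s : Γ(Y, f ⁻¹ᵁ U)))) :=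
    (IsLocalization.map_units (Y.presheaf.stalk y) s).map (Y.residue y).hom
  have h3 : Y.residue y (IsLocalization.mk' (Y.presheaf.stalk y) a s) *
      Y.residue y (algebraMap _ _ (s : Γ(Y, f ⁻¹ᵁ U))) = Y.residue y (algebraMap _ _ a) := by
    rw [← map_mul, IsLocalization.mk'_spec]
  rw [← eq_div_iff hs.ne_zero] at h3
  rw [h3, div_eq_mul_inv]
  exact (hev a).mul (hev s.1).inv

theorem rtrdeg_eq_zero {Y T : Scheme.{u}} (f : Y ⟶ T) [IsIntegralHom f] (y : Y) : rtrdeg f y = 0 := by
  letI := (f.residueFieldMap y).hom.toAlgebra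
  haveI := isAlgebraic_residueFieldMap f y
  exact trdeg_eq_zero

/-- Transcendence degree of the residue field of the generic point. -/
theorem rtrdeg_genericPoint {k : Type u} [Field k] {W : Scheme.{u}} [IsIntegral W]
    (sw : W ⟶ Spec (CommRingCat.of k)) [LocallyOfFiniteType sw] (n : ℕ) (hdim : topologicalKrullDim W = n) :
    rtrdeg sw (genericPoint W) = n := by
  letI : W.Over (Spec (CommRingCat.of k)) := ⟨sw⟩
  haveI : LocallyOfFiniteType (W ↘ Spec (CommRingCat.of k)) := ‹_›
  letI := Curv2.resAlgebra k W (genericPoint W)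
  obtain ⟨m, hm, htr⟩ := Groth.L22.SchemeDim.exists_dim_closure_eq_trdeg k W (genericPoint W)
  have hmn : m = n := by
    have h1 : topologicalKrullDim (closure ({genericPoint W} : Set W)) = topologicalKrullDim W := by
      rw [genericPoint_closure]
      exact IsHomeomorph.topologicalKrullDim_eq _ (Homeomorph.Set.univ W).isHomeomorph
    rw [hm, hdim] at h1
    exact_mod_cast h1
  subst hmn
  rw [← htr]
  letI := (sw.residueFieldMap (genericPoint W)).hom.toAlgebra
  let P := Spec (CommRingCat.of k)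
  let e₀ : k →+* P.residueField (sw (genericPoint W)) :=
    (P.evaluation ⊤ (sw (genericPoint W)) trivial).hom.comp (Scheme.ΓSpecIso (CommRingCat.of k)).inv.hom
  have he : Function.Surjective e₀ := by
    intro z
    obtain ⟨w, rfl⟩ := P.residue_surjective _ z
    letI : Algebra Γ(P, ⊤) (P.presheaf.stalk (sw (genericPoint W))) :=
      TopCat.Presheaf.algebra_section_stalk P.presheaf ⟨sw (genericPoint W), (show sw (genericPoint W) ∈ (⊤ : P.Opens) from trivial)⟩
    haveI := (isAffineOpen_top P).isLocalization_stalk ⟨sw (genericPoint W), (show sw (genericPoint W) ∈ (⊤ : P.Opens) from trivial)⟩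
    obtain ⟨a, s, rfl⟩ := IsLocalization.exists_mk'_eq
      ((isAffineOpen_top P).primeIdealOf ⟨sw (genericPoint W), (show sw (genericPoint W) ∈ (⊤ : P.Opens) from trivial)⟩).asIdeal.primeCompl w
    obtain ⟨a', rfl⟩ := (ConcreteCategory.bijective_of_isIso (Scheme.ΓSpecIso (CommRingCat.of k)).inv).2 a
    obtain ⟨s', hs'⟩ := (ConcreteCategory.bijective_of_isIso (Scheme.ΓSpecIso (CommRingCat.of k)).inv).2 s.1
    have hu : e₀ s' ≠ 0 := by
      show P.residue _ (algebraMap Γ(P, ⊤) _ ((Scheme.ΓSpecIso (CommRingCat.of k)).inv s')) ≠ 0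
      rw [hs']
      exact ((IsLocalization.map_units (P.presheaf.stalk (sw (genericPoint W))) s).map (P.residue _).hom).ne_zero
    refine ⟨a' / s', ?_⟩
    rw [map_div₀, div_eq_iff hu]
    show P.residue _ (algebraMap Γ(P, ⊤) _ ((Scheme.ΓSpecIso (CommRingCat.of k)).inv a')) =
      P.residue _ _ * P.residue _ (algebraMap Γ(P, ⊤) _ ((Scheme.ΓSpecIso (CommRingCat.of k)).inv s'))
    rw [hs', ← map_mul, IsLocalization.mk'_spec]
  refine (trdeg_eq_of_square (RingEquiv.ofBijective e₀ ⟨e₀.injective, he⟩) (RingEquiv.refl _) fun a => ?_).symm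
  show (W.residue _).hom ((W.presheaf.germ ⊤ _ trivial).hom (Coh.toGlobal sw a)) =
    sw.residueFieldMap (genericPoint W)
      (P.evaluation ⊤ (sw (genericPoint W)) trivial ((Scheme.ΓSpecIso (CommRingCat.of k)).inv a))
  rw [Scheme.evaluation_naturality_apply]
  rfl

/-- Field valued points are given by embeddings of residue fields. -/
theorem exists_eq_fromSpecResidueField {P : Scheme.{u}} {K : Type u} [Field K]
    (σ : Spec (CommRingCat.of K) ⟶ P) {ξ : P} (h : σ (IsLocalRing.closedPoint K) = ξ) :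
    ∃ e : P.residueField ξ ⟶ CommRingCat.of K, σ = Spec.map e ≫ P.fromSpecResidueField ξ := by
  subst h
  exact ⟨_, (Scheme.descResidueField_stalkClosedPointTo_fromSpecResidueField K P σ).symm⟩

/-- Geometric points over the same geometric point of the base with the same image are conjugate. -/
theorem exists_conjugate {P W : Scheme.{u}} (pr : P ⟶ W) (η : W) {ξ : P} (hξ : pr ξ = η)
    (halg : letI := (pr.residueFieldMap ξ).hom.toAlgebra
      Algebra.IsAlgebraic (W.residueField (pr ξ)) (P.residueField ξ))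
    (σ σ₀ : Spec (CommRingCat.of (AlgebraicClosure (W.residueField η))) ⟶ P)
    (hσ : σ ≫ pr = Spec.map (CommRingCat.ofHom (algebraMap (W.residueField η) _)) ≫ W.fromSpecResidueField η)
    (hσ₀ : σ₀ ≫ pr = Spec.map (CommRingCat.ofHom (algebraMap (W.residueField η) _)) ≫ W.fromSpecResidueField η)
    (h : σ (IsLocalRing.closedPoint _) = ξ) (h₀ : σ₀ (IsLocalRing.closedPoint _) = ξ) :
    ∃ g : AlgebraicClosure (W.residueField η) ≃+* AlgebraicClosure (W.residueField η),
      (∀ x, g (algebraMap (W.residueField η) _ x) = algebraMap (W.residueField η) _ x) ∧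
      Spec.map (CommRingCat.ofHom g.toRingHom) ≫ σ₀ = σ := by
  subst hξ
  set K := W.residueField (pr ξ)
  set Ω := AlgebraicClosure K
  letI : Algebra K (P.residueField ξ) := (pr.residueFieldMap ξ).hom.toAlgebra
  haveI : Algebra.IsAlgebraic K (P.residueField ξ) := halg
  obtain ⟨e, he⟩ := exists_eq_fromSpecResidueField σ h
  obtain ⟨e₀, he₀⟩ := exists_eq_fromSpecResidueField σ₀ h₀
  have key : ∀ (e' : P.residueField ξ ⟶ CommRingCat.of Ω) (σ' : Spec (CommRingCat.of Ω) ⟶ P),
      σ' = Spec.map e' ≫ P.fromSpecResidueField ξ →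
      σ' ≫ pr = Spec.map (CommRingCat.ofHom (algebraMap K Ω)) ≫ W.fromSpecResidueField (pr ξ) →
      ∀ x, e'.hom (algebraMap K (P.residueField ξ) x) = algebraMap K Ω x := by
    intro e' σ' hd hσ' x
    rw [hd, Category.assoc, ← Scheme.Hom.SpecMap_residueFieldMap_fromSpecResidueField, ← Category.assoc,
      ← Spec.map_comp, cancel_mono] at hσ'
    exact congrArg (fun φ => φ.hom x) (Spec.map_injective hσ')
  let eA : P.residueField ξ →ₐ[K] Ω := { e.hom with commutes' := key e σ he hσ }
  letI : Algebra (P.residueField ξ) Ω := e₀.hom.toAlgebra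
  haveI : IsScalarTower K (P.residueField ξ) Ω :=
    IsScalarTower.of_algebraMap_eq fun x => (key e₀ σ₀ he₀ hσ₀ x).symm
  haveI : Algebra.IsAlgebraic (P.residueField ξ) Ω := Algebra.IsAlgebraic.tower_top (K := K) _
  obtain ⟨G, hG⟩ := IsAlgClosed.surjective_domRestrict_of_isAlgebraic (K := K) (L := P.residueField ξ)
    (M := Ω) (E := Ω) eA
  have hb : Function.Bijective G := Algebra.IsAlgebraic.algHom_bijective G
  refine ⟨RingEquiv.ofBijective G.toRingHom hb, fun x => G.commutes x, ?_⟩
  rw [he₀, he, ← Category.assoc, ← Spec.map_comp]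
  congr 2
  apply CommRingCat.hom_ext
  exact RingHom.ext fun x => AlgHom.congr_fun hG x

end Groth.L22.SymCorr
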