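import Groth.Prelude.Def_AlgEqCyc
import Groth.Agent.L22.Cyc.ClosedSub
import Groth.Agent.L22.Cyc.Ord
import Mathlib.AlgebraicGeometry.ZariskisMainTheorem
import Mathlib.AlgebraicGeometry.Morphisms.Flat
import Mathlib.AlgebraicGeometry.Morphisms.UniversallyOpen

/-!
A component of an effective finite flat correspondence, as a finite flat scheme over the parameter space.
-/

set_option autoImplicit false
set_option linter.style.haveILetI false
set_option backward.isDefEq.respectTransparency false
set_option backward.isDefEq.respectTransparency.types false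

universe u

open AlgebraicGeometry CategoryTheory Groth.L22.Cyc

noncomputable section

namespace Groth.L22.SymCorr

variable {P W Z : Scheme.{u}} [IsIntegral Z] (i : Z ⟶ P) [IsClosedImmersion i]

theorem generic_specializes {ξ : P} (hξ : i (genericPoint Z) = ξ) (z : Z) : ξ ⤳ i z :=
  hξ ▸ ((genericPoint_spec Z).specializes trivial).map i.continuous

theorem ker_specMap_eq {ξ : P} (hξ : i (genericPoint Z) = ξ) (z : Z) (h : ξ ⤳ i z) :
    RingHom.ker (Cyc.specMap (i z) ξ h) = RingHom.ker (i.stalkMap z).hom := by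
  subst hξ
  ext a
  rw [RingHom.mem_ker, RingHom.mem_ker, ← map_eq_zero_iff _ (i.residueFieldMap (genericPoint Z)).hom.injective,
    residueFieldMap_specMap i ((genericPoint_spec Z).specializes trivial) h,
    map_eq_zero_iff _ (specMap_injective z _)]

/-- The local ring of the closure is the local ring of the closed subscheme. -/
def locQuotEquiv {ξ : P} (hξ : i (genericPoint Z) = ξ) (z : Z) (h : ξ ⤳ i z) :
    Cyc.LocQuot (i z) ξ h ≃+* Z.presheaf.stalk z :=
  (Ideal.quotEquivOfEq (ker_specMap_eq i hξ z h)).trans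
    (RingHom.quotientKerEquivOfSurjective (i.stalkMap_surjective z))

theorem locQuotEquiv_mk {ξ : P} (hξ : i (genericPoint Z) = ξ) (z : Z) (h : ξ ⤳ i z)
    (a : P.presheaf.stalk (i z)) :
    locQuotEquiv i hξ z h (Ideal.Quotient.mk _ a) = i.stalkMap z a := rfl

variable (pr : P ⟶ W) {ξ : P} (hξ : i (genericPoint Z) = ξ)

include hξ in
theorem flat_of_stalks
    (hflat : ∀ (v : P) (h : ξ ⤳ v),
      ((Ideal.Quotient.mk (RingHom.ker (Cyc.specMap v ξ h))).comp (pr.stalkMap v).hom).Flat) :
    Flat (i ≫ pr) := by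
  rw [Flat.iff_flat_stalkMap]
  intro z
  have h := generic_specializes i hξ z
  have := (hflat (i z) h).comp (RingHom.Flat.of_bijective (f := (locQuotEquiv i hξ z h).toRingHom) (locQuotEquiv i hξ z h).bijective)
  rw [Scheme.Hom.stalkMap_comp]
  exact this

omit [IsIntegral Z] in
theorem isFinite_of_fibres [IsProper pr] (hfin : ∀ w : W, (Set.range i ∩ pr ⁻¹' {w}).Finite) :
    IsFinite (i ≫ pr) := by
  rw [IsFinite.iff_isProper_and_locallyQuasiFinite]
  refine ⟨inferInstance, LocallyQuasiFinite.of_finite_preimage_singleton _ fun w => ?_⟩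
  refine Set.Finite.of_finite_image ((hfin w).subset ?_) i.isClosedEmbedding.injective.injOn
  rintro _ ⟨z, hz, rfl⟩
  exact ⟨⟨z, rfl⟩, hz⟩

include hξ in
theorem fibreMult_eq (z : Z) (h : ξ ⤳ i z) :
    AlgEqCyc.fibreMult pr (i z) ξ h =
      (Module.length (Z.presheaf.stalk z) (Z.presheaf.stalk z ⧸
        (IsLocalRing.maximalIdeal (W.presheaf.stalk ((i ≫ pr) z))).map ((i ≫ pr).stalkMap z).hom)).toNat := by
  let A := P.presheaf.stalk (i z)
  let mk := Ideal.Quotient.mk (RingHom.ker (Cyc.specMap (i z) ξ h))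
  let e := locQuotEquiv i hξ z h
  let J := (IsLocalRing.maximalIdeal (W.presheaf.stalk (pr (i z)))).map (mk.comp (pr.stalkMap (i z)).hom)
  let J' := (IsLocalRing.maximalIdeal (W.presheaf.stalk ((i ≫ pr) z))).map ((i ≫ pr).stalkMap z).hom
  have hJ : J' = J.map e.toRingHom := by
    simp only [J, J']
    rw [Ideal.map_map, Scheme.Hom.stalkMap_comp]
    rfl
  let Q := Z.presheaf.stalk z ⧸ J'
  let Q₁ := Cyc.LocQuot (i z) ξ h ⧸ J
  let ψ : A →+* Q := (Ideal.Quotient.mk J').comp (i.stalkMap z).hom
  have hψ : Function.Surjective ψ := Ideal.Quotient.mk_surjective.comp (i.stalkMap_surjective z)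
  letI : Algebra A Q := ψ.toAlgebra
  have hker : ∀ a : A, ψ a = 0 ↔ algebraMap A Q₁ a = 0 := fun a => by
    show Ideal.Quotient.mk J' (e (mk a)) = 0 ↔ Ideal.Quotient.mk J (mk a) = 0
    rw [Ideal.Quotient.eq_zero_iff_mem, Ideal.Quotient.eq_zero_iff_mem, hJ]
    exact (Ideal.mem_map_iff_of_surjective e.toRingHom e.surjective).trans
      ⟨fun ⟨y, hy, hye⟩ => e.injective hye ▸ hy, fun h => ⟨_, h, rfl⟩⟩
  show (Module.length A Q₁).toNat = _
  have e₁ : Function.Surjective (Algebra.linearMap A Q₁) :=
    Ideal.Quotient.mk_surjective.comp Ideal.Quotient.mk_surjective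
  have e₂ : Function.Surjective (Algebra.linearMap A Q) := hψ
  have hk : LinearMap.ker (Algebra.linearMap A Q₁) = LinearMap.ker (Algebra.linearMap A Q) :=
    Submodule.ext fun a => (hker a).symm
  let L : Q₁ ≃ₗ[A] Q := (LinearMap.quotKerEquivOfSurjective _ e₁).symm.trans
    ((Submodule.quotEquivOfEq _ _ hk).trans (LinearMap.quotKerEquivOfSurjective _ e₂))
  rw [L.length_eq, Module.length_eq_of_surjective (R := Q) (S := A) hψ,
    ← Module.length_eq_of_surjective (R := Q) (S := Z.presheaf.stalk z) Ideal.Quotient.mk_surjective]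

include hξ in
theorem range_eq_closure : Set.range i = closure {ξ} := by
  subst hξ
  refine subset_antisymm ?_ ?_
  · rintro _ ⟨z, rfl⟩
    exact specializes_iff_mem_closure.1 (generic_specializes i rfl z)
  · exact closure_minimal (Set.singleton_subset_iff.2 ⟨_, rfl⟩) i.isClosedEmbedding.isClosed_range

/-- A finite flat morphism of finite presentation to a connected scheme is surjective. -/
theorem surjective_of_flat_finite {Y T : Scheme.{u}} [Nonempty Y] [PreconnectedSpace T] (f : Y ⟶ T)
    [Flat f] [LocallyOfFinitePresentation f] [IsFinite f] : Function.Surjective f := by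
  have hc : IsClopen (Set.range f) :=
    ⟨f.isClosedMap.isClosed_range, f.isOpenMap.isOpen_range⟩
  rcases isClopen_iff.1 hc with h | h
  · exact absurd h (Set.range_nonempty f).ne_empty
  · exact Set.range_eq_univ.1 h

end Groth.L22.SymCorr
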