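import Groth.Agent.L22.SymCorr.Local
import Groth.Agent.L27.Quot.Finite

/-!
An effective finite flat correspondence defines a morphism to the symmetric product.
-/

set_option autoImplicit false
set_option linter.style.haveILetI false
set_option backward.isDefEq.respectTransparency false
set_option backward.isDefEq.respectTransparency.types false

universe u

open AlgebraicGeometry CategoryTheory CategoryTheory.Limits Groth.L22.Cyc

noncomputable section

namespace Groth.L22.SymCorr

section Power

variable {C S : Scheme.{u}} (f : C ⟶ S)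

/-- The fibre power is proper over the base. -/
theorem isProper_fibPow_base [IsProper f] : ∀ n : ℕ, IsProper (WidePullback.base fun _ : Fin n => f)
  | 0 => by
    haveI : IsIso (WidePullback.base fun _ : Fin 0 => f) := by
      refine ⟨WidePullback.lift (𝟙 S) (fun i => i.elim0) (fun i => i.elim0), ?_, WidePullback.lift_base _ _ _ _⟩
      apply WidePullback.hom_ext
      · intro i; exact i.elim0
      · simp
    infer_instance
  | n + 1 => by
    haveI := isProper_fibPow_base n
    let i : Fin (n + 1) := Fin.last n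
    let dr : SymProd.fibPow f (n + 1) ⟶ SymProd.fibPow f n :=
      WidePullback.lift (WidePullback.base fun _ : Fin (n + 1) => f)
        (fun k => WidePullback.π (fun _ : Fin (n + 1) => f) (i.succAbove k)) fun k => WidePullback.π_arrow _ _
    have w : dr ≫ WidePullback.base (fun _ : Fin n => f) = WidePullback.base fun _ : Fin (n + 1) => f :=
      WidePullback.lift_base _ _ _ _
    have hsq : IsPullback dr (WidePullback.π (fun _ : Fin (n + 1) => f) i)
        (WidePullback.base fun _ : Fin n => f) f := by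
      refine IsPullback.of_iso_pullback ⟨by rw [w, WidePullback.π_arrow]⟩
        ⟨pullback.lift dr (WidePullback.π _ i) (by rw [w, WidePullback.π_arrow]),
        WidePullback.lift (pullback.snd (WidePullback.base fun _ : Fin n => f) f ≫ f)
          (i.insertNth (pullback.snd (WidePullback.base fun _ : Fin n => f) f)
            fun k => pullback.fst (WidePullback.base fun _ : Fin n => f) f ≫ WidePullback.π _ k)
          (fun j => ?_), ?_, ?_⟩ (pullback.lift_fst _ _ _) (pullback.lift_snd _ _ _)
      · cases j using Fin.succAboveCases i with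
        | x => simp
        | p k => simp [pullback.condition]
      · apply WidePullback.hom_ext
        · intro j
          cases j using Fin.succAboveCases i with
          | x => simp
          | p k => simp [dr]
        · simp
      · apply pullback.hom_ext
        · apply WidePullback.hom_ext
          · intro k; simp [dr]
          · simp [dr, pullback.condition]
        · simp
    haveI : IsProper dr := MorphismProperty.of_isPullback (P := @IsProper) hsq.flip ‹_›
    rw [← w]
    infer_instance

end Power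

variable {k : Type u} [Field k] [IsAlgClosed k] [CharZero k] {X W : Scheme.{u}}
  (sx : X ⟶ Spec (CommRingCat.of k)) (sw : W ⟶ Spec (CommRingCat.of k))

omit [CharZero k] in
/-- A rational point of the symmetric product is determined by its cycle. -/
theorem eq_of_isCycleOfSymPt [LocallyOfFiniteType sx] {d : ℕ} {Sy : Scheme.{u}}
    (q : SymProd.fibPow sx d ⟶ Sy) (g : Sy ⟶ Spec (CommRingCat.of k)) (hS : SymProd.IsSymProd sx d q g)
    {y y' : Spec (CommRingCat.of k) ⟶ Sy} (hy : y ≫ g = 𝟙 _) (hy' : y' ≫ g = 𝟙 _) {α : X → ℤ}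
    (h : ZCorr.IsCycleOfSymPt sx d q y α) (h' : ZCorr.IsCycleOfSymPt sx d q y' α) : y = y' := by
  obtain ⟨t, rfl, ht⟩ := h
  obtain ⟨t', rfl, ht'⟩ := h'
  rw [Category.assoc, hS.over] at hy hy'
  have hcard : ∀ x : X,
      Nat.card {i : Fin d // (t' ≫ WidePullback.π (fun _ => sx) i) (IsLocalRing.closedPoint k) = x} =
      Nat.card {i : Fin d // (t ≫ WidePullback.π (fun _ => sx) i) (IsLocalRing.closedPoint k) = x} := fun x =>
    Nat.cast_injective (R := ℤ) ((ht' x).symm.trans (ht x))
  let e : Equiv.Perm (Fin d) := Equiv.ofFiberEquiv fun x => Classical.choice (Finite.card_eq.1 (hcard x))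
  have he : ∀ i, (t ≫ WidePullback.π (fun _ => sx) (e i)) (IsLocalRing.closedPoint k) =
      (t' ≫ WidePullback.π (fun _ => sx) i) (IsLocalRing.closedPoint k) := fun i =>
    Equiv.ofFiberEquiv_map (f := fun i => (t' ≫ WidePullback.π (fun _ => sx) i) (IsLocalRing.closedPoint k))
      (g := fun i => (t ≫ WidePullback.π (fun _ => sx) i) (IsLocalRing.closedPoint k)) _ i
  have htt : t' = t ≫ SymProd.permHom sx d e.symm := by
    apply WidePullback.hom_ext
    · intro i
      rw [Category.assoc, SymProd.permHom_π, Equiv.symm_symm]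
      refine ext_of_apply_closedPoint_eq sx ?_ ?_ (he i).symm
      · rw [Category.assoc, WidePullback.π_arrow]; exact hy'
      · rw [Category.assoc, WidePullback.π_arrow]; exact hy
    · rw [Category.assoc, SymProd.permHom_base, hy, hy']
  rw [htt, Category.assoc]
  exact (congrArg (t ≫ ·) (hS.isQuot.inv ⟨e.symm⟩)).symm

/-- The morphism to the symmetric product defined by an effective finite flat correspondence. -/
theorem exists_morphism [IsProper sx] [LocallyOfFiniteType sw] [IsIntegral W]
    (hnorm : ∀ U : W.Opens, Nonempty U → IsIntegrallyClosed Γ(W, U))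
    {d : ℕ} {Sy : Scheme.{u}} (q : SymProd.fibPow sx d ⟶ Sy) (g : Sy ⟶ Spec (CommRingCat.of k))
    (hS : SymProd.IsSymProd sx d q g)
    (Γc : AlgebraicCycle (pullback sx sw) ℤ) (hΓfin : {ξ | Γc ξ ≠ 0}.Finite) (hΓ0 : ∀ ξ, 0 ≤ Γc ξ)
    (hfin : ∀ ξ, Γc ξ ≠ 0 → ∀ w : W, (closure {ξ} ∩ pullback.snd sx sw ⁻¹' {w}).Finite)
    (hflat : ∀ ξ, Γc ξ ≠ 0 → ∀ (z : ↥(pullback sx sw)) (h : ξ ⤳ z),
      ((Ideal.Quotient.mk (RingHom.ker (Cyc.specMap z ξ h))).comp ((pullback.snd sx sw).stalkMap z).hom).Flat)
    (hdeg : ∀ (u : Spec (CommRingCat.of k) ⟶ W) (hu : u ≫ sw = 𝟙 _),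
      ∑ᶠ x, AlgEqCyc.fibreFun sx sw Γc u hu x = (d : ℤ)) :
    ∃ F : W ⟶ Sy, F ≫ g = sw ∧ ∀ (u : Spec (CommRingCat.of k) ⟶ W) (hu : u ≫ sw = 𝟙 _),
        ZCorr.IsCycleOfSymPt sx d q (u ≫ F) (AlgEqCyc.fibreFun sx sw Γc u hu) := by
  classical
  haveI := isProper_fibPow_base sx d
  haveI : IsSeparated (q ≫ g) := by rw [hS.over]; infer_instance
  haveI : LocallyOfFiniteType (q ≫ g) := by rw [hS.over]; infer_instance
  haveI : IsSeparated g := Groth.L27.Quot.isSeparated_of_comp hS.isQuot g
  haveI : LocallyOfFiniteType g := Groth.L27.Quot.locallyOfFiniteType_desc hS.isQuot g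
  choose U hU hmem using fun w : W => exists_isAffineOpen_mem_and_subset (x := w) (U := ⊤) trivial
  have hne : ∀ w, Nonempty (U w) := fun w => ⟨⟨w, (hmem w).1⟩⟩
  choose F hFg hF using fun w : W => exists_local sx sw hnorm q g hS Γc hΓfin hΓ0 hfin hflat hdeg (hU w) (hne w)
  let 𝒰 : W.OpenCover := W.openCoverOfIsOpenCover U (TopologicalSpace.IsOpenCover.mk
    (top_le_iff.1 fun w _ => TopologicalSpace.Opens.mem_iSup.2 ⟨w, (hmem w).1⟩))
  have hagree : ∀ a b : W, pullback.fst (U a).ι (U b).ι ≫ F a = pullback.snd (U a).ι (U b).ι ≫ F b := by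
    intro a b
    have hover : (pullback.fst (U a).ι (U b).ι ≫ F a) ≫ g = (pullback.snd (U a).ι (U b).ι ≫ F b) ≫ g := by
      rw [Category.assoc, hFg, Category.assoc, hFg, pullback.condition_assoc]
    haveI : IsReduced (pullback (U a).ι (U b).ι) :=
      isReduced_of_isOpenImmersion (pullback.fst (U a).ι (U b).ι)
    haveI : LocallyOfFiniteType ((pullback.fst (U a).ι (U b).ι ≫ F a) ≫ g) := by
      rw [Category.assoc, hFg]; infer_instance
    refine ext_of_apply_eq g Set.univ isOpen_univ.isLocallyClosed dense_univ (fun x _ hx => ?_) hover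
    let s := pullback.fst (U a).ι (U b).ι ≫ (U a).ι ≫ sw
    haveI : LocallyOfFiniteType s := inferInstance
    let p := pointOfClosedPoint s x hx
    have hp : (p ≫ pullback.fst (U a).ι (U b).ι ≫ (U a).ι) ≫ sw = 𝟙 _ := by
      rw [Category.assoc, Category.assoc]
      exact pointOfClosedPoint_comp s x hx
    have h1 := hF a (p ≫ pullback.fst (U a).ι (U b).ι) (by simpa using hp)
    have h2 := hF b (p ≫ pullback.snd (U a).ι (U b).ι)
      (by simpa [← pullback.condition_assoc] using hp)
    have e : (p ≫ pullback.fst (U a).ι (U b).ι) ≫ (U a).ι = (p ≫ pullback.snd (U a).ι (U b).ι) ≫ (U b).ι := by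
      simp [pullback.condition]
    have h1' : ZCorr.IsCycleOfSymPt sx d q ((p ≫ pullback.fst (U a).ι (U b).ι) ≫ F a)
        (AlgEqCyc.fibreFun sx sw Γc ((p ≫ pullback.snd (U a).ι (U b).ι) ≫ (U b).ι) (by rw [← e]; simpa using hp)) := by
      convert h1 using 2
      exact e.symm
    have hy : ∀ {w : W} (u' : Spec (CommRingCat.of k) ⟶ (U w).toScheme), (u' ≫ (U w).ι) ≫ sw = 𝟙 _ →
        (u' ≫ F w) ≫ g = 𝟙 _ := fun {w} u' hu => by rw [Category.assoc, hFg, ← Category.assoc, hu]
    have heq := eq_of_isCycleOfSymPt sx q g hS (hy _ (by simpa using hp))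
      (hy _ (by simpa [← pullback.condition_assoc] using hp)) h1' h2
    have h3 := congrArg (fun φ : Spec (CommRingCat.of k) ⟶ Sy => φ (IsLocalRing.closedPoint k)) heq
    simpa [p, Scheme.Hom.comp_apply] using h3
  refine ⟨𝒰.glueMorphisms F hagree, 𝒰.hom_ext _ _ fun w => ?_, fun u hu => ?_⟩
  · rw [← Category.assoc, 𝒰.ι_glueMorphisms F hagree w]
    exact hFg w
  · haveI : Subsingleton ↥(Spec (CommRingCat.of k)) := inferInstanceAs (Subsingleton (PrimeSpectrum k))
    set w := u (IsLocalRing.closedPoint k)
    let u' : Spec (CommRingCat.of k) ⟶ (U w).toScheme := IsOpenImmersion.lift (U w).ι u (by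
      rintro _ ⟨z, rfl⟩
      rw [Scheme.Opens.range_ι, Subsingleton.elim z (IsLocalRing.closedPoint k)]
      exact (hmem w).1)
    have hu' : u' ≫ (U w).ι = u := IsOpenImmersion.lift_fac _ _ _
    have h := hF w u' (by rw [hu']; exact hu)
    have he : u ≫ 𝒰.glueMorphisms F hagree = u' ≫ F w := by
      conv_lhs => rw [← hu', Category.assoc]
      exact congrArg (u' ≫ ·) (𝒰.ι_glueMorphisms F hagree w)
    rw [he]
    convert h using 2
    exact hu'.symm

end Groth.L22.SymCorr
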