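import Groth.Agent.L22.SymCorr.Comp
import Groth.Agent.L22.Cyc.Mult
import Groth.Agent.L22.Cyc.Limit
import Mathlib.AlgebraicGeometry.AlgClosed.Basic

/-!
A correspondence without vertical component whose fibre cycles vanish over an open set is zero.
-/

set_option autoImplicit false
set_option linter.style.haveILetI false
set_option backward.isDefEq.respectTransparency false
set_option backward.isDefEq.respectTransparency.types false

universe u

open AlgebraicGeometry CategoryTheory CategoryTheory.Limits Groth.L22.Cyc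

noncomputable section

namespace Groth.L22.SymCorr

/-- A finite closed trace on a fibre has no specialisations. -/
theorem eq_of_specializes_of_finite_fibre {P W : Scheme.{u}} (f : P ⟶ W) [LocallyOfFiniteType f] {C : Set P}
    (hC : IsClosed C) (w : W) (hfin : (C ∩ f ⁻¹' {w}).Finite) {a b : P} (ha : a ∈ C) (hb : b ∈ C)
    (haw : f a = w) (hbw : f b = w) (h : a ⤳ b) : a = b := by
  haveI : LocallyOfFiniteType (f.fiberToSpecResidueField w) :=
    MorphismProperty.pullback_snd f (W.fromSpecResidueField w) inferInstance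
  haveI : JacobsonSpace (f.fiber w) := LocallyOfFiniteType.jacobsonSpace (f.fiberToSpecResidueField w)
  let T : Set (f.fiber w) := f.fiberι w ⁻¹' C
  have hemb : Topology.IsEmbedding (f.fiberι w) := Scheme.Hom.isEmbedding (f.fiberι w)
  have hT : IsClosed T := hC.preimage (f.fiberι w).continuous
  haveI : Finite T := Set.Finite.to_subtype (Set.Finite.of_finite_image (hfin.subset (by
    rintro _ ⟨z, hz, rfl⟩
    exact ⟨hz, (Scheme.Hom.range_fiberι f w).le ⟨z, rfl⟩⟩)) hemb.injective.injOn)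
  haveI : JacobsonSpace T := JacobsonSpace.of_isClosedEmbedding hT.isClosedEmbedding_subtypeVal
  haveI : DiscreteTopology T := JacobsonSpace.discreteTopology (Set.toFinite _)
  obtain ⟨a', rfl⟩ := (Scheme.Hom.range_fiberι f w).ge (show a ∈ f ⁻¹' {w} from haw)
  obtain ⟨b', rfl⟩ := (Scheme.Hom.range_fiberι f w).ge (show b ∈ f ⁻¹' {w} from hbw)
  have h' : (⟨a', ha⟩ : T) ⤳ ⟨b', hb⟩ :=
    Topology.IsInducing.subtypeVal.specializes_iff.1 (hemb.isInducing.specializes_iff.1 h)
  exact congrArg (fun z : T => f.fiberι w z.1) h'.eq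

variable {k : Type u} [Field k] [IsAlgClosed k] {X W : Scheme.{u}}
  (sx : X ⟶ Spec (CommRingCat.of k)) (sw : W ⟶ Spec (CommRingCat.of k))

/-- A correspondence without vertical component and with vanishing fibre cycles over an open set is zero. -/
theorem eq_zero_of_fibreFun_eq_zero [LocallyOfFiniteType sx] [LocallyOfFiniteType sw] [IsIntegral W]
    [CompactSpace ↥(pullback sx sw)] (Γc : AlgebraicCycle (pullback sx sw) ℤ)
    (hvert : ∀ ξ, Γc ξ ≠ 0 → pullback.snd sx sw ξ = genericPoint W)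
    (U : W.Opens) (hU : (U : Set W).Nonempty)
    (hfin : ∀ ξ, Γc ξ ≠ 0 → ∀ w ∈ U, (closure {ξ} ∩ pullback.snd sx sw ⁻¹' {w}).Finite)
    (hzero : ∀ (u : Spec (CommRingCat.of k) ⟶ W) (hu : u ≫ sw = 𝟙 _),
      u (IsLocalRing.closedPoint k) ∈ U → ∀ x : X, AlgEqCyc.fibreFun sx sw Γc u hu x = 0) :
    Γc = 0 := by
  classical
  by_contra hne
  obtain ⟨ξ, hξ⟩ : ∃ ξ, Γc ξ ≠ 0 := by
    by_contra h
    push Not at h
    exact hne (Function.locallyFinsuppWithin.ext fun ξ => by simpa using h ξ)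
  have hηU : genericPoint W ∈ U :=
    ((genericPoint_spec W).mem_open_set_iff U.2).2 (by simpa using hU)
  set pr := pullback.snd sx sw
  let S : Set ↥(pullback sx sw) := ⋃ η ∈ {η | Γc η ≠ 0 ∧ η ≠ ξ}, closure {η}
  have hS : IsClosed S := ((Groth.L22.Cyc.finite_support Γc).subset fun η hη => hη.1).isClosed_biUnion
    fun η _ => isClosed_closure
  have hξS : ξ ∉ S := fun h => by
    simp only [S, Set.mem_iUnion] at h
    obtain ⟨η, ⟨hη, hne'⟩, hcl⟩ := h
    exact hne' (eq_of_specializes_of_finite_fibre pr isClosed_closure (genericPoint W)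
      (hfin η hη _ hηU) (subset_closure rfl) hcl (hvert η hη) (hvert ξ hξ) (specializes_iff_mem_closure.2 hcl))
  let O : Set ↥(pullback sx sw) := (closure {ξ} ∩ (pr ⁻¹ᵁ U : Set _)) ∩ Sᶜ
  haveI : JacobsonSpace ↥(pullback sx sw) := LocallyOfFiniteType.jacobsonSpace (pr ≫ sw)
  obtain ⟨v, ⟨⟨hvξ, hvU⟩, hvS⟩, hv⟩ := nonempty_inter_closedPoints (Z := O)
    ⟨ξ, ⟨subset_closure rfl, show pr ξ ∈ U from hvert ξ hξ ▸ hηU⟩, hξS⟩
    ((isClosed_closure.isLocallyClosed.inter (pr ⁻¹ᵁ U).2.isLocallyClosed).inter hS.isOpen_compl.isLocallyClosed)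
  let p := pointOfClosedPoint (pr ≫ sw) v hv
  have hp : (p ≫ pr) ≫ sw = 𝟙 _ := by rw [Category.assoc]; exact pointOfClosedPoint_comp _ _ _
  have hpv : p (IsLocalRing.closedPoint k) = v := pointOfClosedPoint_apply _ _ _ _
  let x : X := (p ≫ pullback.fst sx sw) (IsLocalRing.closedPoint k)
  have hpx : (p ≫ pullback.fst sx sw) ≫ sx = 𝟙 _ := by
    rw [Category.assoc, pullback.condition]
    exact pointOfClosedPoint_comp _ _ _
  have hps : p = (p ≫ pullback.fst sx sw) ≫ AlgEqCyc.slice sx sw (p ≫ pr) hp := by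
    apply pullback.hom_ext
    · simp [AlgEqCyc.slice]
    · rw [Category.assoc, AlgEqCyc.slice, pullback.lift_snd, ← Category.assoc, hpx, Category.id_comp]
  have hsl : AlgEqCyc.slice sx sw (p ≫ pr) hp x = v := by
    rw [← hpv]
    exact (congrArg (fun φ : Spec (CommRingCat.of k) ⟶ pullback sx sw => φ (IsLocalRing.closedPoint k)) hps).symm
  have hpU : (p ≫ pr) (IsLocalRing.closedPoint k) ∈ U := by
    rw [Scheme.Hom.comp_apply, hpv]
    exact hvU
  have hsp : ξ ⤳ AlgEqCyc.slice sx sw (p ≫ pr) hp x := hsl.symm ▸ specializes_iff_mem_closure.2 hvξ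
  have h0 := hzero (p ≫ pr) hp hpU x
  rw [AlgEqCyc.fibreFun, finsum_eq_single _ ⟨ξ, hξ, hsp⟩ fun η hη => absurd (Set.mem_iUnion₂.2
    ⟨η.1, ⟨η.2.1, fun e => hη (Subtype.ext e)⟩, specializes_iff_mem_closure.1 (η.2.2.trans (specializes_of_eq hsl))⟩)
    hvS] at h0
  obtain ⟨z, hz⟩ : AlgEqCyc.slice sx sw (p ≫ pr) hp x ∈ Set.range (clι ξ) := by
    rw [range_clι, hsl]
    exact hvξ
  haveI : IsLocallyNoetherian (clSub ξ) :=
    LocallyOfFiniteType.isLocallyNoetherian (clι ξ ≫ pr ≫ sw)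
  have hgen : FibGen (clι ξ ≫ pr) z := fun y hy hyz => (clι ξ).isClosedEmbedding.injective <|
    eq_of_specializes_of_finite_fibre pr isClosed_closure ((clι ξ ≫ pr) z)
      (hfin ξ hξ _ (show (clι ξ ≫ pr) z ∈ U by rw [Scheme.Hom.comp_apply, hz, hsl]; exact hvU))
      ((range_clι ξ).le ⟨y, rfl⟩) ((range_clι ξ).le ⟨z, rfl⟩) hy rfl (hyz.map (clι ξ).continuous)
  have hpos := toNat_mult_pos hgen
  have hcongr : ∀ (v' : ↥(pullback sx sw)) (e : clι ξ z = v') (h' : ξ ⤳ v'),
      AlgEqCyc.fibreMult pr v' ξ h' = AlgEqCyc.fibreMult pr (clι ξ z) ξ (e.symm ▸ h') := by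
    intro v' e h'
    subst e
    rfl
  rw [hcongr _ hz hsp, fibreMult_eq (clι ξ) pr (clι_genericPoint ξ) z, mul_eq_zero] at h0
  rcases h0 with h0 | h0
  · exact hξ h0
  · exact hpos.ne' (Nat.cast_eq_zero.1 h0)

end Groth.L22.SymCorr
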