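import Groth.Agent.L22.SymCorr.Local
import Groth.Agent.L22.SymCorr.Main
import Groth.Agent.L22.SymCorr.Residue
import Groth.Agent.L22.SymCorr.Zero
import Groth.Agent.L22.Cyc.DivSupport
import Groth.Agent.L20.FlatStalk
import Groth.Agent.L27.Quot.Geometric

/-!
A morphism to a symmetric product is induced by an effective finite correspondence.
-/

set_option autoImplicit false
set_option linter.style.haveILetI false
set_option backward.isDefEq.respectTransparency false
set_option backward.isDefEq.respectTransparency.types false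

universe u

open AlgebraicGeometry CategoryTheory CategoryTheory.Limits Groth.L22.Cyc

noncomputable section

namespace Groth.L22.SymCorr

/-- A point of an affine preimage mapped down. -/
theorem map_fromSpec_comp {Y T : Scheme.{u}} (f : Y ⟶ T) {U : T.Opens} (hU : IsAffineOpen U)
    (hV : IsAffineOpen (f ⁻¹ᵁ U)) {A : Type u} [CommRing A] (z : Γ(Y, f ⁻¹ᵁ U) →+* A) :
    Spec.map (CommRingCat.ofHom z) ≫ hV.fromSpec ≫ f =
      Spec.map (CommRingCat.ofHom (z.comp (f.app U).hom)) ≫ hU.fromSpec := by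
  have h := IsAffineOpen.SpecMap_appLE_fromSpec f hU hV le_rfl
  rw [← Scheme.Hom.app_eq_appLE] at h
  rw [← h, ← Category.assoc, ← Spec.map_comp]
  rfl

theorem ringHom_eq_of_specMap {T : Scheme.{u}} {U : T.Opens} (hU : IsAffineOpen U) {A : Type u} [CommRing A]
    {a b : Γ(T, U) →+* A}
    (h : Spec.map (CommRingCat.ofHom a) ≫ hU.fromSpec = Spec.map (CommRingCat.ofHom b) ≫ hU.fromSpec) : a = b := by
  rw [cancel_mono] at h
  exact congrArg CommRingCat.Hom.hom (Spec.map_injective h)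

/-- Flatness of the sections from flatness of the stalks over an affine open. -/
theorem module_flat_of_stalks {Y T : Scheme.{u}} (f : Y ⟶ T) [IsAffineHom f] {U : T.Opens} (hU : IsAffineOpen U)
    (h : ∀ y, f y ∈ U → (f.stalkMap y).hom.Flat) :
    letI := appAlgebra f U
    Module.Flat Γ(T, U) Γ(Y, f ⁻¹ᵁ U) := by
  have hV : IsAffineOpen (f ⁻¹ᵁ U) := hU.preimage f
  haveI : IsAffine (f ⁻¹ᵁ U).toScheme := hV
  haveI : Flat ((f ⁻¹ᵁ U).ι ≫ f) := by
    rw [Flat.iff_flat_stalkMap]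
    intro y
    rw [Scheme.Hom.stalkMap_comp]
    exact (h y.1 y.2).comp (RingHom.Flat.of_bijective
      (ConcreteCategory.bijective_of_isIso ((f ⁻¹ᵁ U).ι.stalkMap y)))
  have hle : (⊤ : (f ⁻¹ᵁ U).toScheme.Opens) ≤ ((f ⁻¹ᵁ U).ι ≫ f) ⁻¹ᵁ U := fun y _ => y.2
  have h1 := ((f ⁻¹ᵁ U).ι ≫ f).flat_appLE hU (isAffineOpen_top _) hle
  have hle2 : (⊤ : (f ⁻¹ᵁ U).toScheme.Opens) ≤ (f ⁻¹ᵁ U).ι ⁻¹ᵁ (f ⁻¹ᵁ U) := fun y _ => y.2
  haveI hiso : IsIso ((f ⁻¹ᵁ U).ι.appLE (f ⁻¹ᵁ U) ⊤ hle2) := by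
    rw [Scheme.Opens.ι_appLE]
    haveI : IsIso (homOfLE (Scheme.Opens.ι_image_top (f ⁻¹ᵁ U)).le) :=
      ⟨homOfLE (Scheme.Opens.ι_image_top _).ge, Subsingleton.elim _ _, Subsingleton.elim _ _⟩
    exact inferInstanceAs (IsIso (Y.presheaf.map (homOfLE (Scheme.Opens.ι_image_top (f ⁻¹ᵁ U)).le).op))
  have e : ((f ⁻¹ᵁ U).ι ≫ f).appLE U ⊤ hle = f.app U ≫ (f ⁻¹ᵁ U).ι.appLE (f ⁻¹ᵁ U) ⊤ hle2 :=
    Scheme.Hom.comp_appLE _ _ _ _ hle
  have h2 : (((f ⁻¹ᵁ U).ι ≫ f).appLE U ⊤ hle ≫ inv ((f ⁻¹ᵁ U).ι.appLE (f ⁻¹ᵁ U) ⊤ hle2)).hom.Flat :=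
    h1.comp (RingHom.Flat.of_bijective (ConcreteCategory.bijective_of_isIso _))
  rw [e, Category.assoc, IsIso.hom_inv_id, Category.comp_id] at h2
  exact h2

/-- Flatness at a point of the reduced closure, from the local rings of the closure. -/
theorem flat_stalk_of_locQuot {P W Z : Scheme.{u}} [IsIntegral Z] (i : Z ⟶ P) [IsClosedImmersion i] (pr : P ⟶ W)
    {ξ : P} (hξ : i (genericPoint Z) = ξ) (z : Z)
    (hflat : ((Ideal.Quotient.mk (RingHom.ker (Cyc.specMap (i z) ξ (generic_specializes i hξ z)))).comp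
      (pr.stalkMap (i z)).hom).Flat) :
    ((i ≫ pr).stalkMap z).hom.Flat := by
  have := hflat.comp (RingHom.Flat.of_bijective
    (f := (locQuotEquiv i hξ z (generic_specializes i hξ z)).toRingHom) (locQuotEquiv i hξ z (generic_specializes i hξ z)).bijective)
  rw [Scheme.Hom.stalkMap_comp]
  exact this

variable {k : Type u} [Field k] [IsAlgClosed k] [CharZero k] {X W : Scheme.{u}}
  (sx : X ⟶ Spec (CommRingCat.of k)) (sw : W ⟶ Spec (CommRingCat.of k))

/-- The effective correspondence induced by a morphism to the symmetric product. -/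
theorem exists_cycle [IsProper sx] [LocallyOfFiniteType sw] [IsIntegral W] (n : ℕ)
    (hdim : topologicalKrullDim W = n) {d : ℕ} {Sy : Scheme.{u}} (q : SymProd.fibPow sx d ⟶ Sy)
    (g : Sy ⟶ Spec (CommRingCat.of k)) (hS : SymProd.IsSymProd sx d q g)
    (δ : ↥(pullback sx sw) → ℤ) (hδ : Cyc.DeltaCompat (pullback.fst sx sw ≫ sx) δ (fun _ => 0))
    (F : W ⟶ Sy) (hF : F ≫ g = sw) :
    ∃ Γc : AlgebraicCycle (pullback sx sw) ℤ, Γc ∈ Cyc.Zk (pullback sx sw) δ n ∧ (∀ ξ, 0 ≤ Γc ξ) ∧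
      (∀ ξ, Γc ξ ≠ 0 → ∀ w : W, (closure {ξ} ∩ pullback.snd sx sw ⁻¹' {w}).Finite) ∧
      ∀ (u : Spec (CommRingCat.of k) ⟶ W) (hu : u ≫ sw = 𝟙 _),
        (∀ ξ, Γc ξ ≠ 0 → ∀ (z : ↥(pullback sx sw)) (h : ξ ⤳ z),
          pullback.snd sx sw z = u (IsLocalRing.closedPoint k) →
            ((Ideal.Quotient.mk (RingHom.ker (Cyc.specMap z ξ h))).comp
              ((pullback.snd sx sw).stalkMap z).hom).Flat) →
        ZCorr.IsCycleOfSymPt sx d q (u ≫ F) (AlgEqCyc.fibreFun sx sw Γc u hu) := by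
  classical
  haveI : IsLocallyNoetherian W := LocallyOfFiniteType.isLocallyNoetherian sw
  haveI := isProper_fibPow_base sx d
  haveI : LocallyOfFiniteType (q ≫ g) := by rw [hS.over]; infer_instance
  haveI : IsFinite q := Groth.L27.Quot.isFinite_of_comp hS.isQuot g
  haveI : Surjective q := ⟨Groth.L27.Quot.surjective hS.isQuot⟩
  set pr := pullback.snd sx sw with hpr
  -- the geometric generic point
  let η := genericPoint W
  let K : Type u := W.residueField η
  let Ω : Type u := AlgebraicClosure K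
  let cK : CommRingCat.of k ⟶ CommRingCat.of K := Spec.preimage (W.fromSpecResidueField η ≫ sw)
  haveI : CharZero K := cK.hom.charZero_iff cK.hom.injective |>.1 inferInstance
  haveI : CharZero Ω := charZero_of_injective_algebraMap (algebraMap K Ω).injective
  let pt : ↥(Spec (CommRingCat.of Ω)) := IsLocalRing.closedPoint Ω
  haveI : Subsingleton ↥(Spec (CommRingCat.of Ω)) := inferInstanceAs (Subsingleton (PrimeSpectrum Ω))
  let y0 : Spec (CommRingCat.of Ω) ⟶ W :=
    Spec.map (CommRingCat.ofHom (algebraMap K Ω)) ≫ W.fromSpecResidueField η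
  have hy0 : y0 pt = η := by
    simp only [y0, Scheme.Hom.comp_apply]
    exact Scheme.fromSpecResidueField_apply η _
  haveI : IsFinite (pullback.fst F q) := MorphismProperty.pullback_fst F q inferInstance
  haveI : Surjective (pullback.fst F q) := MorphismProperty.pullback_fst F q inferInstance
  obtain ⟨τ', hτ'⟩ := Groth.L27.Quot.exists_lift_of_integral (pullback.fst F q) y0
  let θ := τ' pt
  let T := clSub θ
  let h : T ⟶ W := clι θ ≫ pullback.fst F q
  let tT : T ⟶ SymProd.fibPow sx d := clι θ ≫ pullback.snd F q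
  have htq : tT ≫ q = h ≫ F := by simp [tT, h, pullback.condition]
  haveI : IsFinite h := inferInstanceAs (IsFinite (clι θ ≫ pullback.fst F q))
  let τT : Spec (CommRingCat.of Ω) ⟶ T := clLift τ' θ (by
    rintro _ ⟨z, rfl⟩
    rw [Subsingleton.elim z pt]
    exact subset_closure rfl)
  have hτT : τT ≫ h = y0 := by
    simp only [τT, h]
    rw [← Category.assoc, clLift_fac, hτ']
  have hgen : τT pt = genericPoint T := by
    refine (clι θ).isClosedEmbedding.injective ?_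
    rw [clι_genericPoint, ← Scheme.Hom.comp_apply, clLift_fac]
  have hover : ∀ i, (tT ≫ WidePullback.π (fun _ => sx) i) ≫ sx = h ≫ sw := fun i => by
    rw [Category.assoc, WidePullback.π_arrow, ← hS.over, ← Category.assoc, htq, Category.assoc, hF]
  let c : Fin d → (T ⟶ pullback sx sw) := fun i => pullback.lift (tT ≫ WidePullback.π (fun _ => sx) i) h (hover i)
  have hc : ∀ i, c i ≫ pr = h := fun i => pullback.lift_snd _ _ _
  let τ : Fin d → (Spec (CommRingCat.of Ω) ⟶ pullback sx sw) := fun i => τT ≫ c i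
  have hτ : ∀ i, τ i ≫ pr = y0 := fun i => by simp only [τ]; rw [Category.assoc, hc, hτT]
  let xi : Fin d → ↥(pullback sx sw) := fun i => τ i pt
  have hxiη : ∀ i, pr (xi i) = η := fun i => by
    rw [← hy0, ← hτ i, Scheme.Hom.comp_apply]
  have hcle : ∀ i, Set.range (c i) ⊆ closure {xi i} := fun i => by
    rintro _ ⟨z, rfl⟩
    rw [← specializes_iff_mem_closure, show xi i = c i (genericPoint T) by
      rw [← hgen]; rfl]
    exact ((genericPoint_spec T).specializes trivial).map (c i).continuous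
  have hcge : ∀ i, closure {xi i} ⊆ Set.range (c i) := fun i => by
    haveI : IsProper (c i ≫ pr) := by rw [hc]; infer_instance
    haveI : IsProper (c i) := IsProper.of_comp (c i) pr
    exact closure_minimal (Set.singleton_subset_iff.2 ⟨τT pt, rfl⟩) (c i).isClosedMap.isClosed_range
  have hfin₀ : ∀ i w, (closure {xi i} ∩ pr ⁻¹' {w}).Finite := fun i w => by
    refine ((h.finite_preimage_singleton w).image (c i)).subset ?_
    rintro v ⟨hv, hvw⟩
    obtain ⟨z, rfl⟩ := hcge i hv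
    refine ⟨z, ?_, rfl⟩
    show h z ∈ ({w} : Set W)
    rw [← hc i, Scheme.Hom.comp_apply]
    exact hvw
  haveI hfinC : ∀ i, IsFinite (clι (xi i) ≫ pr) := fun i =>
    isFinite_of_fibres (clι (xi i)) pr fun w => by rw [range_clι]; exact hfin₀ i w
  -- independence of the geometric point
  have hperm : ∀ i₀ (σ : Spec (CommRingCat.of Ω) ⟶ pullback sx sw), σ ≫ pr = y0 → σ pt = xi i₀ →
      Nat.card {j : Fin d // τ j = σ} = Nat.card {j : Fin d // τ j = τ i₀} := by
    intro i₀ σ hσ hσpt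
    have halg : letI := (pr.residueFieldMap (xi i₀)).hom.toAlgebra
        Algebra.IsAlgebraic (W.residueField (pr (xi i₀))) ((pullback sx sw).residueField (xi i₀)) := by
      letI := (pr.residueFieldMap (xi i₀)).hom.toAlgebra
      have h0 : rtrdeg pr (xi i₀) = 0 := by
        have h1 := rtrdeg_eq_zero (clι (xi i₀) ≫ pr) (genericPoint (clSub (xi i₀)))
        rw [rtrdeg_comp, clι_genericPoint] at h1
        exact (add_eq_zero.1 h1).1
      exact trdeg_eq_zero_iff.1 h0
    obtain ⟨gg, hggK, hgg⟩ := exists_conjugate pr η (hxiη i₀) halg σ (τ i₀) hσ (hτ i₀) hσpt rfl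
    let G := Spec.map (CommRingCat.ofHom gg.toRingHom)
    haveI : IsIso G := by
      haveI : IsIso (CommRingCat.ofHom gg.toRingHom) := inferInstanceAs (IsIso gg.toCommRingCatIso.hom)
      infer_instance
    have hG : G ≫ y0 = y0 := by
      simp only [G, y0]
      rw [← Category.assoc, ← Spec.map_comp]
      congr 2
      exact CommRingCat.hom_ext (RingHom.ext hggK)
    have hb : (τT ≫ tT) ≫ q = (G ≫ τT ≫ tT) ≫ q := by
      simp only [Category.assoc, htq]
      rw [← Category.assoc τT, hτT, ← Category.assoc G, hG]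
    obtain ⟨e, he⟩ := Groth.L27.Quot.exists_comp_eq_of_comp_eq hS.isQuot (τT ≫ tT) (G ≫ τT ≫ tT) hb
    have hπ : ∀ i, G ≫ τ i = τ (e.down.symm i) := fun i => by
      apply pullback.hom_ext
      · simp only [τ, c, Category.assoc, pullback.lift_fst]
        have := congrArg (fun φ => φ ≫ WidePullback.π (fun _ => sx) i) he
        simp only [SymProd.permActU_hom, Category.assoc, SymProd.permHom_π] at this
        exact this.symm
      · rw [← hpr, Category.assoc, hτ, hG, hτ]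
    refine Nat.card_congr (Equiv.subtypeEquiv e.down fun j => ?_)
    have hj' : G ≫ τ (e.down j) = τ j := by rw [hπ, Equiv.symm_apply_apply]
    exact ⟨fun hj => (cancel_epi G).1 ((hj'.trans hj).trans hgg.symm),
      fun hj => hj'.symm.trans ((congrArg (G ≫ ·) hj).trans hgg)⟩
  -- the cycle
  let F0 : ↥(pullback sx sw) → ℤ := fun ξ =>
    if hex : ∃ i, xi i = ξ then (Nat.card {j : Fin d // τ j = τ hex.choose} : ℤ) else 0
  have hF0supp : ∀ ξ, F0 ξ ≠ 0 → ∃ i, xi i = ξ := fun ξ hξ => by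
    by_contra hno
    exact hξ (dif_neg hno)
  obtain ⟨Γc, hΓc⟩ := Groth.L22.Cyc.exists_cycle_of_finite F0
    ((Set.finite_range xi).subset fun ξ hξ => hF0supp ξ hξ)
  have hΓ : ∀ ξ, Γc ξ = F0 ξ := fun ξ => congrFun hΓc ξ
  have hind : ∀ σ : Spec (CommRingCat.of Ω) ⟶ pullback sx sw, σ ≫ pr = y0 →
      Γc (σ pt) = (Nat.card {j : Fin d // τ j = σ} : ℤ) := by
    intro σ hσ
    rw [hΓ]
    by_cases hex : ∃ i, xi i = σ pt
    · simp only [F0, dif_pos hex]
      rw [hperm hex.choose σ hσ hex.choose_spec.symm]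
    · haveI : IsEmpty {j : Fin d // τ j = σ} := ⟨fun j => hex ⟨j.1, by show τ j.1 pt = σ pt; rw [j.2]⟩⟩
      simp only [F0, dif_neg hex, Nat.card_of_isEmpty, Nat.cast_zero]
  have hsupp : ∀ ξ, Γc ξ ≠ 0 → ∃ i, xi i = ξ := fun ξ hξ => hF0supp ξ (hΓ ξ ▸ hξ)
  have hxine : ∀ i, Γc (xi i) ≠ 0 := fun i => by
    show Γc (τ i pt) ≠ 0
    rw [hind (τ i) (hτ i)]
    haveI : Nonempty {j : Fin d // τ j = τ i} := ⟨⟨i, rfl⟩⟩
    exact Nat.cast_ne_zero.2 Nat.card_pos.ne'
  have hfin : ∀ ξ, Γc ξ ≠ 0 → ∀ w : W, (closure {ξ} ∩ pr ⁻¹' {w}).Finite := fun ξ hξ w => by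
    obtain ⟨i, rfl⟩ := hsupp ξ hξ
    exact hfin₀ i w
  refine ⟨Γc, fun ξ hξ => ?_, fun ξ => ?_, hfin, fun u hu hflat => ?_⟩
  · by_contra hne
    obtain ⟨i, rfl⟩ := hsupp ξ hne
    refine hξ ?_
    obtain ⟨m, hm, hd⟩ := hδ (xi i)
    have h1 : rtrdeg (pullback.fst sx sw ≫ sx) (xi i) = (n : Cardinal.{u}) := by
      rw [rtrdeg_congr _ pullback.condition, rtrdeg_comp, hxiη]
      have h2 : rtrdeg pr (xi i) = 0 := by
        have h1 := rtrdeg_eq_zero (clι (xi i) ≫ pr) (genericPoint (clSub (xi i)))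
        rw [rtrdeg_comp, clι_genericPoint] at h1
        exact (add_eq_zero.1 h1).1
      rw [h2, add_zero, rtrdeg_genericPoint sw n hdim]
    have h3 : (m : Cardinal.{u}) = n := hm.symm.trans h1
    rw [hd, show m = n by exact_mod_cast h3, zero_add]
  · rw [hΓ]
    simp only [F0]
    split_ifs <;> simp
  -- an affine neighbourhood over which all components are flat
  let α := {ξ : ↥(pullback sx sw) // Γc ξ ≠ 0}
  haveI : Finite α := ((Set.finite_range xi).subset fun ξ hξ => hsupp ξ hξ).to_subtype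
  letI : Fintype α := Fintype.ofFinite α
  haveI hF' : ∀ a : α, IsFinite (clι a.1 ≫ pr) := fun a =>
    isFinite_of_fibres (clι a.1) pr fun w => by rw [range_clι]; exact hfin a.1 a.2 w
  haveI hlfp : ∀ a : α, LocallyOfFinitePresentation (clι a.1 ≫ pr) := fun a =>
    LocallyOfFinitePresentation.iff_locallyOfFiniteType.2 inferInstance
  let Bad : Set W := ⋃ a : α, (clι a.1 ≫ pr) '' {z | ((clι a.1 ≫ pr).stalkMap z).hom.Flat}ᶜ
  have hBad : IsClosed Bad := isClosed_iUnion_of_finite fun a =>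
    (clι a.1 ≫ pr).isClosedMap _ (Groth.L20.isOpen_flat_stalkMap (clι a.1 ≫ pr)).isClosed_compl
  haveI : Subsingleton ↥(Spec (CommRingCat.of k)) := inferInstanceAs (Subsingleton (PrimeSpectrum k))
  have huBad : u (IsLocalRing.closedPoint k) ∈ Badᶜ := by
    intro hmem
    obtain ⟨a, z, hz, hzu⟩ := Set.mem_iUnion.1 hmem
    exact hz (flat_stalk_of_locQuot (clι a.1) pr (clι_genericPoint a.1) z
      (hflat a.1 a.2 _ _ hzu))
  obtain ⟨U, hU, huU, hUsub⟩ := exists_isAffineOpen_mem_and_subset (U := ⟨Badᶜ, hBad.isOpen_compl⟩) huBad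
  haveI hneU : Nonempty U := ⟨⟨_, huU⟩⟩
  have hηU : η ∈ U := ((genericPoint_spec W).mem_open_set_iff U.2).2 (by simpa using ⟨_, huU⟩)
  let R : Type u := Γ(W, U)
  haveI hneV : ∀ a : α, Nonempty ((clι a.1 ≫ pr) ⁻¹ᵁ U) := fun a => by
    refine ⟨⟨genericPoint (clSub a.1), ?_⟩⟩
    show (clι a.1 ≫ pr) (genericPoint (clSub a.1)) ∈ U
    obtain ⟨i, hi⟩ := hsupp a.1 a.2
    rw [Scheme.Hom.comp_apply, clι_genericPoint, ← hi, hxiη]
    exact hηU
  letI algΩ : Algebra R Ω := ((algebraMap K Ω).comp (W.evaluation U η hηU).hom).toAlgebra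
  have hinj : Function.Injective (algebraMap R Ω) :=
    (algebraMap K Ω).injective.comp (residue_generic_bijective.1.comp
      (germ_injective_of_isIntegral W (genericPoint W) hηU))
  have hy0U : y0 = Spec.map (CommRingCat.ofHom (algebraMap R Ω)) ≫ hU.fromSpec := by
    show _ = Spec.map (W.evaluation U η hηU ≫ CommRingCat.ofHom (algebraMap K Ω)) ≫ hU.fromSpec
    simp only [y0, Spec.map_comp, Category.assoc, Scheme.evaluation, Scheme.fromSpecResidueField]
    rw [← hU.fromSpecStalk_eq_fromSpecStalk hηU]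
    rfl
  let B : α → Type u := fun a => Γ(clSub a.1, (clι a.1 ≫ pr) ⁻¹ᵁ U)
  letI : ∀ a, Algebra R (B a) := fun a => appAlgebra (clι a.1 ≫ pr) U
  haveI : ∀ a, Module.Finite R (B a) := fun a => module_finite_app (clι a.1 ≫ pr) hU
  have hflU : ∀ a, Module.Flat R (B a) := fun a => module_flat_of_stalks (clι a.1 ≫ pr) hU fun z hz => by
    by_contra hnf
    exact hUsub hz (Set.mem_iUnion.2 ⟨a, z, hnf, rfl⟩)
  haveI : ∀ a, Finite (B a →ₐ[R] Ω) := fun a => finite_algHom R (B a) Ω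
  letI : ∀ a, Fintype (B a →ₐ[R] Ω) := fun a => Fintype.ofFinite _
  let R' : Type u := integralClosure R Ω
  let inc : R' →ₐ[R] Ω := (integralClosure R Ω).val
  let emb' : ∀ a, (B a →ₐ[R] Ω) → (B a →ₐ[R] R') := fun a f =>
    f.codRestrict (integralClosure R Ω) fun b => (IsIntegral.of_finite R b).map f
  -- the auxiliary scheme over `U`
  have hVT : IsAffineOpen (h ⁻¹ᵁ U) := hU.preimage h
  letI : Algebra R Γ(T, h ⁻¹ᵁ U) := appAlgebra h U
  haveI : Module.Finite R Γ(T, h ⁻¹ᵁ U) := module_finite_app h hU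
  obtain ⟨f0', hf0'⟩ := Groth.L27.Quot.exists_factor_fromSpec hVT τT pt
    (show h (τT pt) ∈ U by rw [← Scheme.Hom.comp_apply, hτT, hy0]; exact hηU)
  let f0 : Γ(T, h ⁻¹ᵁ U) →ₐ[R] Ω :=
    { f0'.hom with
      commutes' := fun r => RingHom.congr_fun (ringHom_eq_of_specMap hU
        (a := f0'.hom.comp (h.app U).hom) (b := algebraMap R Ω) (by
          rw [← map_fromSpec_comp h hU hVT, ← Category.assoc]
          exact ((congrArg (· ≫ h) hf0').trans hτT).trans hy0U)) r }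
  let σ0 : Γ(T, h ⁻¹ᵁ U) →ₐ[R] R' :=
    f0.codRestrict (integralClosure R Ω) fun b => (IsIntegral.of_finite R b).map f0
  -- the components of the coordinates
  let aOf : Fin d → α := fun i => ⟨xi i, hxine i⟩
  let l : ∀ i, T ⟶ clSub (aOf i).1 := fun i => clLift (c i) (xi i) (hcle i)
  have hl : ∀ i, l i ≫ clι (aOf i).1 ≫ pr = h := fun i => by
    rw [← Category.assoc]
    exact (congrArg (· ≫ pr) (clLift_fac _ _ _)).trans (hc i)
  have hle : ∀ i, h ⁻¹ᵁ U ≤ l i ⁻¹ᵁ ((clι (aOf i).1 ≫ pr) ⁻¹ᵁ U) := fun i z hz => by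
    show (clι (aOf i).1 ≫ pr) (l i z) ∈ U
    rw [← Scheme.Hom.comp_apply, hl]
    exact hz
  let fR : ∀ i, B (aOf i) →+* Γ(T, h ⁻¹ᵁ U) := fun i => ((l i).appLE _ _ (hle i)).hom
  have hpOf : ∀ (i : Fin d) {A : Type u} [CommRing A] (z : Γ(T, h ⁻¹ᵁ U) →+* A),
      pointOf sx sw (clι (aOf i).1) hU (z.comp (fR i)) = Spec.map (CommRingCat.ofHom z) ≫ hVT.fromSpec ≫ c i := by
    intro i A _ z
    have h2 := IsAffineOpen.SpecMap_appLE_fromSpec (l i) (hU.preimage (clι (aOf i).1 ≫ pr)) hVT (hle i)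
    rw [pointOf, CommRingCat.ofHom_comp, Spec.map_comp, Category.assoc]
    show Spec.map (CommRingCat.ofHom z) ≫ Spec.map ((l i).appLE _ _ (hle i)) ≫ _ = _
    rw [reassoc_of% h2]
    exact congrArg (fun φ => Spec.map (CommRingCat.ofHom z) ≫ hVT.fromSpec ≫ φ) (clLift_fac (c i) (xi i) (hcle i))
  let fi : ∀ i, B (aOf i) →ₐ[R] Ω := fun i =>
    { f0.toRingHom.comp (fR i) with
      commutes' := fun r => RingHom.congr_fun (ringHom_eq_of_specMap hU
        (a := (f0.toRingHom.comp (fR i)).comp ((clι (aOf i).1 ≫ pr).app U).hom) (b := algebraMap R Ω) (by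
          rw [← pointOf_snd sx sw (clι (aOf i).1) hU, hpOf, Category.assoc, Category.assoc, hc, ← Category.assoc]
          exact ((congrArg (· ≫ h) hf0').trans hτT).trans hy0U)) r }
  let Φ : Fin d → Σ a : α, (B a →ₐ[R] Ω) := fun i => ⟨aOf i, fi i⟩
  let pΩ : (Σ a : α, (B a →ₐ[R] Ω)) → (Spec (CommRingCat.of Ω) ⟶ pullback sx sw) := fun p =>
    pointOf sx sw (clι p.1.1) hU p.2.toRingHom
  have hpΩy : ∀ p, pΩ p ≫ pr = y0 := fun p => by
    simp only [pΩ, pr]
    rw [pointOf_snd, hy0U]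
    congr 3
    exact p.2.comp_algebraMap
  have hτΦ : ∀ i, pΩ (Φ i) = τ i := fun i => by
    show pointOf sx sw (clι (aOf i).1) hU (f0.toRingHom.comp (fR i)) = τT ≫ c i
    rw [hpOf, ← Category.assoc]
    exact congrArg (· ≫ c i) hf0'
  have hpΩpt : ∀ p, pΩ p pt = p.1.1 := by
    intro p
    have hmem : pΩ p pt ∈ closure ({p.1.1} : Set ↥(pullback sx sw)) := by
      rw [← range_clι]
      exact ⟨_, rfl⟩
    have hη1 : pr p.1.1 = η := by
      obtain ⟨i, hi⟩ := hsupp p.1.1 p.1.2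
      rw [← hi]; exact hxiη i
    exact (eq_of_specializes_of_finite_fibre pr isClosed_closure η (hfin p.1.1 p.1.2 η)
      (subset_closure rfl) hmem hη1 ((congrArg (fun φ => φ pt) (hpΩy p)).trans hy0)
      (specializes_iff_mem_closure.2 hmem)).symm
  have hpΩinj : Function.Injective pΩ := by
    rintro ⟨a, f⟩ ⟨a', f'⟩ e
    have ha : a = a' := Subtype.ext ((hpΩpt ⟨a, f⟩).symm.trans ((congrArg (fun φ => φ pt) e).trans (hpΩpt ⟨a', f'⟩)))
    subst ha
    simp only [pΩ, pointOf] at e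
    rw [← Category.assoc, ← Category.assoc, cancel_mono] at e
    exact Sigma.ext rfl (heq_of_eq (AlgHom.coe_ringHom_injective (ringHom_eq_of_specMap _ e)))
  have hfibre : ∀ p : Σ a : α, (B a →ₐ[R] Ω), (Nat.card {i : Fin d // Φ i = p} : ℤ) = Γc p.1.1 := fun p => by
    rw [← hpΩpt p, hind _ (hpΩy p)]
    refine congrArg Nat.cast (Nat.card_congr (Equiv.subtypeEquivRight fun i => ?_))
    rw [← hτΦ i]
    exact hpΩinj.eq_iff.symm
  -- the point
  obtain ⟨φ, hφu⟩ := Groth.L27.Quot.exists_factor_fromSpec hU u (IsLocalRing.closedPoint k) huU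
  let c' : CommRingCat.of k ⟶ CommRingCat.of R := Spec.preimage (hU.fromSpec ≫ sw)
  have hcφ : c' ≫ φ = 𝟙 _ := by
    apply Spec.map_injective
    rw [Spec.map_comp, Spec.map_id]
    simp only [c', Spec.map_preimage]
    rw [← Category.assoc, hφu, hu]
  have hsurj : Function.Surjective φ.hom := fun y => ⟨c'.hom y, congrArg (fun f => f.hom y) hcφ⟩
  haveI : (RingHom.ker φ.hom).IsMaximal := RingHom.ker_isMaximal_of_surjective _ hsurj
  have hinjR' : Function.Injective (algebraMap R R') := fun a b e =>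
    hinj (congrArg Subtype.val e)
  haveI : Algebra.IsIntegral R R' := inferInstance
  obtain ⟨nn, hnn, hnc⟩ := Ideal.exists_ideal_over_maximal_of_isIntegral (S := R') (RingHom.ker φ.hom)
    (by rw [(RingHom.injective_iff_ker_eq_bot _).1 hinjR']; exact bot_le)
  obtain ⟨ψ, -, hψ⟩ := exists_point φ.hom hsurj nn hnc
  have hψsurj : Function.Surjective fun r => ψ (algebraMap R R' r) := fun y => by
    obtain ⟨r, hr⟩ := hsurj y
    exact ⟨r, (RingHom.congr_fun hψ r).trans hr⟩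
  have hψu : Spec.map (CommRingCat.ofHom (ψ.comp (algebraMap R R'))) ≫ hU.fromSpec = u := by
    rw [hψ]; exact hφu
  let tu : Spec (CommRingCat.of k) ⟶ T := Spec.map (CommRingCat.ofHom (ψ.comp σ0.toRingHom)) ≫ hVT.fromSpec
  have htu : tu ≫ h = u := by
    rw [← hψu, Category.assoc, map_fromSpec_comp h hU hVT, RingHom.comp_assoc]
    congr 4
    exact σ0.comp_algebraMap
  refine ⟨tu ≫ tT, ?_, fun x => ?_⟩
  · rw [Category.assoc, htq, ← Category.assoc, htu]
  let Q : (Σ a : α, (B a →ₐ[R] Ω)) → Prop := fun p =>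
    (pointOf sx sw (clι p.1.1) hU (ψ.comp (emb' p.1 p.2).toRingHom) ≫ pullback.fst sx sw)
      (IsLocalRing.closedPoint k) = x
  have hcoord : ∀ i, pointOf sx sw (clι (aOf i).1) hU (ψ.comp (emb' (aOf i) (fi i)).toRingHom) ≫ pullback.fst sx sw =
      (tu ≫ tT) ≫ WidePullback.π (fun _ => sx) i := fun i => by
    have : ψ.comp (emb' (aOf i) (fi i)).toRingHom = (ψ.comp σ0.toRingHom).comp (fR i) := rfl
    rw [this, hpOf]
    simp [tu, c]
  have hLHS : (Nat.card {i : Fin d // ((tu ≫ tT) ≫ WidePullback.π (fun _ => sx) i)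
      (IsLocalRing.closedPoint k) = x} : ℤ) = ∑ p : {p // Q p}, Γc p.1.1.1 := by
    let e : {i : Fin d // ((tu ≫ tT) ≫ WidePullback.π (fun _ => sx) i) (IsLocalRing.closedPoint k) = x} ≃
        Σ p : {p // Q p}, {i : Fin d // Φ i = p.1} :=
      { toFun := fun i => ⟨⟨Φ i.1, (congrArg (fun φ => φ (IsLocalRing.closedPoint k)) (hcoord i.1)).trans i.2⟩,
          i.1, rfl⟩
        invFun := fun p => ⟨p.2.1, (congrArg (fun φ => φ (IsLocalRing.closedPoint k)) (hcoord p.2.1)).symm.trans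
          (show Q (Φ p.2.1) from p.2.2.symm ▸ p.1.2)⟩
        left_inv := fun i => rfl
        right_inv := fun p => by
          rcases p with ⟨⟨p, hp⟩, ⟨i, hi⟩⟩
          cases hi
          rfl }
    rw [Nat.card_congr e, Nat.card_sigma, Nat.cast_sum]
    exact Finset.sum_congr rfl fun p _ => hfibre p.1
  let v := AlgEqCyc.slice sx sw u hu x
  have hterm : ∀ a : α, (Nat.card {f : B a →ₐ[R] Ω // Q ⟨a, f⟩} : ℕ) =
      if h : a.1 ⤳ v then AlgEqCyc.fibreMult pr v a.1 h else 0 := fun a =>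
    card_point_eq sx sw (clι a.1) (clι_genericPoint a.1) hU hinj inc Subtype.coe_injective (emb' a)
      Function.bijective_id (hflU a) ψ u hu hψu hψsurj x
  show AlgEqCyc.fibreFun sx sw Γc u hu x = _
  rw [hLHS]
  let e₂ : {p // Q p} ≃ Σ a : α, {f : B a →ₐ[R] Ω // Q ⟨a, f⟩} :=
    { toFun := fun p => ⟨p.1.1, p.1.2, p.2⟩
      invFun := fun p => ⟨⟨p.1, p.2.1⟩, p.2.2⟩
      left_inv := fun p => rfl
      right_inv := fun p => rfl }
  rw [Fintype.sum_equiv e₂ (fun p => Γc p.1.1.1) (fun p => Γc p.1.1) (fun p => rfl), Fintype.sum_sigma]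
  simp only [Finset.sum_const, Finset.card_univ, nsmul_eq_mul, ← Nat.card_eq_fintype_card]
  have h2 : ∀ a : α, (if h : a.1 ⤳ v then Γc a.1 * (AlgEqCyc.fibreMult pr v a.1 h : ℤ) else 0) =
      (Nat.card {f : B a →ₐ[R] Ω // Q ⟨a, f⟩} : ℤ) * Γc a.1 := fun a => by
    rw [hterm a]
    split_ifs <;> simp [mul_comm]
  rw [← Finset.sum_congr rfl fun a _ => h2 a]
  exact finsum_subtype_dite (Equiv.subtypeSubtypeEquivSubtypeInter (fun w => Γc w ≠ 0) (fun w => w ⤳ v)).symm
      (fun a h => Γc a.1 * (AlgEqCyc.fibreMult pr v a.1 h : ℤ))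

end Groth.L22.SymCorr
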