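import Groth.Agent.L22.Cyc.FiniteDeg
import Mathlib.RingTheory.Trace.Quotient
import Mathlib.RingTheory.Localization.NormTrace
import Mathlib.RingTheory.LocalRing.Module
import Mathlib.RingTheory.Spectrum.Prime.Noetherian
import Mathlib.FieldTheory.IsAlgClosed.Basic

/-!
Counting embeddings of a finite flat domain above a point by lengths of fibre rings.
-/

set_option autoImplicit false
set_option linter.style.haveILetI false

universe u

open IsLocalRing nonZeroDivisors

noncomputable section

namespace Groth.L22.SymCorr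

section Fibre

variable {F A : Type u} [Field F] [CommRing A] [Algebra F A] [Module.Finite F A]

/-- The idempotent at a prime of a finite algebra computes the rank of the local factor. -/
theorem exists_idem_trace (n : Ideal A) [n.IsPrime] {Q : Type u} [CommRing Q] [Algebra F Q]
    (φ : A →ₐ[F] Q) (hφ : Function.Surjective φ)
    (hker : ∀ a, φ a = 0 ↔ ∃ s ∉ n, s * a = 0) :
    ∃ r : A, r ∉ n ∧ IsIdempotentElem r ∧ (∀ q : Ideal A, q.IsPrime → q ≠ n → r ∈ q) ∧
      Algebra.trace F A r = (Module.finrank F Q : F) := by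
  haveI : IsArtinianRing A := IsArtinianRing.of_finite F A
  obtain ⟨r, hrn, hr, hrq⟩ := IsArtinianRing.exists_not_mem_forall_mem_of_ne n
  refine ⟨r, hrn, hr, hrq, ?_⟩
  -- every element killed outside `n` is killed by `r`
  have key : ∀ a, φ a = 0 ↔ r * a = 0 := by
    intro a
    refine ⟨fun h => ?_, fun h => (hker a).2 ⟨r, hrn, h⟩⟩
    obtain ⟨s, hs, hsa⟩ := (hker a).1 h
    have hv : IsUnit (s * r + (1 - r)) := by
      by_contra hu
      obtain ⟨q, hq, hmem⟩ := exists_max_ideal_of_mem_nonunits hu
      have hr01 : r * (1 - r) = 0 := by rw [mul_sub, mul_one, hr.eq, sub_self]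
      by_cases hqn : q = n
      · subst hqn
        have h1 : 1 - r ∈ q := ((‹q.IsPrime›).mem_or_mem (hr01 ▸ q.zero_mem)).resolve_left hrn
        exact ((‹q.IsPrime›).mem_or_mem ((Ideal.add_mem_iff_left _ h1).1 hmem)).elim hs hrn
      · have h1 : r ∈ q := hrq q hq.isPrime hqn
        have h2 : (1 : A) ∈ q := by
          have := q.add_mem ((Ideal.add_mem_iff_right _ (q.mul_mem_left s h1)).1 hmem) h1
          rwa [sub_add_cancel] at this
        exact hq.ne_top (q.eq_top_iff_one.2 h2)
    have : (s * r + (1 - r)) * (r * a) = 0 := by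
      calc (s * r + (1 - r)) * (r * a) = (s * a) * (r * r) + (r - r * r) * a := by ring
        _ = 0 := by rw [hsa, hr.eq]; ring
    exact hv.mul_right_eq_zero.1 this
  let pr : A →ₗ[F] A := Algebra.lmul F A r
  have hproj : LinearMap.IsProj (LinearMap.range pr) pr := by
    refine ⟨fun x => ⟨x, rfl⟩, ?_⟩
    rintro _ ⟨x, rfl⟩
    show r * (r * x) = r * x
    rw [← mul_assoc, hr.eq]
  have htr : Algebra.trace F A r = (Module.finrank F (LinearMap.range pr) : F) := by
    rw [Algebra.trace_apply]
    exact hproj.trace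
  rw [htr]
  refine congrArg Nat.cast (LinearEquiv.finrank_eq (LinearEquiv.ofBijective
    (φ.toLinearMap.comp (LinearMap.range pr).subtype) ⟨?_, ?_⟩))
  · rw [← LinearMap.ker_eq_bot]
    rw [Submodule.eq_bot_iff]
    rintro ⟨_, x, rfl⟩ hx
    have h1 : φ (r * x) = 0 := hx
    have h2 := (key _).1 h1
    rw [← mul_assoc, hr.eq] at h2
    exact Subtype.ext h2
  · intro y
    obtain ⟨x, rfl⟩ := hφ y
    refine ⟨⟨r * x, x, rfl⟩, ?_⟩
    show φ (r * x) = φ x
    rw [← sub_eq_zero, ← map_sub, key]
    rw [mul_sub, ← mul_assoc, hr.eq, sub_self]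

end Fibre

section Trace

variable {R B E : Type u} [CommRing R] [IsDomain R] [CommRing B] [IsDomain B] [Algebra R B]
  [Module.Finite R B] [Field E] [IsAlgClosed E] [CharZero E] [Algebra R E]

theorem algHom_injective [FaithfulSMul R B] (hinj : Function.Injective (algebraMap R E))
    (f : B →ₐ[R] E) : Function.Injective f := by
  rw [RingHom.injective_iff_ker_eq_bot (f := f)]
  refine Ideal.eq_bot_of_comap_eq_bot (R := R) ?_
  rw [eq_bot_iff]
  intro x hx
  rw [Ideal.mem_comap, RingHom.mem_ker, AlgHom.commutes] at hx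
  exact (map_eq_zero_iff _ hinj).1 hx

/-- The trace of a finite free extension of domains is the sum over the embeddings. -/
theorem algebraMap_trace_eq_sum [Module.Free R B] [FaithfulSMul R B] (hinj : Function.Injective (algebraMap R E))
    [Fintype (B →ₐ[R] E)] (b : B) :
    algebraMap R E (Algebra.trace R B b) = ∑ f : B →ₐ[R] E, f b := by
  classical
  let K := FractionRing R
  let L := Localization (Algebra.algebraMapSubmonoid B R⁰)
  have hle : Algebra.algebraMapSubmonoid B R⁰ ≤ B⁰ := Submonoid.map_le_of_le_comap _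
    (nonZeroDivisors_le_comap_nonZeroDivisors_of_injective _ (FaithfulSMul.algebraMap_injective R B))
  haveI : IsDomain L := IsLocalization.isDomain_of_le_nonZeroDivisors _ hle
  letI : Algebra K L := localizationAlgebra R⁰ B
  haveI : IsScalarTower R K L := IsScalarTower.of_algebraMap_eq'
    (by rw [RingHom.algebraMap_toAlgebra, IsLocalization.map_comp, ← IsScalarTower.algebraMap_eq])
  haveI : Module.Finite K L := Module.Finite.of_isLocalization R B R⁰
  have hF : IsField L := isField_of_isIntegral_of_isField' (R := K) (Field.toIsField K)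
  letI : Field L := hF.toField
  haveI : CharZero R := (algebraMap R E).charZero
  haveI : CharZero K := charZero_of_injective_algebraMap (IsFractionRing.injective R K)
  letI : Algebra K E := (IsFractionRing.lift hinj : K →+* E).toAlgebra
  haveI : IsScalarTower R K E := IsScalarTower.of_algebraMap_eq'
    (RingHom.ext fun x => (IsFractionRing.lift_algebraMap hinj x).symm)
  let e : (L →ₐ[K] E) → (B →ₐ[R] E) := fun f =>
    (f.restrictScalars R).comp (IsScalarTower.toAlgHom R B L)
  have he : Function.Bijective e := by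
    refine ⟨fun f g h => ?_, fun f => ?_⟩
    · exact AlgHom.coe_ringHom_injective (IsLocalization.ringHom_ext (Algebra.algebraMapSubmonoid B R⁰)
        (RingHom.ext fun x => AlgHom.congr_fun h x))
    · have hu : ∀ y : Algebra.algebraMapSubmonoid B R⁰, IsUnit (f y.1) := fun y =>
        isUnit_iff_ne_zero.2 fun h => by
          have := hle y.2
          rw [(map_eq_zero_iff _ (algHom_injective hinj f)).1 h] at this
          exact zero_notMem_nonZeroDivisors this
      let g : L →+* E := IsLocalization.lift (g := f.toRingHom) hu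
      have hg : g.comp (algebraMap K L) = algebraMap K E := by
        refine IsLocalization.ringHom_ext R⁰ ?_
        rw [RingHom.comp_assoc, ← IsScalarTower.algebraMap_eq, IsScalarTower.algebraMap_eq R B L,
          ← RingHom.comp_assoc, IsLocalization.lift_comp, ← IsScalarTower.algebraMap_eq]
        exact f.comp_algebraMap
      exact ⟨{ g with commutes' := fun x => RingHom.congr_fun hg x },
        AlgHom.ext fun x => IsLocalization.lift_eq hu x⟩
  haveI : Algebra.IsSeparable K L := inferInstance
  rw [← Fintype.sum_bijective e he (fun f => f (algebraMap B L b)) (fun f => f b) (fun f => rfl),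
    ← trace_eq_sum_embeddings (K := K) (L := L) E, Algebra.trace_localization R R⁰,
    ← IsScalarTower.algebraMap_apply]

end Trace

section Count

variable {R B E R' k : Type u} [CommRing R] [IsDomain R] [CommRing B] [IsDomain B] [Algebra R B]
  [Module.Finite R B] [Module.Flat R B] [FaithfulSMul R B] [Field E] [IsAlgClosed E] [CharZero E]
  [Algebra R E] [CommRing R'] [Algebra R R'] [Field k] [CharZero k]

/-- The sum over the embeddings, seen at a rational point, is the trace on the fibre. -/
theorem sum_point_eq_trace (hinj : Function.Injective (algebraMap R E)) {ι : Type*} [Fintype ι]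
    (j : R' →ₐ[R] E) (hj : Function.Injective j) (σ : ι → (B →ₐ[R] R'))
    (hσ : Function.Bijective fun i => j.comp (σ i)) (ψ : R' →+* k) (m : Ideal R) [m.IsMaximal]
    (π : R ⧸ m →+* k) (hπ : ∀ x, π (Ideal.Quotient.mk m x) = ψ (algebraMap R R' x)) (b : B) :
    ∑ i, ψ (σ i b) = π (Algebra.trace (R ⧸ m) (B ⧸ m.map (algebraMap R B))
      (Ideal.Quotient.mk _ b)) := by
  classical
  let Rm := Localization.AtPrime m
  let Bm := Localization (Algebra.algebraMapSubmonoid B m.primeCompl)
  letI : Algebra Rm Bm := localizationAlgebra m.primeCompl B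
  haveI : IsScalarTower R Rm Bm := IsScalarTower.of_algebraMap_eq'
    (by rw [RingHom.algebraMap_toAlgebra, IsLocalization.map_comp, ← IsScalarTower.algebraMap_eq])
  have hm0 : m.primeCompl ≤ R⁰ := m.primeCompl_le_nonZeroDivisors
  have hle : Algebra.algebraMapSubmonoid B m.primeCompl ≤ B⁰ := Submonoid.map_le_of_le_comap _ (hm0.trans
    (nonZeroDivisors_le_comap_nonZeroDivisors_of_injective _ (FaithfulSMul.algebraMap_injective R B)))
  haveI : IsDomain Bm := IsLocalization.isDomain_of_le_nonZeroDivisors _ hle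
  haveI : IsDomain Rm := IsLocalization.isDomain_of_le_nonZeroDivisors _ hm0
  haveI : Module.Finite Rm Bm := Module.Finite.of_isLocalization R B m.primeCompl
  haveI : Module.Flat B Bm := IsLocalization.flat Bm (Algebra.algebraMapSubmonoid B m.primeCompl)
  haveI : Module.Flat R Bm := Module.Flat.trans R B Bm
  haveI : Module.Flat Rm Bm := (Module.flat_iff_of_isLocalization Rm m.primeCompl Bm).2 inferInstance
  haveI : Module.Free Rm Bm := Module.free_of_flat_of_isLocalRing
  haveI : IsLocalization (Submonoid.map (algebraMap R B) m.primeCompl) Bm :=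
    inferInstanceAs (IsLocalization (Algebra.algebraMapSubmonoid B m.primeCompl) Bm)
  haveI : FaithfulSMul Rm Bm := by
    rw [faithfulSMul_iff_algebraMap_injective]
    exact IsLocalization.map_injective_of_injective _ _ _ (FaithfulSMul.algebraMap_injective R B)
  have huR : ∀ y : m.primeCompl, IsUnit (algebraMap R E y.1) := fun y =>
    isUnit_iff_ne_zero.2 fun h => y.2 ((map_eq_zero_iff _ hinj).1 h ▸ m.zero_mem)
  letI : Algebra Rm E := (IsLocalization.lift huR).toAlgebra
  haveI : IsScalarTower R Rm E := IsScalarTower.of_algebraMap_eq'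
    (IsLocalization.lift_comp huR).symm
  have hinj' : Function.Injective (algebraMap Rm E) := by
    refine (IsLocalization.lift_injective_iff huR).2 fun x y => ?_
    rw [(IsLocalization.injective Rm hm0).eq_iff, hinj.eq_iff]
  let e : (Bm →ₐ[Rm] E) → (B →ₐ[R] E) := fun f =>
    (f.restrictScalars R).comp (IsScalarTower.toAlgHom R B Bm)
  have he : Function.Bijective e := by
    refine ⟨fun f g h => ?_, fun f => ?_⟩
    · exact AlgHom.coe_ringHom_injective (IsLocalization.ringHom_ext
        (Algebra.algebraMapSubmonoid B m.primeCompl) (RingHom.ext fun x => AlgHom.congr_fun h x))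
    · have hu : ∀ y : Algebra.algebraMapSubmonoid B m.primeCompl, IsUnit (f y.1) := fun y => by
        obtain ⟨y, z, hz, rfl⟩ := y
        rw [AlgHom.commutes]
        exact huR ⟨z, hz⟩
      let g : Bm →+* E := IsLocalization.lift (g := f.toRingHom) hu
      have hg : g.comp (algebraMap Rm Bm) = algebraMap Rm E := by
        refine IsLocalization.ringHom_ext m.primeCompl ?_
        rw [RingHom.comp_assoc, ← IsScalarTower.algebraMap_eq, IsScalarTower.algebraMap_eq R B Bm,
          ← RingHom.comp_assoc, IsLocalization.lift_comp, ← IsScalarTower.algebraMap_eq]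
        exact f.comp_algebraMap
      exact ⟨{ g with commutes' := fun x => RingHom.congr_fun hg x },
        AlgHom.ext fun x => IsLocalization.lift_eq hu x⟩
  letI : Fintype (B →ₐ[R] E) := Fintype.ofBijective _ hσ
  letI : Fintype (Bm →ₐ[Rm] E) := Fintype.ofEquiv _ (Equiv.ofBijective e he).symm
  set T := Algebra.trace Rm Bm (algebraMap B Bm b) with hT
  obtain ⟨⟨a, s⟩, has⟩ := IsLocalization.surj m.primeCompl T
  have hsum : j (∑ i, σ i b) = algebraMap Rm E T := by
    rw [hT, algebraMap_trace_eq_sum hinj', map_sum]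
    exact (Fintype.sum_bijective _ hσ _ _ fun i => rfl).trans
      (Fintype.sum_bijective e he (fun f => f (algebraMap B Bm b)) (fun f => f b) fun f => rfl).symm
  have h1 : algebraMap R R' a = algebraMap R R' s * ∑ i, σ i b := by
    refine hj ?_
    rw [map_mul, hsum, AlgHom.commutes, AlgHom.commutes, mul_comm,
      IsScalarTower.algebraMap_apply R Rm E s.1, ← map_mul, has, ← IsScalarTower.algebraMap_apply]
  set tr := Algebra.trace (R ⧸ m) (B ⧸ m.map (algebraMap R B)) (Ideal.Quotient.mk _ b) with htr
  have h2 : tr * Ideal.Quotient.mk m s.1 = Ideal.Quotient.mk m a := by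
    refine (IsLocalization.AtPrime.equivQuotMaximalIdeal m Rm).injective ?_
    rw [htr, trace_quotient_eq_trace_localization_quotient (R := R) B m Rm Bm, map_mul,
      RingEquiv.apply_symm_apply, IsScalarTower.algebraMap_apply B Bm (Bm ⧸ _),
      Ideal.Quotient.algebraMap_eq, Algebra.trace_quotient_mk, ← hT,
      IsLocalization.AtPrime.equivQuotMaximalIdeal_apply_mk,
      IsLocalization.AtPrime.equivQuotMaximalIdeal_apply_mk, ← map_mul, has]
  have h3 := congrArg ψ h1
  rw [map_mul, map_sum, ← hπ, ← hπ, ← h2, map_mul] at h3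
  letI : Field (R ⧸ m) := Ideal.Quotient.field m
  have hs : π (Ideal.Quotient.mk m s.1) ≠ 0 := fun h =>
    s.2 (Ideal.Quotient.eq_zero_iff_mem.1 ((map_eq_zero π).1 h))
  exact mul_left_cancel₀ hs (h3.symm.trans (mul_comm _ _))

/-- The number of embeddings specialising to a point is the length of the fibre ring at it. -/
theorem card_eq_length [Algebra.FiniteType R B] (hinj : Function.Injective (algebraMap R E)) {ι : Type*}
    [Fintype ι] (j : R' →ₐ[R] E) (hj : Function.Injective j) (σ : ι → (B →ₐ[R] R'))
    (hσ : Function.Bijective fun i => j.comp (σ i)) (ψ : R' →+* k)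
    (hψ : Function.Surjective fun x => ψ (algebraMap R R' x))
    (z : B →+* k) (hz : ∀ x, z (algebraMap R B x) = ψ (algebraMap R R' x))
    (n : Ideal B) [n.IsPrime] (hn : n = RingHom.ker z) {Bn : Type u} [CommRing Bn] [Algebra B Bn]
    [IsLocalization.AtPrime Bn n] :
    (Nat.card {i : ι // ψ.comp (σ i).toRingHom = z} : ℕ∞) =
      Module.length Bn (Bn ⧸ ((RingHom.ker (ψ.comp (algebraMap R R'))).map (algebraMap R B)).map
        (algebraMap B Bn)) := by
  classical
  set m : Ideal R := RingHom.ker (ψ.comp (algebraMap R R'))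
  haveI : m.IsMaximal := RingHom.ker_isMaximal_of_surjective _ hψ
  letI : Field (R ⧸ m) := Ideal.Quotient.field m
  let π : R ⧸ m →+* k := Ideal.Quotient.lift m (ψ.comp (algebraMap R R')) fun x hx => hx
  have hπ : ∀ x, π (Ideal.Quotient.mk m x) = ψ (algebraMap R R' x) := fun x => rfl
  set mB : Ideal B := m.map (algebraMap R B)
  haveI : Module.Finite (R ⧸ m) (B ⧸ mB) := Module.Finite.of_restrictScalars_finite R _ _
  have hzm : mB ≤ n := by
    rw [Ideal.map_le_iff_le_comap, hn]
    intro x hx
    rw [Ideal.mem_comap, RingHom.mem_ker, hz]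
    exact hx
  let n' : Ideal (B ⧸ mB) := n.map (Ideal.Quotient.mk mB)
  have hn' : n'.comap (Ideal.Quotient.mk mB) = n := by
    rw [Ideal.comap_map_of_surjective _ Ideal.Quotient.mk_surjective, ← RingHom.ker_eq_comap_bot,
      Ideal.mk_ker, sup_eq_left.2 hzm]
  haveI : n'.IsPrime := Ideal.map_isPrime_of_surjective Ideal.Quotient.mk_surjective
    (by rw [Ideal.mk_ker]; exact hzm)
  have hmemn' : ∀ x, Ideal.Quotient.mk mB x ∈ n' ↔ x ∈ n := fun x => by
    rw [← Ideal.mem_comap, hn']
  let J : Ideal Bn := mB.map (algebraMap B Bn)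
  let φ₀ : (B ⧸ mB) →+* (Bn ⧸ J) := Ideal.quotientMap J (algebraMap B Bn) Ideal.le_comap_map
  letI : Algebra (R ⧸ m) (Bn ⧸ J) := (φ₀.comp (algebraMap (R ⧸ m) (B ⧸ mB))).toAlgebra
  let φ : (B ⧸ mB) →ₐ[R ⧸ m] (Bn ⧸ J) := { φ₀ with commutes' := fun _ => rfl }
  have hker : ∀ a, φ a = 0 ↔ ∃ s ∉ n', s * a = 0 := by
    intro a
    obtain ⟨a, rfl⟩ := Ideal.Quotient.mk_surjective a
    show Ideal.Quotient.mk J (algebraMap B Bn a) = 0 ↔ _
    rw [Ideal.Quotient.eq_zero_iff_mem, IsLocalization.algebraMap_mem_map_algebraMap_iff n.primeCompl]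
    constructor
    · rintro ⟨s, hs, hsa⟩
      exact ⟨Ideal.Quotient.mk mB s, fun h => hs ((hmemn' s).1 h), by
        rw [← map_mul, Ideal.Quotient.eq_zero_iff_mem]; exact hsa⟩
    · rintro ⟨s, hs, hsa⟩
      obtain ⟨s, rfl⟩ := Ideal.Quotient.mk_surjective s
      exact ⟨s, fun h => hs ((hmemn' s).2 h), by
        rw [← map_mul, Ideal.Quotient.eq_zero_iff_mem] at hsa; exact hsa⟩
  haveI : IsArtinianRing (B ⧸ mB) := IsArtinianRing.of_finite (R ⧸ m) _
  have hsurj : Function.Surjective φ := by
    intro y
    obtain ⟨y, rfl⟩ := Ideal.Quotient.mk_surjective y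
    obtain ⟨x, s, rfl⟩ := IsLocalization.exists_mk'_eq n.primeCompl y
    -- invert `s` in the Artinian fibre, away from the other primes
    obtain ⟨r, hrn, hr, hrq⟩ := IsArtinianRing.exists_not_mem_forall_mem_of_ne n'
    set s' := Ideal.Quotient.mk mB s.1
    have hs' : s' ∉ n' := fun h => s.2 ((hmemn' _).1 h)
    have hr01 : r * (1 - r) = 0 := by rw [mul_sub, mul_one, hr.eq, sub_self]
    have hv : IsUnit (s' * r + (1 - r)) := by
      by_contra hu
      obtain ⟨q, hq, hmem⟩ := exists_max_ideal_of_mem_nonunits hu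
      by_cases hqn : q = n'
      · subst hqn
        have h1 : 1 - r ∈ n' := ((‹n'.IsPrime›).mem_or_mem (hr01 ▸ n'.zero_mem)).resolve_left hrn
        exact ((‹n'.IsPrime›).mem_or_mem ((Ideal.add_mem_iff_left _ h1).1 hmem)).elim hs' hrn
      · have h1 : r ∈ q := hrq q hq.isPrime hqn
        have h2 : (1 : B ⧸ mB) ∈ q := by
          have := q.add_mem ((Ideal.add_mem_iff_right _ (q.mul_mem_left s' h1)).1 hmem) h1
          rwa [sub_add_cancel] at this
        exact hq.ne_top (q.eq_top_iff_one.2 h2)
    obtain ⟨w, hw⟩ := hv.exists_right_inv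
    have h4 : (s' * (r * w) * Ideal.Quotient.mk mB x - Ideal.Quotient.mk mB x) * r = 0 := by
      have : s' * (r * w) = r := by
        calc s' * (r * w) = r * ((s' * r + (1 - r)) * w) + (s' * w) * (r - r * r) +
              (r * r - r) * w := by ring
          _ = r := by rw [hw, hr.eq, sub_self, mul_zero, zero_mul, add_zero, add_zero, mul_one]
      calc _ = (r * r - r) * Ideal.Quotient.mk mB x := by rw [this]; ring
        _ = 0 := by rw [hr.eq, sub_self, zero_mul]
    refine ⟨r * w * Ideal.Quotient.mk mB x, ?_⟩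
    have h5 : φ (s' * (r * w * Ideal.Quotient.mk mB x)) = φ (Ideal.Quotient.mk mB x) := by
      rw [← sub_eq_zero, ← map_sub, hker]
      exact ⟨r, hrn, by rw [mul_comm, ← mul_assoc s']; exact h4⟩
    have hu : IsUnit (Ideal.Quotient.mk J (algebraMap B Bn s.1)) :=
      (IsLocalization.map_units Bn s).map _
    refine hu.mul_left_cancel ?_
    calc Ideal.Quotient.mk J (algebraMap B Bn s.1) * φ (r * w * Ideal.Quotient.mk mB x)
        = φ (s' * (r * w * Ideal.Quotient.mk mB x)) := (map_mul φ s' _).symm
      _ = φ (Ideal.Quotient.mk mB x) := h5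
      _ = Ideal.Quotient.mk J (algebraMap B Bn s.1) * Ideal.Quotient.mk J (IsLocalization.mk' Bn x s) := by
          rw [← map_mul, IsLocalization.mk'_spec'_mk]; rfl
  obtain ⟨r, hrn, hr, hrq, htr⟩ := exists_idem_trace (F := R ⧸ m) n' φ hsurj hker
  obtain ⟨b, rfl⟩ := Ideal.Quotient.mk_surjective r
  have hsum := sum_point_eq_trace hinj j hj σ hσ ψ m π hπ b
  rw [htr, map_natCast] at hsum
  have hzb : z b = 1 := by
    have h1 : 1 - b ∈ n := (hmemn' _).1 <| by
      rw [map_sub, map_one]
      refine ((‹n'.IsPrime›).mem_or_mem ?_).resolve_left hrn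
      rw [mul_sub, mul_one, hr.eq, sub_self]
      exact n'.zero_mem
    rw [hn, RingHom.mem_ker, map_sub, map_one, sub_eq_zero] at h1
    exact h1.symm
  have hother : ∀ i, ψ.comp (σ i).toRingHom ≠ z → ψ (σ i b) = 0 := by
    intro i hi
    set zi := ψ.comp (σ i).toRingHom
    have hzi : ∀ x, zi (algebraMap R B x) = ψ (algebraMap R R' x) := fun x =>
      congrArg ψ ((σ i).commutes x)
    have hmi : mB ≤ RingHom.ker zi := by
      rw [Ideal.map_le_iff_le_comap]
      intro x hx
      rw [Ideal.mem_comap, RingHom.mem_ker, hzi]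
      exact hx
    haveI : (RingHom.ker zi).IsPrime := RingHom.ker_isPrime _
    let q : Ideal (B ⧸ mB) := (RingHom.ker zi).map (Ideal.Quotient.mk mB)
    haveI : q.IsPrime := Ideal.map_isPrime_of_surjective Ideal.Quotient.mk_surjective
      (by rw [Ideal.mk_ker]; exact hmi)
    have hq : q.comap (Ideal.Quotient.mk mB) = RingHom.ker zi := by
      rw [Ideal.comap_map_of_surjective _ Ideal.Quotient.mk_surjective, ← RingHom.ker_eq_comap_bot,
        Ideal.mk_ker, sup_eq_left.2 hmi]
    by_contra hb
    have hqn : q = n' := by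
      by_contra hne
      exact hb (hq.le (hrq q inferInstance hne))
    have hkk : RingHom.ker zi = RingHom.ker z := by rw [← hq, hqn, hn', hn]
    refine hi (RingHom.ext fun x => ?_)
    obtain ⟨a, ha⟩ := hψ (z x)
    have h1 : x - algebraMap R B a ∈ RingHom.ker zi := by
      rw [hkk, RingHom.mem_ker, map_sub, hz, sub_eq_zero]
      exact ha.symm
    rw [RingHom.mem_ker, map_sub, hzi, sub_eq_zero] at h1
    rw [h1]
    exact ha
  have hcount : (Nat.card {i : ι // ψ.comp (σ i).toRingHom = z} : k) =
      (Module.finrank (R ⧸ m) (Bn ⧸ J) : k) := by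
    rw [← hsum, Nat.card_eq_fintype_card, Fintype.card_subtype, Finset.natCast_card_filter]
    refine Finset.sum_congr rfl fun i _ => ?_
    split_ifs with h
    · exact (hzb ▸ RingHom.congr_fun h b).symm
    · exact (hother i h).symm
  rw [Nat.cast_inj] at hcount
  rw [hcount]
  -- the rank of the local fibre ring is its length
  haveI : IsLocalRing Bn := IsLocalization.AtPrime.isLocalRing Bn n
  haveI : Nontrivial (Bn ⧸ J) := Ideal.Quotient.nontrivial_iff.2 fun h => by
    have h1 : J ≤ maximalIdeal Bn := by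
      rw [Ideal.map_le_iff_le_comap]
      exact hzm.trans (le_of_eq (IsLocalization.AtPrime.under_maximalIdeal Bn n).symm)
    exact (maximalIdeal.isMaximal Bn).ne_top (top_le_iff.1 (h ▸ h1))
  haveI : IsLocalRing (Bn ⧸ J) := IsLocalRing.of_surjective' _ Ideal.Quotient.mk_surjective
  haveI : Module.Finite (R ⧸ m) (Bn ⧸ J) := Module.Finite.of_surjective φ.toLinearMap hsurj
  have hres : Module.finrank (R ⧸ m) (ResidueField (Bn ⧸ J)) = 1 := by
    refine finrank_eq_one 1 one_ne_zero fun y => ?_
    obtain ⟨y, rfl⟩ := residue_surjective y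
    obtain ⟨x, rfl⟩ := hsurj y
    obtain ⟨x, rfl⟩ := Ideal.Quotient.mk_surjective x
    obtain ⟨a, ha⟩ := hψ (z x)
    refine ⟨Ideal.Quotient.mk m a, ?_⟩
    rw [Algebra.smul_def, mul_one]
    show residue _ (φ (Ideal.Quotient.mk mB (algebraMap R B a))) = residue _ (φ (Ideal.Quotient.mk mB x))
    rw [← sub_eq_zero, ← map_sub, residue_eq_zero_iff, ← map_sub φ, ← map_sub]
    have h1 : algebraMap B Bn (algebraMap R B a - x) ∈ maximalIdeal Bn := by
      rw [IsLocalization.AtPrime.to_map_mem_maximal_iff Bn n, hn, RingHom.mem_ker, map_sub, hz, sub_eq_zero]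
      exact ha
    haveI : IsLocalHom (Ideal.Quotient.mk J) := IsLocalHom.of_surjective _ Ideal.Quotient.mk_surjective
    exact map_nonunit (Ideal.Quotient.mk J) _ h1
  have h := Groth.L22.Cyc.finrank_localization (R ⧸ m) (Bn ⧸ J)
  rw [hres, one_mul] at h
  have hlen : Module.length Bn (Bn ⧸ J) = Module.length (Bn ⧸ J) (Bn ⧸ J) :=
    Module.length_eq_of_surjective (R := Bn ⧸ J) (S := Bn) Ideal.Quotient.mk_surjective
  rw [hlen, h, ENat.natCast_toNat]
  haveI : IsArtinianRing (Bn ⧸ J) := IsArtinianRing.of_finite (R ⧸ m) _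
  exact Module.length_ne_top_iff.2 (isFiniteLength_iff_isNoetherian_isArtinian.2 ⟨inferInstance, inferInstance⟩)

end Count

end Groth.L22.SymCorr
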