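import Groth.Agent.L22.SymCorr.Rat
import Groth.Agent.L16.AlgEqC.Basic
import Groth.Agent.L16.CurveCompletion.Normal
import Groth.Agent.L22.Cyc.Limit

/-!
A rational equivalence of effective zero-cycles gives a morphism of the projective line to a symmetric product.
-/

set_option autoImplicit false
set_option linter.style.haveILetI false
set_option backward.isDefEq.respectTransparency false
set_option backward.isDefEq.respectTransparency.types false

universe u

open AlgebraicGeometry CategoryTheory CategoryTheory.Limits Groth.L22.Cyc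
open scoped Classical

noncomputable section

namespace Groth.L22.SymCorr

open Line (PL str)

section Fld

variable {k : Type u} [Field k] {X : Scheme.{u}} (sx : X ⟶ Spec (CommRingCat.of k))

/-- Constants in the residue field. -/
def constAt (ξ : X) : CommRingCat.of k ⟶ X.residueField ξ :=
  (Scheme.ΓSpecIso (CommRingCat.of k)).inv ≫ sx.appTop ≫ X.evaluation ⊤ ξ trivial

theorem specMap_constAt (ξ : X) : Spec.map (constAt sx ξ) = X.fromSpecResidueField ξ ≫ sx := by
  have h : sx = X.toSpecΓ ≫ Spec.map sx.appTop ≫ Spec.map (Scheme.ΓSpecIso (CommRingCat.of k)).inv := by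
    rw [← Scheme.toSpecΓ_naturality_assoc, toSpecΓ_SpecMap_ΓSpecIso_inv, Category.comp_id]
  conv_rhs => rw [h]
  rw [Scheme.fromSpecResidueField, Category.assoc, Scheme.fromSpecStalk_toSpecΓ_assoc]
  simp only [constAt, Scheme.evaluation, Spec.map_comp, Category.assoc]

/-- Constants have no divisor. -/
theorem divFun_const [IsLocallyNoetherian X] {δ : X → ℤ} (hδ : Cyc.IsDimFun X δ) (ξ : X) {c : k} (hc : c ≠ 0)
    (x : X) : Cyc.divFun δ ξ (constAt sx ξ c) x = 0 := by
  rw [Cyc.divFun]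
  split_ifs with h
  · let a := X.presheaf.germ ⊤ x trivial (sx.appTop ((Scheme.ΓSpecIso (CommRingCat.of k)).inv c))
    have ha : IsUnit a :=
      (((isUnit_iff_ne_zero.2 hc).map (Scheme.ΓSpecIso (CommRingCat.of k)).inv.hom).map sx.appTop.hom).map
        (X.presheaf.germ ⊤ x trivial).hom
    have he : constAt sx ξ c = Cyc.specMap x ξ h.1 a := by
      show (X.residue ξ) ((X.presheaf.germ ⊤ ξ trivial) _) =
        (X.residue ξ) (X.presheaf.stalkSpecializes h.1 ((X.presheaf.germ ⊤ x trivial) _))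
      rw [TopCat.Presheaf.germ_stalkSpecializes_apply]
      rfl
    rw [he, ordAt_of_isUnit hδ x ξ h.1 h.2 ha]
  · rfl

theorem eq_congr_of_fromSpec {ξ x : X} (hx : x = ξ) (e : X.residueField x ⟶ X.residueField ξ)
    (h : Spec.map e ≫ X.fromSpecResidueField x = X.fromSpecResidueField ξ) : e = (X.residueFieldCongr hx).hom := by
  subst hx
  apply Spec.map_injective
  rw [← cancel_mono (X.fromSpecResidueField _), h]
  simp

end Fld

section Graph

variable {k : Type u} [Field k] [IsAlgClosed k] {X : Scheme.{u}} (sx : X ⟶ Spec (CommRingCat.of k))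
  [IsProper sx] {δP : ↥(pullback sx (str k)) → ℤ}
  (hδP : Cyc.DeltaCompat (pullback.fst sx (str k) ≫ sx) δP fun _ => 0)
  {δ : X → ℤ} (hδ : Cyc.DeltaCompat sx δ fun _ => 0)

theorem ordAt_X' {η : PL k} (hη : η = genericPoint (PL k)) (hm : η ∈ Line.U0 k) :
    ((PL k).evaluation (Line.U0 k) η hm (Line.theta k Polynomial.X) ≠ 0) ∧
    ∀ w : PL k, IsClosed ({w} : Set (PL k)) → ∀ h : η ⤳ w,
      Cyc.ordAt w η h ((PL k).evaluation (Line.U0 k) η hm (Line.theta k Polynomial.X)) =
        (if w = Line.pt k 0 0 (IsLocalRing.closedPoint k) then 1 else 0) -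
          (if w = Line.pt k 1 0 (IsLocalRing.closedPoint k) then 1 else 0) := by
  subst hη
  exact ⟨Line.ratl_ne_zero k Polynomial.X_ne_zero, Line.ordAt_ratl_X k⟩

include hδP hδ

set_option maxHeartbeats 1600000 in
/-- The graph of a rational function on a curve. -/
theorem exists_graph {ξ : X} (hξ : δ ξ = 1) (f : X.residueField ξ) (hf : f ≠ 0) :
    (∀ x, Cyc.divFun δ ξ f x = 0) ∨ ∃ ξ' : ↥(pullback sx (str k)),
      pullback.snd sx (str k) ξ' = genericPoint (PL k) ∧ δP ξ' = 1 ∧
      ∀ x, fm sx (str k) (Line.pt k 0 0) (Line.pt_str k 0 0) ξ' x -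
        fm sx (str k) (Line.pt k 1 0) (Line.pt_str k 1 0) ξ' x = Cyc.divFun δ ξ f x := by
  haveI : IsLocallyNoetherian X := LocallyOfFiniteType.isLocallyNoetherian sx
  let K : Type u := X.residueField ξ
  let φ : Polynomial k →+* K := Polynomial.eval₂RingHom (constAt sx ξ).hom f
  by_cases hker : RingHom.ker φ = ⊥
  swap
  · refine Or.inl fun x => ?_
    obtain ⟨p, hp, hp0⟩ := Submodule.exists_mem_ne_zero_of_ne_bot hker
    letI : Algebra k K := (constAt sx ξ).hom.toAlgebra
    have hint : IsIntegral k (f : K) := IsAlgebraic.isIntegral ⟨p, hp0, hp⟩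
    obtain ⟨c, hc⟩ := minpoly.mem_range_of_degree_eq_one k (f : K)
      (IsAlgClosed.degree_eq_one_of_irreducible k (minpoly.irreducible hint))
    have hc0 : c ≠ 0 := by
      rintro rfl
      exact hf (hc.symm.trans (map_zero _))
    rw [show f = constAt sx ξ c from hc.symm]
    exact divFun_const sx (isDimFun_of_field sx hδ) ξ hc0 x
  refine Or.inr ?_
  let ψ : Spec (CommRingCat.of K) ⟶ PL k := Spec.map (CommRingCat.ofHom φ) ≫ Line.aff k 0
  have hψ : X.fromSpecResidueField ξ ≫ sx = ψ ≫ str k := by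
    rw [← specMap_constAt, Category.assoc, Line.aff_str, ← Spec.map_comp]
    congr 1
    exact CommRingCat.hom_ext (RingHom.ext fun r => (Polynomial.eval₂_C _ _).symm)
  let σ : Spec (CommRingCat.of K) ⟶ pullback sx (str k) := pullback.lift (X.fromSpecResidueField ξ) ψ hψ
  let ξ' := σ (IsLocalRing.closedPoint K)
  have hfst : pullback.fst sx (str k) ξ' = ξ := by
    show (σ ≫ pullback.fst sx (str k)) (IsLocalRing.closedPoint K) = ξ
    rw [pullback.lift_fst]
    exact Scheme.fromSpecResidueField_apply _ _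
  have hsnd : pullback.snd sx (str k) ξ' = genericPoint (PL k) := by
    show (σ ≫ pullback.snd sx (str k)) (IsLocalRing.closedPoint K) = _
    rw [pullback.lift_snd, ← genericPoint_eq_of_isOpenImmersion (Line.aff k 0), Scheme.Hom.comp_apply]
    congr 1
    rw [genericPoint_eq_bot_of_affine]
    refine PrimeSpectrum.ext ?_
    show Ideal.comap φ (IsLocalRing.maximalIdeal K) = ⊥
    rw [IsLocalRing.maximalIdeal_eq_bot]
    exact hker
  obtain ⟨e, he⟩ := exists_eq_fromSpecResidueField σ (rfl : σ (IsLocalRing.closedPoint K) = ξ')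
  set p := pullback.fst sx (str k) with hp
  have hep : p.residueFieldMap ξ' ≫ e = (X.residueFieldCongr hfst).hom := by
    refine eq_congr_of_fromSpec hfst _ ?_
    rw [Spec.map_comp, Category.assoc, Scheme.Hom.SpecMap_residueFieldMap_fromSpecResidueField, ← Category.assoc,
      ← he, pullback.lift_fst]
  have hep' : ∀ b, e (p.residueFieldMap ξ' b) = (X.residueFieldCongr hfst).hom b := fun b =>
    congrArg (fun φ => φ.hom b) hep
  have hbij : Function.Bijective (p.residueFieldMap ξ').hom := by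
    refine ⟨(p.residueFieldMap ξ').hom.injective, fun a => ⟨(X.residueFieldCongr hfst).inv (e a), ?_⟩⟩
    refine e.hom.injective ?_
    show e (p.residueFieldMap ξ' _) = e a
    rw [hep', Iso.inv_hom_id_apply]
  have hdeg : p.residueDegree ξ' = 1 := residueDegree_eq_one p ξ' hbij
  have hc := fst_deltaCompat sx hδP hδ
  have hd : δ (p ξ') = 1 := by rw [hfst, hξ]
  have hδ1 : δP ξ' = 1 := by
    rw [deltaCompat_shift_of_residueDegree p hc (by rw [hdeg]; norm_num), hd]
  refine ⟨ξ', hsnd, hδ1, fun x => ?_⟩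
  have hm : pullback.snd sx (str k) ξ' ∈ Line.U0 k := hsnd ▸ Line.genericPoint_mem k
  obtain ⟨hg', hord⟩ := ordAt_X' hsnd hm
  rw [(fibre_sub sx hδP hδ (Line.pt_str k 0 0) (Line.pt_str k 1 0) hsnd hδ1 _ hg' hord).2 x, if_pos hd]
  rw [← divFun_congr (δ := δ) hfst]
  congr 1
  let g := (pullback.snd sx (str k)).residueFieldMap ξ'
    ((PL k).evaluation (Line.U0 k) (pullback.snd sx (str k) ξ') hm (Line.theta k Polynomial.X))
  have heg : e g = f := by
    refine (Line.ratl_eval k φ hm ((pullback.snd sx (str k)).residueFieldMap ξ' ≫ e) ?_ Polynomial.X).trans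
      (Polynomial.eval₂_X _ _)
    rw [Spec.map_comp, Category.assoc, Scheme.Hom.SpecMap_residueFieldMap_fromSpecResidueField, ← Category.assoc,
      ← he, pullback.lift_snd]
  obtain ⟨b, hb⟩ := hbij.2 g
  show (X.residueFieldCongr hfst).hom (Cyc.normGen p ξ' g) = f
  rw [← heg, ← hb]
  show _ = e (p.residueFieldMap ξ' b)
  rw [hep']
  congr 1
  letI := (p.residueFieldMap ξ').hom.toAlgebra
  show Algebra.norm _ (algebraMap _ _ b) = b
  rw [Algebra.norm_algebraMap, show Module.finrank (X.residueField (p ξ')) _ = 1 from hdeg, pow_one]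

omit hδ in
theorem fm_eq_zero_of_not_closed {ξ : ↥(pullback sx (str k))}
    (hξη : pullback.snd sx (str k) ξ = genericPoint (PL k)) (hξ1 : δP ξ = 1)
    {u : Spec (CommRingCat.of k) ⟶ PL k} (hu : u ≫ str k = 𝟙 _) {x : X} (hx : ¬ IsClosed ({x} : Set X)) :
    fm sx (str k) u hu ξ x = 0 := by
  have hdf := isDimFun_of_field (pullback.fst sx (str k) ≫ sx) hδP
  rw [fm, dif_neg]
  intro h
  by_cases he : ξ = AlgEqCyc.slice sx (str k) u hu x
  · refine Line.not_isClosed_genericPoint k ?_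
    rw [← hξη, he, snd_slice]
    exact ((pointEquivClosedPoint (str k)) ⟨u, hu⟩).2
  · have h1 := (hdf ξ _ h he).1
    have h2 := delta_nonneg (pullback.fst sx (str k) ≫ sx) hδP (AlgEqCyc.slice sx (str k) u hu x)
    have hv := closed_of_delta_zero sx hδP (show δP (AlgEqCyc.slice sx (str k) u hu x) = 0 by omega)
    have := fst_closed sx hδP hv
    rw [fst_slice] at this
    exact hx this

omit hδ in
theorem finite_support_fm {ξ : ↥(pullback sx (str k))}
    (hξη : pullback.snd sx (str k) ξ = genericPoint (PL k)) (hξ1 : δP ξ = 1)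
    {u : Spec (CommRingCat.of k) ⟶ PL k} (hu : u ≫ str k = 𝟙 _) :
    (Function.support (fm sx (str k) u hu ξ)).Finite := by
  refine ((finite_fibres sx hδP hξη hξ1 (u (IsLocalRing.closedPoint k))).image (pullback.fst sx (str k))).subset
    fun x hx => ⟨AlgEqCyc.slice sx (str k) u hu x, ⟨?_, snd_slice sx (str k) u hu x⟩, fst_slice sx (str k) u hu x⟩
  by_contra h
  exact hx (by rw [fm, dif_neg fun hh => h (specializes_iff_mem_closure.1 hh)])

theorem sum_fm_eq {ξ : ↥(pullback sx (str k))} (hξη : pullback.snd sx (str k) ξ = genericPoint (PL k))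
    (hξ1 : δP ξ = 1) {u₀ u₁ : Spec (CommRingCat.of k) ⟶ PL k} (h₀ : u₀ ≫ str k = 𝟙 _) (h₁ : u₁ ≫ str k = 𝟙 _) :
    ∑ᶠ x, fm sx (str k) u₀ h₀ ξ x = ∑ᶠ x, fm sx (str k) u₁ h₁ ξ x := by
  haveI : IsLocallyNoetherian X := LocallyOfFiniteType.isLocallyNoetherian sx
  obtain ⟨g', hg', hord⟩ := Line.exists_divisor' k u₀ u₁ h₀ h₁ hξη
  obtain ⟨hG0, hG⟩ := fibre_sub sx hδP hδ h₀ h₁ hξη hξ1 g' hg' hord
  rw [← sub_eq_zero, ← finsum_sub_distrib (finite_support_fm sx hδP hξη hξ1 h₀) (finite_support_fm sx hδP hξη hξ1 h₁),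
    finsum_congr hG]
  split_ifs with hd
  swap
  · exact finsum_zero
  set ζ := pullback.fst sx (str k) ξ
  set G := Cyc.normGen (pullback.fst sx (str k)) ξ ((pullback.snd sx (str k)).residueFieldMap ξ g')
  have hdf : Cyc.IsDimFun (Spec (CommRingCat.of k)) fun _ => 0 := (isSetup_field k).2.2
  haveI : Subsingleton ↥(Spec (CommRingCat.of k)) := inferInstanceAs (Subsingleton (PrimeSpectrum k))
  have hm := map_divFun sx (isDimFun_of_field sx hδ) hdf hδ ζ G (hG0 hd) (IsLocalRing.closedPoint k)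
  rw [if_neg (show ¬((0 : ℤ) = δ ζ) by rw [hd]; norm_num),
    show sx ⁻¹' {IsLocalRing.closedPoint k} = Set.univ from Set.eq_univ_of_forall fun x => Subsingleton.elim _ _,
    finsum_mem_univ] at hm
  refine Eq.trans (finsum_congr fun x => ?_) hm
  by_cases hx : Cyc.divFun δ ζ G x = 0
  · rw [hx, zero_mul]
  · rw [mapCoeff_eq sx hδ, residueDegree_of_isClosed sx x ?_, Nat.cast_one, mul_one]
    by_contra h
    refine hx (dif_neg fun hh => h ((delta_eq_zero_iff sx hδ x).1 ?_))
    rw [hd] at hh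
    omega

end Graph

section Sections

variable {k : Type u} [Field k] [IsAlgClosed k] {X : Scheme.{u}} (sx : X ⟶ Spec (CommRingCat.of k))
  [IsProper sx] {δP : ↥(pullback sx (str k)) → ℤ}
  (hδP : Cyc.DeltaCompat (pullback.fst sx (str k) ≫ sx) δP fun _ => 0)
  {δ : X → ℤ} (hδ : Cyc.DeltaCompat sx δ fun _ => 0)

include hδP

set_option maxHeartbeats 800000 in
/-- The constant family at a closed point. -/
theorem exists_constant {b : X} (hb : IsClosed ({b} : Set X)) : ∃ ξ' : ↥(pullback sx (str k)),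
    pullback.snd sx (str k) ξ' = genericPoint (PL k) ∧ δP ξ' = 1 ∧
    ∀ (u : Spec (CommRingCat.of k) ⟶ PL k) (hu : u ≫ str k = 𝟙 _) (x : X),
      fm sx (str k) u hu ξ' x = if x = b then 1 else 0 := by
  let pb := pointOfClosedPoint sx b hb
  have hpb : pb ≫ sx = 𝟙 _ := pointOfClosedPoint_comp _ _ _
  let d : PL k ⟶ pullback sx (str k) := pullback.lift (str k ≫ pb) (𝟙 _)
    (by rw [Category.assoc, hpb, Category.id_comp, Category.comp_id])
  have hd2 : d ≫ pullback.snd sx (str k) = 𝟙 _ := pullback.lift_snd _ _ _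
  haveI : IsClosedImmersion (d ≫ pullback.snd sx (str k)) := by rw [hd2]; infer_instance
  haveI : IsClosedImmersion d := IsClosedImmersion.of_comp d (pullback.snd sx (str k))
  have hdfst : ∀ c, pullback.fst sx (str k) (d c) = b := fun c => by
    rw [← Scheme.Hom.comp_apply, pullback.lift_fst, Scheme.Hom.comp_apply]
    exact pointOfClosedPoint_apply _ _ _ _
  have hdsnd : ∀ c, pullback.snd sx (str k) (d c) = c := fun c => by
    rw [← Scheme.Hom.comp_apply, hd2]; rfl
  haveI : LocallyOfFiniteType (str k) := inferInstance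
  obtain ⟨δW, hδW, hW1⟩ := Line.exists_delta_line k
  have hη1 : δP (d (genericPoint (PL k))) = 1 := by
    rw [← hW1]
    have h1 := Groth.L22.Bundle.deltaCompat_comp d _ hδP
    rw [← Category.assoc, pullback.lift_fst, Category.assoc, hpb, Category.comp_id] at h1
    obtain ⟨n, hn, hdn⟩ := h1 (genericPoint (PL k))
    obtain ⟨n', hn', hdn'⟩ := hδW (genericPoint (PL k))
    have hnn : n = n' := by exact_mod_cast hn.symm.trans hn'
    exact hdn.trans (hnn ▸ hdn'.symm)
  refine ⟨d (genericPoint (PL k)), hdsnd _, hη1, fun u hu x => ?_⟩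
  by_cases hx : IsClosed ({x} : Set X)
  swap
  · rw [fm_eq_zero_of_not_closed sx hδP (hdsnd _) hη1 hu hx, if_neg]
    rintro rfl
    exact hx hb
  by_cases hxb : x = b
  · subst hxb
    rw [if_pos rfl]
    have hcu := ((pointEquivClosedPoint (str k)) ⟨u, hu⟩).2
    have he : d (u (IsLocalRing.closedPoint k)) = AlgEqCyc.slice sx (str k) u hu x := by
      refine closed_ext sx (str k) ?_ (isClosed_slice sx (str k) u hu hx) ((hdfst _).trans (fst_slice sx (str k) u hu x).symm)
        ((hdsnd _).trans (snd_slice sx (str k) u hu x).symm)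
      rw [← Set.image_singleton]
      exact d.isClosedEmbedding.isClosedMap _ hcu
    have hsp : d (genericPoint (PL k)) ⤳ d (u (IsLocalRing.closedPoint k)) :=
      (genericPoint_specializes' _).map d.continuous
    rw [fm, dif_pos (he ▸ hsp)]
    have key := Groth.L16.AlgEqC.fibreMult_section d (pullback.snd sx (str k)) hd2 (u (IsLocalRing.closedPoint k)) hsp
    have hcongr : ∀ (v : ↥(pullback sx (str k))) (_ : d (u (IsLocalRing.closedPoint k)) = v) (h : d (genericPoint (PL k)) ⤳ v),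
        AlgEqCyc.fibreMult (pullback.snd sx (str k)) v (d (genericPoint (PL k))) h = 1 := by
      rintro v rfl h
      exact key
    rw [hcongr _ he _]
    rfl
  · rw [if_neg hxb, fm, dif_neg]
    intro h
    obtain ⟨c, hc⟩ := h.mem_closed d.isClosedEmbedding.isClosed_range ⟨_, rfl⟩
    exact hxb (by rw [← fst_slice sx (str k) u hu x, ← hc, hdfst])

end Sections

section Main

variable {k : Type u} [Field k] [IsAlgClosed k] [CharZero k] {X : Scheme.{u}} (sx : X ⟶ Spec (CommRingCat.of k))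
  [IsProper sx]

set_option maxHeartbeats 3200000 in
/-- A rational equivalence of effective zero-cycles is given by a map of the line to a symmetric product. -/
theorem exists_morphism_of_ratEquiv {δ : X → ℤ} (hδ : Cyc.DeltaCompat sx δ fun _ => 0)
    (Sy : ℕ → Scheme.{u}) (q : (n : ℕ) → (SymProd.fibPow sx n ⟶ Sy n)) (g : (n : ℕ) → (Sy n ⟶ Spec (CommRingCat.of k)))
    (hS : ∀ n, SymProd.IsSymProd sx n (q n) (g n))
    (d : ℕ) (α β : AlgebraicCycle X ℤ) (hβ : β ∈ Cyc.Zk X δ 0) (hβ0 : ∀ x, 0 ≤ β x)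
    (hβd : ∑ᶠ x, β x = (d : ℤ)) (h : Cyc.RatEquiv δ 0 α β) :
    ∃ (m : ℕ) (γ : AlgebraicCycle X ℤ), γ ∈ Cyc.Zk X δ 0 ∧ (∀ x, 0 ≤ γ x) ∧ ∑ᶠ x, γ x = (m : ℤ) ∧
      ∃ (f : PL k ⟶ Sy (d + m)) (t₀ t₁ : Spec (CommRingCat.of k) ⟶ PL k),
        f ≫ g (d + m) = str k ∧ t₀ ≫ str k = 𝟙 _ ∧ t₁ ≫ str k = 𝟙 _ ∧
        ZCorr.IsCycleOfSymPt sx (d + m) (q (d + m)) (t₀ ≫ f) ⇑(α + γ) ∧
        ZCorr.IsCycleOfSymPt sx (d + m) (q (d + m)) (t₁ ≫ f) ⇑(β + γ) := by
  haveI : LocallyOfFiniteType (str k) := inferInstance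
  haveI : CompactSpace X := QuasiCompact.compactSpace_of_compactSpace sx
  haveI : CompactSpace ↥(pullback sx (str k)) :=
    QuasiCompact.compactSpace_of_compactSpace (pullback.fst sx (str k) ≫ sx)
  obtain ⟨δP, hδP⟩ := exists_delta (pullback.fst sx (str k) ≫ sx)
  obtain ⟨ι, ξ, f, hξ, hf, hlf, hsum⟩ := h
  haveI : Finite ι := by
    choose U hU hxU hfin using hlf
    obtain ⟨T, hT⟩ := isCompact_univ.elim_finite_subcover U hU (fun x _ => Set.mem_iUnion.2 ⟨x, hxU x⟩)
    refine Set.finite_univ_iff.1 ((T.finite_toSet.biUnion fun x _ => hfin x).subset fun i _ => ?_)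
    obtain ⟨x, hx, hxi⟩ := Set.mem_iUnion₂.1 (hT (Set.mem_univ (ξ i)))
    exact Set.mem_biUnion hx ⟨ξ i, subset_closure rfl, hxi⟩
  letI := Fintype.ofFinite ι
  let I := {i : ι // ¬∀ x, Cyc.divFun δ (ξ i) (f i) x = 0}
  have hgraph : ∀ i : I, ∃ ξ' : ↥(pullback sx (str k)),
      pullback.snd sx (str k) ξ' = genericPoint (PL k) ∧ δP ξ' = 1 ∧
      ∀ x, fm sx (str k) (Line.pt k 0 0) (Line.pt_str k 0 0) ξ' x -
        fm sx (str k) (Line.pt k 1 0) (Line.pt_str k 1 0) ξ' x = Cyc.divFun δ (ξ i.1) (f i.1) x := fun i =>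
    (exists_graph sx hδP hδ ((hξ i.1).trans (zero_add 1)) (f i.1) (hf i.1)).resolve_left i.2
  choose ξ₁ hη₁ hδ₁ hdiv using hgraph
  let B := (finite_support β).toFinset
  have hconst : ∀ b : {b // b ∈ B}, ∃ ξ' : ↥(pullback sx (str k)),
      pullback.snd sx (str k) ξ' = genericPoint (PL k) ∧ δP ξ' = 1 ∧
      ∀ (u : Spec (CommRingCat.of k) ⟶ PL k) (hu : u ≫ str k = 𝟙 _) (x : X),
        fm sx (str k) u hu ξ' x = if x = b.1 then 1 else 0 := fun b =>
    exists_constant sx hδP ((delta_eq_zero_iff sx hδ b.1).1 (by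
      by_contra hne
      exact ((finite_support β).mem_toFinset.1 b.2) (hβ b.1 hne)))
  choose ξ₂ hη₂ hδ₂ hfib using hconst
  let Γc : AlgebraicCycle (pullback sx (str k)) ℤ :=
    (∑ i : I, Function.locallyFinsuppWithin.single (ξ₁ i) (1 : ℤ)) +
      ∑ b : {b // b ∈ B}, Function.locallyFinsuppWithin.single (ξ₂ b) (β b.1)
  have hΓ : ∀ v, Γc v = (∑ i : I, if v = ξ₁ i then (1 : ℤ) else 0) + ∑ b : {b // b ∈ B}, if v = ξ₂ b then β b.1 else 0 := by
    intro v
    simp only [Γc, Function.locallyFinsuppWithin.coe_add, Pi.add_apply, Function.locallyFinsuppWithin.coe_sum,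
      Finset.sum_apply, Function.locallyFinsuppWithin.single_apply]
  have hΓ0 : ∀ v, 0 ≤ Γc v := fun v => by
    rw [hΓ]
    refine add_nonneg (Finset.sum_nonneg fun i _ => ?_) (Finset.sum_nonneg fun b _ => ?_) <;> split_ifs
    all_goals first | exact zero_le_one | exact hβ0 _ | exact le_rfl
  let T : Finset ↥(pullback sx (str k)) := Finset.univ.image ξ₁ ∪ Finset.univ.image ξ₂
  have hT : ∀ v, Γc v ≠ 0 → v ∈ T := by
    intro v hv
    by_contra hvT
    simp only [T, Finset.mem_union, Finset.mem_image, Finset.mem_univ, true_and, not_or, not_exists] at hvT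
    refine hv ?_
    rw [hΓ, Finset.sum_eq_zero fun i _ => if_neg (Ne.symm (hvT.1 i)),
      Finset.sum_eq_zero fun b _ => if_neg (Ne.symm (hvT.2 b)), add_zero]
  have hηT : ∀ v ∈ T, pullback.snd sx (str k) v = genericPoint (PL k) ∧ δP v = 1 := by
    intro v hv
    simp only [T, Finset.mem_union, Finset.mem_image, Finset.mem_univ, true_and] at hv
    rcases hv with ⟨i, rfl⟩ | ⟨b, rfl⟩
    · exact ⟨hη₁ i, hδ₁ i⟩
    · exact ⟨hη₂ b, hδ₂ b⟩
  have hbsum : ∀ x, ∑ b : {b // b ∈ B}, β b.1 * (if x = b.1 then (1 : ℤ) else 0) = β x := by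
    intro x
    rw [Finset.univ_eq_attach, Finset.sum_attach B (fun b => β b * (if x = b then (1 : ℤ) else 0))]
    simp only [mul_ite, mul_one, mul_zero, Finset.sum_ite_eq]
    split_ifs with hx
    · rfl
    · exact (not_not.1 fun h => hx ((finite_support β).mem_toFinset.2 h)).symm
  let F : (u : Spec (CommRingCat.of k) ⟶ PL k) → u ≫ str k = 𝟙 _ → X → ℤ := fun u hu x =>
    ∑ i : I, fm sx (str k) u hu (ξ₁ i) x
  have hfibre : ∀ u hu x, AlgEqCyc.fibreFun sx (str k) Γc u hu x = F u hu x + β x := by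
    intro u hu x
    rw [fibreFun_eq_sum sx (str k) u hu Γc T hT x]
    simp only [hΓ, add_mul, Finset.sum_add_distrib, Finset.sum_mul]
    congr 1
    · rw [Finset.sum_comm]
      refine Finset.sum_congr rfl fun i _ => ?_
      simp only [ite_mul, one_mul, zero_mul, Finset.sum_ite_eq']
      rw [if_pos (Finset.mem_union_left _ (Finset.mem_image_of_mem _ (Finset.mem_univ i)))]
    · rw [Finset.sum_comm, ← hbsum x]
      refine Finset.sum_congr rfl fun b _ => ?_
      simp only [ite_mul, zero_mul, Finset.sum_ite_eq']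
      rw [if_pos (Finset.mem_union_right _ (Finset.mem_image_of_mem _ (Finset.mem_univ b))), hfib b u hu x]
  have hFfin : ∀ u hu, (Function.support (F u hu)).Finite := fun u hu =>
    (Set.finite_iUnion fun i : I => finite_support_fm sx hδP (hη₁ i) (hδ₁ i) hu).subset fun x hx => by
      obtain ⟨i, -, hi⟩ := Finset.exists_ne_zero_of_sum_ne_zero hx
      exact Set.mem_iUnion.2 ⟨i, hi⟩
  obtain ⟨γ, hγ⟩ := exists_cycle_of_finite (F (Line.pt k 1 0) (Line.pt_str k 1 0)) (hFfin _ _)
  have hγ0 : ∀ x, 0 ≤ γ x := fun x => by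
    rw [hγ]
    refine Finset.sum_nonneg fun i _ => ?_
    rw [fm]
    split_ifs
    · exact Int.natCast_nonneg _
    · exact le_rfl
  let m := (∑ᶠ x, γ x).toNat
  have hm : ∑ᶠ x, γ x = (m : ℤ) := (Int.toNat_of_nonneg (finsum_nonneg hγ0)).symm
  refine ⟨m, γ, fun x hx => ?_, hγ0, hm, ?_⟩
  · rw [hγ]
    exact Finset.sum_eq_zero fun i _ => fm_eq_zero_of_not_closed sx hδP (hη₁ i) (hδ₁ i) _
      fun hc => hx ((delta_eq_zero_iff sx hδ x).2 hc)
  have hdeg : ∀ (u : Spec (CommRingCat.of k) ⟶ PL k) (hu : u ≫ str k = 𝟙 _),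
      ∑ᶠ x, AlgEqCyc.fibreFun sx (str k) Γc u hu x = ((d + m : ℕ) : ℤ) := by
    intro u hu
    have hs : ∀ u hu, ∑ᶠ x, F u hu x = ∑ i : I, ∑ᶠ x, fm sx (str k) u hu (ξ₁ i) x := fun u hu =>
      finsum_sum_comm _ _ fun i _ => finite_support_fm sx hδP (hη₁ i) (hδ₁ i) hu
    rw [finsum_congr (hfibre u hu), finsum_add_distrib (hFfin u hu) (finite_support β), hβd, hs u hu,
      Finset.sum_congr rfl fun i _ => sum_fm_eq sx hδP hδ (hη₁ i) (hδ₁ i) hu (Line.pt_str k 1 0), ← hs _ _, ← hγ, hm]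
    push_cast
    ring
  have hnorm : ∀ U : (PL k).Opens, Nonempty U → IsIntegrallyClosed Γ(PL k, U) := fun U hU =>
    Groth.L16.CurveCompletion.isIntegrallyClosed_sections
      (Groth.L21.Smooth.isIntegrallyClosed_stalk (str k)) U hU
  obtain ⟨Φ, hΦ, hpt⟩ := exists_morphism sx (str k) hnorm (q (d + m)) (g (d + m)) (hS (d + m)) Γc
    (finite_support Γc) hΓ0 (fun v hv w => finite_fibres sx hδP (hηT v (hT v hv)).1 (hηT v (hT v hv)).2 w)
    (fun v hv z hz => flat_of_generic sx (hηT v (hT v hv)).1 z hz) hdeg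
  refine ⟨Φ, Line.pt k 0 0, Line.pt k 1 0, hΦ, Line.pt_str k 0 0, Line.pt_str k 1 0, ?_, ?_⟩
  · have e : (⇑(α + γ) : X → ℤ) = AlgEqCyc.fibreFun sx (str k) Γc (Line.pt k 0 0) (Line.pt_str k 0 0) := by
      funext x
      have hx := hsum x
      rw [Function.locallyFinsuppWithin.coe_sub, Pi.sub_apply, finsum_eq_sum_of_fintype] at hx
      have h2 : ∑ i : I, Cyc.divFun δ (ξ i.1) (f i.1) x = ∑ i : ι, Cyc.divFun δ (ξ i) (f i) x := by
        rw [← Finset.sum_subtype (Finset.univ.filter fun i => ¬∀ x, Cyc.divFun δ (ξ i) (f i) x = 0) (by simp)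
          (fun i => Cyc.divFun δ (ξ i) (f i) x), Finset.sum_filter]
        exact Finset.sum_congr rfl fun i _ => by
          split_ifs with hi
          · exact (hi x).symm
          · rfl
      simp only [← hdiv, Finset.sum_sub_distrib] at h2
      rw [Function.locallyFinsuppWithin.coe_add, Pi.add_apply, hfibre, hγ]
      simp only [F] at h2 ⊢
      linarith
    rw [e]
    exact hpt _ _
  · have e : (⇑(β + γ) : X → ℤ) = AlgEqCyc.fibreFun sx (str k) Γc (Line.pt k 1 0) (Line.pt_str k 1 0) := by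
      funext x
      rw [Function.locallyFinsuppWithin.coe_add, Pi.add_apply, hfibre, hγ, add_comm]
    rw [e]
    exact hpt _ _

end Main

end Groth.L22.SymCorr
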