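import Groth.Agent.L27.Quot.Affine
import Mathlib.FieldTheory.IsAlgClosed.AlgebraicClosure
import Mathlib.FieldTheory.Normal.Closure
import Mathlib.FieldTheory.Galois.Basic
import Mathlib.RingTheory.Localization.FractionRing

/-!
A finite Galois extension receiving all the embeddings of finitely many finite algebras over a normal domain,
and the quotient of the integral closure by the Galois group.
-/

set_option autoImplicit false
set_option linter.style.haveILetI false

universe u v

open CategoryTheory AlgebraicGeometry

noncomputable section

namespace Groth.L22.SymCorr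

/-- A finite algebra has only finitely many maps to a field. -/
theorem finite_algHom (R : Type u) (B : Type u) (E : Type u) [CommRing R] [CommRing B] [Algebra R B]
    [Module.Finite R B] [Field E] [Algebra R E] : Finite (B →ₐ[R] E) := by
  classical
  obtain ⟨s, hs⟩ := Module.Finite.fg_top (R := R) (M := B)
  have hint : ∀ b : B, ∃ p : Polynomial R, p.Monic ∧ Polynomial.aeval b p = 0 := fun b =>
    IsIntegral.of_finite R b
  choose p hp hpb using hint
  have hmem : ∀ (f : B →ₐ[R] E) (b : B), f b ∈ ((p b).map (algebraMap R E)).roots.toFinset := by
    intro f b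
    rw [Multiset.mem_toFinset, Polynomial.mem_roots ((hp b).map _).ne_zero, Polynomial.IsRoot,
      Polynomial.eval_map_algebraMap, Polynomial.aeval_algHom_apply, hpb, map_zero]
  refine Finite.of_injective (β := ∀ b : s, ((p b.1).map (algebraMap R E)).roots.toFinset)
    (fun f b => ⟨f b.1, hmem f b.1⟩) fun f g h => ?_
  refine AlgHom.toLinearMap_injective (LinearMap.ext_on hs ?_)
  intro b hb
  exact congrArg Subtype.val (congrFun h ⟨b, hb⟩)

variable (R : Type u) [CommRing R] [IsDomain R] {α : Type v} [Finite α] (B : α → Type u)
  [∀ a, CommRing (B a)] [∀ a, Algebra R (B a)] [∀ a, Module.Finite R (B a)]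

/-- An algebraic closure of the fraction field. -/
abbrev Om : Type u := AlgebraicClosure (FractionRing R)

theorem algebraMap_Om_injective : Function.Injective (algebraMap R (Om R)) := by
  rw [IsScalarTower.algebraMap_eq R (FractionRing R) (Om R)]
  exact (algebraMap (FractionRing R) (Om R)).injective.comp (IsFractionRing.injective R (FractionRing R))

/-- The images of chosen generators under all embeddings. -/
def gens : Set (Om R) :=
  ⋃ (a : α) (f : B a →ₐ[R] Om R), f '' ((Module.Finite.fg_top (R := R) (M := B a)).choose : Set (B a))

theorem gens_finite : (gens R B).Finite := by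
  refine Set.finite_iUnion fun a => ?_
  haveI := finite_algHom R (B a) (Om R)
  exact Set.finite_iUnion fun f => (Finset.finite_toSet _).image _

/-- The finite Galois extension. -/
def galF : IntermediateField (FractionRing R) (Om R) :=
  IntermediateField.normalClosure (FractionRing R) (IntermediateField.adjoin (FractionRing R) (gens R B)) (Om R)

instance finiteDimensional_galF : FiniteDimensional (FractionRing R) (galF R B) := by
  haveI := (gens_finite R B).to_subtype
  haveI : FiniteDimensional (FractionRing R) (IntermediateField.adjoin (FractionRing R) (gens R B)) :=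
    IntermediateField.finiteDimensional_adjoin fun x _ => Algebra.IsIntegral.isIntegral x
  unfold galF
  infer_instance

instance isGalois_galF [CharZero R] : IsGalois (FractionRing R) (galF R B) := by
  haveI : CharZero (FractionRing R) := charZero_of_injective_algebraMap (IsFractionRing.injective R _)
  haveI : Normal (FractionRing R) (galF R B) := by unfold galF; infer_instance
  exact ⟨⟩

theorem apply_mem_galF (a : α) (f : B a →ₐ[R] Om R) (b : B a) : f b ∈ galF R B := by
  have h : ∀ x ∈ ((Module.Finite.fg_top (R := R) (M := B a)).choose : Set (B a)), f x ∈ galF R B := fun x hx =>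
    IntermediateField.le_normalClosure _ (IntermediateField.subset_adjoin _ _
      (Set.mem_iUnion.2 ⟨a, Set.mem_iUnion.2 ⟨f, x, hx, rfl⟩⟩))
  have hb : b ∈ Submodule.span R ((Module.Finite.fg_top (R := R) (M := B a)).choose : Set (B a)) := by
    rw [(Module.Finite.fg_top (R := R) (M := B a)).choose_spec]
    trivial
  induction hb using Submodule.span_induction with
  | mem x hx => exact h x hx
  | zero => rw [map_zero]; exact zero_mem _
  | add x y _ _ hx hy => rw [map_add]; exact add_mem hx hy
  | smul r x _ hx =>
    rw [map_smul, Algebra.smul_def, IsScalarTower.algebraMap_apply R (FractionRing R) (Om R)]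
    exact mul_mem ((galF R B).algebraMap_mem _) hx

/-- The integral closure of the domain in the Galois extension. -/
abbrev Rcl : Type u := integralClosure R (galF R B)

/-- The inclusion into the algebraic closure. -/
def incl : Rcl R B →ₐ[R] Om R :=
  (((galF R B).val).restrictScalars R).comp (integralClosure R (galF R B)).val

theorem incl_injective : Function.Injective (incl R B) := fun _ _ h =>
  Subtype.ext (Subtype.ext h)

/-- An embedding as a map to the integral closure. -/
def emb (a : α) (f : B a →ₐ[R] Om R) : B a →ₐ[R] Rcl R B :=
  let f₁ : B a →ₐ[R] galF R B :=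
    { toFun := fun b => ⟨f b, apply_mem_galF R B a f b⟩
      map_one' := Subtype.ext (map_one f)
      map_mul' := fun x y => Subtype.ext (map_mul f x y)
      map_zero' := Subtype.ext (map_zero f)
      map_add' := fun x y => Subtype.ext (map_add f x y)
      commutes' := fun r => Subtype.ext (f.commutes r) }
  f₁.codRestrict (integralClosure R (galF R B)) fun b => (IsIntegral.of_finite R b).map f₁

theorem incl_emb (a : α) (f : B a →ₐ[R] Om R) : (incl R B).comp (emb R B a f) = f := rfl

theorem emb_bijective (a : α) : Function.Bijective fun f => (incl R B).comp (emb R B a f) :=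
  Function.bijective_id

theorem exists_eq_emb (a : α) (f : B a →ₐ[R] Rcl R B) : emb R B a ((incl R B).comp f) = f :=
  AlgHom.ext fun _ => Subtype.ext (Subtype.ext rfl)

/-- The Galois group. -/
abbrev Gal : Type u := galF R B ≃ₐ[FractionRing R] galF R B

theorem smul_mem (g : Gal R B) (x : Rcl R B) : g x.1 ∈ integralClosure R (galF R B) :=
  x.2.map ((g.toAlgHom).restrictScalars R)

/-- The Galois action on the integral closure. -/
instance galAction : MulSemiringAction (Gal R B) (Rcl R B) where
  smul g x := ⟨g x.1, smul_mem R B g x⟩
  one_smul x := Subtype.ext rfl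
  mul_smul g h x := Subtype.ext rfl
  smul_zero g := Subtype.ext (map_zero g)
  smul_add g x y := Subtype.ext (map_add g x.1 y.1)
  smul_one g := Subtype.ext (map_one g)
  smul_mul g x y := Subtype.ext (map_mul g x.1 y.1)

theorem coe_smul (g : Gal R B) (x : Rcl R B) : ((g • x : Rcl R B) : galF R B) = g x.1 := rfl

/-- The action of a group element as an algebra map. -/
def actHom (g : Gal R B) : Rcl R B →ₐ[R] Rcl R B :=
  { MulSemiringAction.toRingHom (Gal R B) (Rcl R B) g with
    commutes' := fun r => Subtype.ext (by
      show g (algebraMap R (galF R B) r) = algebraMap R (galF R B) r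
      rw [IsScalarTower.algebraMap_apply R (FractionRing R) (galF R B), AlgEquiv.commutes]) }

theorem actHom_injective (g : Gal R B) : Function.Injective (actHom R B g) := fun _ _ h =>
  Subtype.ext (g.injective (congrArg Subtype.val h))

instance smulComm : SMulCommClass (Gal R B) R (Rcl R B) :=
  ⟨fun g r x => by
    rw [Algebra.smul_def, Algebra.smul_def, smul_mul']
    exact congrArg (· * _) ((actHom R B g).commutes r)⟩

instance isInvariant [CharZero R] [IsIntegrallyClosed R] : Algebra.IsInvariant R (Rcl R B) (Gal R B) := by
  refine ⟨fun x hx => ?_⟩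
  obtain ⟨k, hk⟩ := IntermediateField.mem_bot.1 ((IsGalois.mem_bot_iff_fixed x.1).2 fun g =>
    congrArg Subtype.val (hx g))
  have hint : IsIntegral R k := by
    refine (isIntegral_algebraMap_iff (FaithfulSMul.algebraMap_injective (FractionRing R) (galF R B))).1 ?_
    rw [hk]
    exact x.2
  obtain ⟨r, rfl⟩ := IsIntegrallyClosed.algebraMap_eq_of_integral hint
  exact ⟨r, Subtype.ext ((IsScalarTower.algebraMap_apply R (FractionRing R) (galF R B) r).trans hk)⟩

instance faithful : FaithfulSMul R (Rcl R B) := by
  rw [faithfulSMul_iff_algebraMap_injective]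
  intro x y h
  refine algebraMap_Om_injective R ?_
  simpa using congrArg (incl R B) h

/-- The action on the spectrum. -/
def specAct : Gal R B →* Aut (Spec (CommRingCat.of (Rcl R B))) where
  toFun g :=
    { hom := Spec.map (CommRingCat.ofHom (MulSemiringAction.toRingHom (Gal R B) (Rcl R B) g⁻¹))
      inv := Spec.map (CommRingCat.ofHom (MulSemiringAction.toRingHom (Gal R B) (Rcl R B) g))
      hom_inv_id := by
        rw [← Spec.map_comp, ← Spec.map_id]
        congr 1
        apply CommRingCat.hom_ext; apply RingHom.ext; intro x
        exact inv_smul_smul g x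
      inv_hom_id := by
        rw [← Spec.map_comp, ← Spec.map_id]
        congr 1
        apply CommRingCat.hom_ext; apply RingHom.ext; intro x
        exact smul_inv_smul g x }
  map_one' := Iso.ext (by
    show Spec.map _ = 𝟙 _
    rw [← Spec.map_id]
    congr 1)
  map_mul' g h := Iso.ext (by
    simp only [Aut.Aut_mul_def, Iso.trans_hom]
    rw [← Spec.map_comp]
    congr 1)

theorem isQuot_specAct [CharZero R] [IsIntegrallyClosed R] :
    SGA1.IsQuot (specAct R B) (Spec.map (CommRingCat.ofHom (algebraMap R (Rcl R B)))) := by
  refine Groth.L27.Quot.isQuot_SpecMap _ ?_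
  ext f
  constructor
  · rintro ⟨g, rfl⟩
    exact ⟨g⁻¹, rfl⟩
  · rintro ⟨g, rfl⟩
    refine ⟨g⁻¹, ?_⟩
    show Spec.map (CommRingCat.ofHom (MulSemiringAction.toRingHom _ _ g⁻¹⁻¹)) = _
    rw [inv_inv]

end Groth.L22.SymCorr
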