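import Groth.Agent.L22.SymCorr.Comp
import Groth.Agent.L22.SymCorr.Count
import Mathlib.AlgebraicGeometry.AlgClosed.Basic
import Mathlib.RingTheory.Ideal.GoingUp
import Mathlib.RingTheory.Flat.TorsionFree

/-!
The fibre cycle of a component at a rational point, counted by embeddings.
-/

set_option autoImplicit false
set_option linter.style.haveILetI false
set_option backward.isDefEq.respectTransparency false
set_option backward.isDefEq.respectTransparency.types false

universe u

open AlgebraicGeometry CategoryTheory CategoryTheory.Limits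

noncomputable section

namespace Groth.L22.SymCorr

/-- The sections over a preimage as an algebra. -/
abbrev appAlgebra {Y T : Scheme.{u}} (f : Y ⟶ T) (U : T.Opens) : Algebra Γ(T, U) Γ(Y, f ⁻¹ᵁ U) :=
  (f.app U).hom.toAlgebra

theorem module_finite_app {Y T : Scheme.{u}} (f : Y ⟶ T) [IsFinite f] {U : T.Opens} (hU : IsAffineOpen U) :
    letI := appAlgebra f U
    Module.Finite Γ(T, U) Γ(Y, f ⁻¹ᵁ U) :=
  f.finite_app U hU

theorem module_flat_app {Y T : Scheme.{u}} (f : Y ⟶ T) [Flat f] [IsAffineHom f] {U : T.Opens} (hU : IsAffineOpen U) :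
    letI := appAlgebra f U
    Module.Flat Γ(T, U) Γ(Y, f ⁻¹ᵁ U) := by
  have h := f.flat_appLE hU (hU.preimage f) le_rfl
  rwa [← Scheme.Hom.app_eq_appLE] at h

theorem faithful_app {Y T : Scheme.{u}} [IsIntegral Y] [IsIntegral T] (f : Y ⟶ T)
    {U : T.Opens} (hfl : letI := appAlgebra f U; Module.Flat Γ(T, U) Γ(Y, f ⁻¹ᵁ U)) [Nonempty U] [Nonempty (f ⁻¹ᵁ U)] :
    letI := appAlgebra f U
    FaithfulSMul Γ(T, U) Γ(Y, f ⁻¹ᵁ U) := by
  letI := appAlgebra f U
  haveI := hfl
  haveI : Module.IsTorsionFree Γ(T, U) Γ(Y, f ⁻¹ᵁ U) := inferInstance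
  infer_instance

/-- A prime over a rational point is the kernel of a rational point. -/
theorem exists_point {R A k : Type u} [CommRing R] [CommRing A] [Algebra R A] [Algebra.IsIntegral R A]
    [Field k] [IsAlgClosed k] (ev : R →+* k) (hev : Function.Surjective ev) (n : Ideal A) [n.IsPrime]
    (hn : n.comap (algebraMap R A) = RingHom.ker ev) :
    ∃ z : A →+* k, RingHom.ker z = n ∧ z.comp (algebraMap R A) = ev := by
  let e : k →+* A ⧸ n := RingHom.liftOfSurjective ev hev ⟨(Ideal.Quotient.mk n).comp (algebraMap R A), fun r hr => by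
    rw [RingHom.mem_ker, RingHom.comp_apply, Ideal.Quotient.eq_zero_iff_mem, ← Ideal.mem_comap, hn]
    exact hr⟩
  have he : ∀ r, e (ev r) = Ideal.Quotient.mk n (algebraMap R A r) := fun r =>
    RingHom.liftOfRightInverse_comp_apply _ _ _ _ r
  have hint : e.IsIntegral := by
    refine RingHom.IsIntegral.tower_top ev e ?_
    have : e.comp ev = (Ideal.Quotient.mk n).comp (algebraMap R A) := RingHom.ext he
    rw [this]
    exact RingHom.IsIntegral.trans _ _ Algebra.IsIntegral.isIntegral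
      (RingHom.IsIntegral.of_finite (RingHom.Finite.of_surjective _ Ideal.Quotient.mk_surjective))
  have hb : Function.Bijective e := IsAlgClosed.ringHom_bijective_of_isIntegral e hint
  refine ⟨(RingEquiv.ofBijective e hb).symm.toRingHom.comp (Ideal.Quotient.mk n), ?_, RingHom.ext fun r => ?_⟩
  · ext a
    rw [RingHom.mem_ker, RingHom.comp_apply]
    exact (map_eq_zero_iff _ (RingEquiv.ofBijective e hb).symm.injective).trans Ideal.Quotient.eq_zero_iff_mem
  · refine (RingEquiv.ofBijective e hb).injective ?_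
    show (RingEquiv.ofBijective e hb) ((RingEquiv.ofBijective e hb).symm _) = e (ev r)
    rw [RingEquiv.apply_symm_apply, he]

variable {k : Type u} [Field k] [IsAlgClosed k] [CharZero k] {X W Z : Scheme.{u}}
  (sx : X ⟶ Spec (CommRingCat.of k)) (sw : W ⟶ Spec (CommRingCat.of k)) [LocallyOfFiniteType sx]
  [IsIntegral W] [IsIntegral Z] (i : Z ⟶ pullback sx sw) [IsClosedImmersion i]
  [IsFinite (i ≫ pullback.snd sx sw)]
  {ξ : ↥(pullback sx sw)} (hξ : i (genericPoint Z) = ξ)
  {U : W.Opens} (hU : IsAffineOpen U) [Nonempty U] [Nonempty ((i ≫ pullback.snd sx sw) ⁻¹ᵁ U)]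

/-- The point of the product cut out by a point of the preimage with values in a ring. -/
def pointOf {A : Type u} [CommRing A] (z : Γ(Z, (i ≫ pullback.snd sx sw) ⁻¹ᵁ U) →+* A) :
    Spec (CommRingCat.of A) ⟶ pullback sx sw :=
  Spec.map (CommRingCat.ofHom z) ≫ (hU.preimage (i ≫ pullback.snd sx sw)).fromSpec ≫ i

omit [CharZero k] [LocallyOfFiniteType sx] [IsIntegral W] [IsIntegral Z] [IsClosedImmersion i]
  [Nonempty U] [Nonempty ((i ≫ pullback.snd sx sw) ⁻¹ᵁ U)] [IsAlgClosed k] in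
theorem pointOf_snd {A : Type u} [CommRing A] (z : Γ(Z, (i ≫ pullback.snd sx sw) ⁻¹ᵁ U) →+* A) :
    pointOf sx sw i hU z ≫ pullback.snd sx sw =
      Spec.map (CommRingCat.ofHom (z.comp ((i ≫ pullback.snd sx sw).app U).hom)) ≫ hU.fromSpec := by
  have h := IsAffineOpen.SpecMap_appLE_fromSpec (i ≫ pullback.snd sx sw) hU
    (hU.preimage (i ≫ pullback.snd sx sw)) le_rfl
  rw [← Scheme.Hom.app_eq_appLE] at h
  rw [pointOf, Category.assoc, Category.assoc, ← h, ← Category.assoc, ← Spec.map_comp]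
  rfl

omit [CharZero k] [LocallyOfFiniteType sx] [IsIntegral W] [IsIntegral Z] [IsClosedImmersion i]
  [Nonempty U] [Nonempty ((i ≫ pullback.snd sx sw) ⁻¹ᵁ U)] [IsAlgClosed k] in
theorem map_pointOf {A A' : Type u} [CommRing A] [CommRing A'] (φ : A →+* A')
    (z : Γ(Z, (i ≫ pullback.snd sx sw) ⁻¹ᵁ U) →+* A) :
    Spec.map (CommRingCat.ofHom φ) ≫ pointOf sx sw i hU z = pointOf sx sw i hU (φ.comp z) := by
  rw [pointOf, pointOf, ← Category.assoc, ← Spec.map_comp]
  rfl

include hξ in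
/-- The number of embeddings over `x` is the multiplicity of the fibre cycle at `x`. -/
theorem card_point_eq {E R' : Type u} [Field E] [IsAlgClosed E] [CharZero E] [Algebra Γ(W, U) E]
    (hinj : Function.Injective (algebraMap Γ(W, U) E)) [CommRing R'] [Algebra Γ(W, U) R'] {ι : Type*} [Fintype ι]
    (j : R' →ₐ[Γ(W, U)] E) (hj : Function.Injective j)
    (σ : ι → letI := appAlgebra (i ≫ pullback.snd sx sw) U
      (Γ(Z, (i ≫ pullback.snd sx sw) ⁻¹ᵁ U) →ₐ[Γ(W, U)] R'))
    (hσ : letI := appAlgebra (i ≫ pullback.snd sx sw) U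
      Function.Bijective fun t => j.comp (σ t))
    (hfl : letI := appAlgebra (i ≫ pullback.snd sx sw) U
      Module.Flat Γ(W, U) Γ(Z, (i ≫ pullback.snd sx sw) ⁻¹ᵁ U))
    (ψ : R' →+* k) (u : Spec (CommRingCat.of k) ⟶ W) (hu : u ≫ sw = 𝟙 _)
    (hψu : Spec.map (CommRingCat.ofHom (ψ.comp (algebraMap Γ(W, U) R'))) ≫ hU.fromSpec = u)
    (hψ : Function.Surjective fun r => ψ (algebraMap Γ(W, U) R' r)) (x : X) :
    (Nat.card {t : ι // (pointOf sx sw i hU (ψ.comp (@AlgHom.toRingHom _ _ _ _ _ _ (appAlgebra (i ≫ pullback.snd sx sw) U) _ (σ t)))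
        ≫ pullback.fst sx sw) (IsLocalRing.closedPoint k) = x} : ℕ) =
      @dite _ (ξ ⤳ AlgEqCyc.slice sx sw u hu x) (Classical.dec _)
        (fun h => AlgEqCyc.fibreMult (pullback.snd sx sw) (AlgEqCyc.slice sx sw u hu x) ξ h) (fun _ => 0) := by
  classical
  letI := appAlgebra (i ≫ pullback.snd sx sw) U
  have hV : IsAffineOpen ((i ≫ pullback.snd sx sw) ⁻¹ᵁ U) := hU.preimage (i ≫ pullback.snd sx sw)
  set ev : Γ(W, U) →+* k := ψ.comp (algebraMap Γ(W, U) R')
  haveI : Subsingleton ↥(Spec (CommRingCat.of k)) := inferInstanceAs (Subsingleton (PrimeSpectrum k))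
  let pt : ↥(Spec (CommRingCat.of k)) := IsLocalRing.closedPoint k
  -- the composite of every embedding lies over `u`
  have hc : ∀ t, pointOf sx sw i hU (ψ.comp (σ t).toRingHom) ≫ pullback.snd sx sw = u := fun t => by
    rw [pointOf_snd, ← hψu]
    congr 3
    exact RingHom.ext fun r => congrArg ψ ((σ t).commutes r)
  have key : ∀ t, ((pointOf sx sw i hU (ψ.comp (σ t).toRingHom) ≫ pullback.fst sx sw) pt = x ↔
      pointOf sx sw i hU (ψ.comp (σ t).toRingHom) pt = AlgEqCyc.slice sx sw u hu x) := by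
    intro t
    set c := pointOf sx sw i hU (ψ.comp (σ t).toRingHom)
    have hcx : (c ≫ pullback.fst sx sw) ≫ sx = 𝟙 _ := by
      rw [Category.assoc, pullback.condition, ← Category.assoc, hc, hu]
    have hcs : c = (c ≫ pullback.fst sx sw) ≫ AlgEqCyc.slice sx sw u hu := by
      apply pullback.hom_ext
      · simp [AlgEqCyc.slice]
      · rw [Category.assoc, AlgEqCyc.slice, pullback.lift_snd, ← Category.assoc, hcx, Category.id_comp, hc]
    constructor
    · intro h
      rw [hcs, Scheme.Hom.comp_apply, h]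
    · intro h
      rw [Scheme.Hom.comp_apply, h, ← Scheme.Hom.comp_apply, AlgEqCyc.slice, pullback.lift_fst]
      rfl
  have hrange := range_eq_closure i hξ
  have hsub : ∀ t, pointOf sx sw i hU (ψ.comp (σ t).toRingHom) pt ∈ closure ({ξ} : Set ↥(pullback sx sw)) := fun t => by
    rw [← hrange]
    exact ⟨_, rfl⟩
  have hcard : Nat.card {t : ι // (pointOf sx sw i hU (ψ.comp (σ t).toRingHom) ≫ pullback.fst sx sw) pt = x} =
      Nat.card {t : ι // pointOf sx sw i hU (ψ.comp (σ t).toRingHom) pt = AlgEqCyc.slice sx sw u hu x} :=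
    Nat.card_congr (Equiv.subtypeEquivRight key)
  refine hcard.trans ?_
  split_ifs with h
  swap
  · haveI : IsEmpty {t : ι // pointOf sx sw i hU (ψ.comp (σ t).toRingHom) pt = AlgEqCyc.slice sx sw u hu x} :=
      ⟨fun t => h (specializes_iff_mem_closure.2 (t.2 ▸ hsub t.1))⟩
    exact Nat.card_of_isEmpty
  obtain ⟨z, hz⟩ : AlgEqCyc.slice sx sw u hu x ∈ Set.range i := hrange ▸ specializes_iff_mem_closure.1 h
  have hzu : (i ≫ pullback.snd sx sw) z = u pt := by
    show pullback.snd sx sw (i z) = u pt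
    rw [hz, ← Scheme.Hom.comp_apply, AlgEqCyc.slice, pullback.lift_snd, Scheme.Hom.comp_apply]
    exact congrArg u (Subsingleton.elim _ _)
  have hptU : u pt ∈ U := by
    rw [← hψu]
    exact hU.range_fromSpec.le ⟨_, rfl⟩
  have hzV : z ∈ ((i ≫ pullback.snd sx sw) ⁻¹ᵁ U) := show (i ≫ pullback.snd sx sw) z ∈ U from hzu ▸ hptU
  set p : PrimeSpectrum Γ(Z, ((i ≫ pullback.snd sx sw) ⁻¹ᵁ U)) := hV.primeIdealOf ⟨z, hzV⟩
  have hpz : hV.fromSpec p = z := hV.fromSpec_primeIdealOf _
  have hm : p.asIdeal.comap ((i ≫ pullback.snd sx sw).app U).hom = RingHom.ker ev := by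
    have h1 : hU.fromSpec (Spec.map ((i ≫ pullback.snd sx sw).app U) p) = hU.fromSpec (Spec.map (CommRingCat.ofHom ev) pt) := by
      have h2 := IsAffineOpen.SpecMap_appLE_fromSpec (i ≫ pullback.snd sx sw) hU hV le_rfl
      rw [← Scheme.Hom.app_eq_appLE] at h2
      rw [← Scheme.Hom.comp_apply, h2, Scheme.Hom.comp_apply, hpz, hzu, ← hψu]
      rfl
    have h3 := congrArg PrimeSpectrum.asIdeal (hU.fromSpec.isOpenEmbedding.injective h1)
    refine h3.trans ?_
    show Ideal.comap ev (IsLocalRing.maximalIdeal k) = _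
    rw [IsLocalRing.maximalIdeal_eq_bot]
    rfl
  have hWm : (hU.primeIdealOf ⟨(i ≫ pullback.snd sx sw) z, hzu ▸ hptU⟩).asIdeal = RingHom.ker ev := by
    have h1 : hU.fromSpec (hU.primeIdealOf ⟨(i ≫ pullback.snd sx sw) z, hzu ▸ hptU⟩) = hU.fromSpec (Spec.map (CommRingCat.ofHom ev) pt) := by
      rw [hU.fromSpec_primeIdealOf]
      exact hzu.trans (by rw [← hψu]; rfl)
    refine (congrArg PrimeSpectrum.asIdeal (hU.fromSpec.isOpenEmbedding.injective h1)).trans ?_
    show Ideal.comap ev (IsLocalRing.maximalIdeal k) = _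
    rw [IsLocalRing.maximalIdeal_eq_bot]
    rfl
  haveI := module_finite_app (i ≫ pullback.snd sx sw) hU
  haveI := hfl
  haveI := faithful_app (i ≫ pullback.snd sx sw) hfl
  haveI : Algebra.IsIntegral Γ(W, U) Γ(Z, ((i ≫ pullback.snd sx sw) ⁻¹ᵁ U)) := Algebra.IsIntegral.of_finite _ _
  obtain ⟨zh, hzk, hzev⟩ := exists_point ev hψ p.asIdeal hm
  have hzpt : Spec.map (CommRingCat.ofHom zh) pt = p := by
    refine PrimeSpectrum.ext ?_
    show Ideal.comap zh (IsLocalRing.maximalIdeal k) = _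
    rw [IsLocalRing.maximalIdeal_eq_bot]
    exact hzk
  have hiff : ∀ t, pointOf sx sw i hU (ψ.comp (σ t).toRingHom) pt = AlgEqCyc.slice sx sw u hu x ↔
      ψ.comp (σ t).toRingHom = zh := by
    intro t
    constructor
    · intro ht
      rw [← hz, pointOf, Scheme.Hom.comp_apply, Scheme.Hom.comp_apply] at ht
      have h1 := i.isClosedEmbedding.injective ht
      rw [← hpz] at h1
      have h2 := congrArg PrimeSpectrum.asIdeal (hV.fromSpec.isOpenEmbedding.injective h1)
      have h3 : RingHom.ker (ψ.comp (σ t).toRingHom) = p.asIdeal := by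
        refine Eq.trans ?_ h2
        show _ = Ideal.comap (ψ.comp (σ t).toRingHom) (IsLocalRing.maximalIdeal k)
        rw [IsLocalRing.maximalIdeal_eq_bot]
        rfl
      refine RingHom.ext fun b => ?_
      obtain ⟨a, ha⟩ := hψ (zh b)
      have h4 : b - algebraMap Γ(W, U) _ a ∈ RingHom.ker (ψ.comp (σ t).toRingHom) := by
        rw [h3, ← hzk, RingHom.mem_ker, map_sub, ← RingHom.comp_apply zh, hzev, sub_eq_zero]
        exact ha.symm
      rw [RingHom.mem_ker, map_sub, sub_eq_zero] at h4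
      rw [h4, ← ha]
      exact congrArg ψ ((σ t).commutes a)
    · intro ht
      rw [ht, pointOf, Scheme.Hom.comp_apply, Scheme.Hom.comp_apply, hzpt]
      exact (congrArg i hpz).trans hz
  rw [Nat.card_congr (Equiv.subtypeEquivRight hiff)]
  letI : Algebra Γ(Z, ((i ≫ pullback.snd sx sw) ⁻¹ᵁ U)) (Z.presheaf.stalk z) := Z.presheaf.algebra_section_stalk ⟨z, hzV⟩
  haveI := hV.isLocalization_stalk ⟨z, hzV⟩
  haveI : Algebra.FiniteType Γ(W, U) Γ(Z, ((i ≫ pullback.snd sx sw) ⁻¹ᵁ U)) := Module.Finite.finiteType _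
  have hlen := card_eq_length hinj j hj σ hσ ψ hψ zh (fun r => RingHom.congr_fun hzev r) p.asIdeal hzk.symm
    (Bn := Z.presheaf.stalk z)
  letI : Algebra Γ(W, U) (W.presheaf.stalk ((i ≫ pullback.snd sx sw) z)) := W.presheaf.algebra_section_stalk ⟨(i ≫ pullback.snd sx sw) z, hzu ▸ hptU⟩
  haveI := hU.isLocalization_stalk ⟨(i ≫ pullback.snd sx sw) z, hzu ▸ hptU⟩
  have hmax : (IsLocalRing.maximalIdeal (W.presheaf.stalk ((i ≫ pullback.snd sx sw) z))).map ((i ≫ pullback.snd sx sw).stalkMap z).hom =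
      ((RingHom.ker ev).map (algebraMap Γ(W, U) Γ(Z, ((i ≫ pullback.snd sx sw) ⁻¹ᵁ U)))).map (algebraMap Γ(Z, ((i ≫ pullback.snd sx sw) ⁻¹ᵁ U)) (Z.presheaf.stalk z)) := by
    rw [← IsLocalization.AtPrime.map_eq_maximalIdeal (hU.primeIdealOf ⟨(i ≫ pullback.snd sx sw) z, hzu ▸ hptU⟩).asIdeal
      (W.presheaf.stalk ((i ≫ pullback.snd sx sw) z)), hWm, Ideal.map_map, Ideal.map_map]
    exact congrArg (fun φ => Ideal.map φ (RingHom.ker ev))
      (congrArg CommRingCat.Hom.hom (Scheme.Hom.germ_stalkMap (i ≫ pullback.snd sx sw) U z (hzu ▸ hptU)))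
  have hfm : AlgEqCyc.fibreMult (pullback.snd sx sw) (i z) ξ (hz.symm ▸ h) =
      (Module.length (Z.presheaf.stalk z) (Z.presheaf.stalk z ⧸
        (IsLocalRing.maximalIdeal (W.presheaf.stalk ((i ≫ pullback.snd sx sw) z))).map ((i ≫ pullback.snd sx sw).stalkMap z).hom)).toNat :=
    fibreMult_eq i (pullback.snd sx sw) hξ z _
  have hcongr : ∀ (v : ↥(pullback sx sw)) (e : i z = v) (h' : ξ ⤳ v),
      AlgEqCyc.fibreMult (pullback.snd sx sw) v ξ h' =
        AlgEqCyc.fibreMult (pullback.snd sx sw) (i z) ξ (e.symm ▸ h') := by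
    intro v e h'
    subst e
    rfl
  rw [hcongr _ hz h, hfm, hmax, ← hlen]
  rfl

end Groth.L22.SymCorr
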