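import Groth.Prelude.Def_W4c5zerocyclessurfSym
import Groth.Agent.L22.SymCorr.Galois
import Groth.Agent.L22.SymCorr.Points
import Groth.Agent.L27.Quot.Desc
import Mathlib.AlgebraicGeometry.Noetherian

/-!
The morphism to the symmetric product over an affine open of the parameter space.
-/

set_option autoImplicit false
set_option linter.style.haveILetI false
set_option backward.isDefEq.respectTransparency false
set_option backward.isDefEq.respectTransparency.types false

universe u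

open AlgebraicGeometry CategoryTheory CategoryTheory.Limits Groth.L22.Cyc

noncomputable section

namespace Groth.L22.SymCorr

theorem exists_equiv_fin {T : Type*} [Fintype T] {d : ℕ} (h : Fintype.card T = d) : Nonempty (T ≃ Fin d) :=
  ⟨Fintype.equivFinOfCardEq h⟩

variable {k : Type u} [Field k] [IsAlgClosed k] [CharZero k] {X W : Scheme.{u}}
  (sx : X ⟶ Spec (CommRingCat.of k)) (sw : W ⟶ Spec (CommRingCat.of k))

theorem finsum_subtype_dite {β : Type*} [Finite β] {P : β → Prop} [DecidablePred P] {Q : Type*}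
    (e : Q ≃ {a : β // P a}) (F : ∀ a, P a → ℤ) [Fintype β] :
    (∑ᶠ w : Q, F (e w).1 (e w).2) = ∑ a, if h : P a then F a h else 0 := by
  classical
  rw [finsum_comp_equiv e (f := fun a : {a : β // P a} => F a.1 a.2), finsum_eq_sum_of_fintype,
    ← Fintype.sum_subtype_add_sum_subtype P (fun a => if h : P a then F a h else 0),
    Finset.sum_eq_zero (s := (Finset.univ : Finset {a : β // ¬ P a})) (fun a _ => dif_neg a.2), add_zero]
  exact Finset.sum_congr (by ext; simp) fun a _ => (dif_pos a.2).symm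

/-- The morphism to the symmetric product on an affine open. -/
theorem exists_local [LocallyOfFiniteType sx] [IsProper sx] [LocallyOfFiniteType sw] [IsIntegral W]
    (hnorm : ∀ U : W.Opens, Nonempty U → IsIntegrallyClosed Γ(W, U))
    {d : ℕ} {Sy : Scheme.{u}} (q : SymProd.fibPow sx d ⟶ Sy) (g : Sy ⟶ Spec (CommRingCat.of k))
    (hS : SymProd.IsSymProd sx d q g)
    (Γc : AlgebraicCycle (pullback sx sw) ℤ) (hΓfin : {ξ | Γc ξ ≠ 0}.Finite) (hΓ0 : ∀ ξ, 0 ≤ Γc ξ)
    (hfin : ∀ ξ, Γc ξ ≠ 0 → ∀ w : W, (closure {ξ} ∩ pullback.snd sx sw ⁻¹' {w}).Finite)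
    (hflat : ∀ ξ, Γc ξ ≠ 0 → ∀ (z : ↥(pullback sx sw)) (h : ξ ⤳ z),
      ((Ideal.Quotient.mk (RingHom.ker (Cyc.specMap z ξ h))).comp ((pullback.snd sx sw).stalkMap z).hom).Flat)
    (hdeg : ∀ (u : Spec (CommRingCat.of k) ⟶ W) (hu : u ≫ sw = 𝟙 _),
      ∑ᶠ x, AlgEqCyc.fibreFun sx sw Γc u hu x = (d : ℤ))
    {U : W.Opens} (hU : IsAffineOpen U) (hne : Nonempty U) :
    ∃ F : U.toScheme ⟶ Sy, F ≫ g = U.ι ≫ sw ∧
      ∀ (u' : Spec (CommRingCat.of k) ⟶ U.toScheme) (hu : (u' ≫ U.ι) ≫ sw = 𝟙 _),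
        ZCorr.IsCycleOfSymPt sx d q (u' ≫ F) (AlgEqCyc.fibreFun sx sw Γc (u' ≫ U.ι) hu) := by
  classical
  haveI : IsLocallyNoetherian W := LocallyOfFiniteType.isLocallyNoetherian sw
  -- the components
  let α := {ξ : ↥(pullback sx sw) // Γc ξ ≠ 0}
  haveI : Finite α := hΓfin.to_subtype
  letI : Fintype α := Fintype.ofFinite α
  haveI hF : ∀ a : α, IsFinite (clι a.1 ≫ pullback.snd sx sw) := fun a =>
    isFinite_of_fibres (clι a.1) _ (fun w => by rw [range_clι]; exact hfin a.1 a.2 w)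
  haveI hFl : ∀ a : α, Flat (clι a.1 ≫ pullback.snd sx sw) := fun a =>
    flat_of_stalks (clι a.1) _ (clι_genericPoint a.1) (hflat a.1 a.2)
  haveI hneV : ∀ a : α, Nonempty ((clι a.1 ≫ pullback.snd sx sw) ⁻¹ᵁ U) := fun a => by
    haveI : LocallyOfFinitePresentation (clι a.1 ≫ pullback.snd sx sw) :=
      LocallyOfFinitePresentation.iff_locallyOfFiniteType.2 inferInstance
    obtain ⟨w⟩ := hne
    obtain ⟨z, hz⟩ := surjective_of_flat_finite (clι a.1 ≫ pullback.snd sx sw) w.1
    exact ⟨⟨z, show (clι a.1 ≫ pullback.snd sx sw) z ∈ U from hz ▸ w.2⟩⟩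
  let R : Type u := Γ(W, U)
  let B : α → Type u := fun a => Γ(clSub a.1, (clι a.1 ≫ pullback.snd sx sw) ⁻¹ᵁ U)
  letI : ∀ a, Algebra R (B a) := fun a => appAlgebra (clι a.1 ≫ pullback.snd sx sw) U
  haveI : ∀ a, Module.Finite R (B a) := fun a => module_finite_app (clι a.1 ≫ pullback.snd sx sw) hU
  haveI : IsIntegrallyClosed R := hnorm U hne
  -- the base field inside `R`
  let c : CommRingCat.of k ⟶ CommRingCat.of R := Spec.preimage (hU.fromSpec ≫ sw)
  haveI : CharZero R := c.hom.charZero_iff c.hom.injective |>.1 inferInstance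
  haveI : CharZero (Om R) := charZero_of_injective_algebraMap (algebraMap_Om_injective R)
  haveI : ∀ a, Finite (B a →ₐ[R] Om R) := fun a => finite_algHom R (B a) (Om R)
  letI : ∀ a, Fintype (B a →ₐ[R] Om R) := fun a => Fintype.ofFinite _
  let R' : Type u := Rcl R B
  let T := Σ a : α, Fin (Γc a.1).toNat × (B a →ₐ[R] Om R)
  let pnt : T → (Spec (CommRingCat.of R') ⟶ pullback sx sw) := fun τ =>
    pointOf sx sw (clι τ.1.1) hU (emb R B τ.1 τ.2.2).toRingHom
  let b : Spec (CommRingCat.of R') ⟶ W := Spec.map (CommRingCat.ofHom (algebraMap R R')) ≫ hU.fromSpec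
  have hpnt : ∀ τ, pnt τ ≫ pullback.snd sx sw = b := fun τ => by
    simp only [pnt, b]
    rw [pointOf_snd]
    congr 3
    exact (emb R B τ.1 τ.2.2).comp_algebraMap
  -- counting over a rational point
  have hcount : ∀ (u' : Spec (CommRingCat.of k) ⟶ U.toScheme) (hu : (u' ≫ U.ι) ≫ sw = 𝟙 _),
      ∃ ψ : R' →+* k, Spec.map (CommRingCat.ofHom (ψ.comp (algebraMap R R'))) = u' ≫ hU.isoSpec.hom ∧
        ∀ x, AlgEqCyc.fibreFun sx sw Γc (u' ≫ U.ι) hu x =
          (Nat.card {τ : T // (Spec.map (CommRingCat.ofHom ψ) ≫ pnt τ ≫ pullback.fst sx sw)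
            (IsLocalRing.closedPoint k) = x} : ℤ) := by
    intro u' hu
    obtain ⟨φ, hφ⟩ := Spec.map_surjective (u' ≫ hU.isoSpec.hom)
    have hφu : Spec.map φ ≫ hU.fromSpec = u' ≫ U.ι := by
      rw [hφ, ← hU.isoSpec_inv_ι, Category.assoc, Iso.hom_inv_id_assoc]
    have hcφ : c ≫ φ = 𝟙 _ := by
      apply Spec.map_injective
      rw [Spec.map_comp, Spec.map_id]
      simp only [c, Spec.map_preimage]
      rw [← Category.assoc, hφu, hu]
    have hsurj : Function.Surjective φ.hom := fun y => ⟨c.hom y, congrArg (fun f => f.hom y) hcφ⟩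
    haveI : (RingHom.ker φ.hom).IsMaximal := RingHom.ker_isMaximal_of_surjective _ hsurj
    obtain ⟨n, hn, hnc⟩ := Ideal.exists_ideal_over_maximal_of_isIntegral (S := R') (RingHom.ker φ.hom)
      (by
        rw [(RingHom.injective_iff_ker_eq_bot _).1 (FaithfulSMul.algebraMap_injective R R')]
        exact bot_le)
    obtain ⟨ψ, -, hψ⟩ := exists_point φ.hom hsurj n hnc
    have hψsurj : Function.Surjective fun r => ψ (algebraMap R R' r) := fun y => by
      obtain ⟨r, hr⟩ := hsurj y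
      exact ⟨r, (RingHom.congr_fun hψ r).trans hr⟩
    refine ⟨ψ, by rw [hψ]; exact hφ, fun x => ?_⟩
    set v := AlgEqCyc.slice sx sw (u' ≫ U.ι) hu x
    have hψu : Spec.map (CommRingCat.ofHom (ψ.comp (algebraMap R R'))) ≫ hU.fromSpec = u' ≫ U.ι := by
      rw [hψ]; exact hφu
    have hterm : ∀ a : α, (Nat.card {f : B a →ₐ[R] Om R //
        (pointOf sx sw (clι a.1) hU (ψ.comp (emb R B a f).toRingHom) ≫ pullback.fst sx sw)
          (IsLocalRing.closedPoint k) = x} : ℕ) =
        if h : a.1 ⤳ v then AlgEqCyc.fibreMult (pullback.snd sx sw) v a.1 h else 0 := fun a =>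
      card_point_eq sx sw (clι a.1) (clι_genericPoint a.1) hU (algebraMap_Om_injective R) (incl R B)
        (incl_injective R B) (fun f => emb R B a f) (emb_bijective R B a) (module_flat_app (clι a.1 ≫ pullback.snd sx sw) hU) ψ (u' ≫ U.ι) hu hψu hψsurj x
    have hc1 : ∀ τ, Spec.map (CommRingCat.ofHom ψ) ≫ pnt τ ≫ pullback.fst sx sw =
        pointOf sx sw (clι τ.1.1) hU (ψ.comp (emb R B τ.1 τ.2.2).toRingHom) ≫ pullback.fst sx sw := fun τ => by
      simp only [pnt]
      rw [← Category.assoc, map_pointOf]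
    let e₁ : {τ : T // (Spec.map (CommRingCat.ofHom ψ) ≫ pnt τ ≫ pullback.fst sx sw)
        (IsLocalRing.closedPoint k) = x} ≃ Σ a : α, Fin (Γc a.1).toNat × {f : B a →ₐ[R] Om R //
        (pointOf sx sw (clι a.1) hU (ψ.comp (emb R B a f).toRingHom) ≫ pullback.fst sx sw)
          (IsLocalRing.closedPoint k) = x} :=
      { toFun := fun τ => ⟨τ.1.1, τ.1.2.1, τ.1.2.2, by rw [← hc1]; exact τ.2⟩
        invFun := fun τ => ⟨⟨τ.1, τ.2.1, τ.2.2.1⟩, by rw [hc1]; exact τ.2.2.2⟩
        left_inv := fun τ => rfl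
        right_inv := fun τ => rfl }
    rw [Nat.card_congr e₁, Nat.card_sigma, Nat.cast_sum]
    simp only [Nat.card_prod, Nat.card_fin, Nat.cast_mul, Int.toNat_of_nonneg (hΓ0 _)]
    have h2 : ∀ a : α, Γc a.1 * ((if h : a.1 ⤳ v then AlgEqCyc.fibreMult (pullback.snd sx sw) v a.1 h else 0 : ℕ) : ℤ) =
        if h : a.1 ⤳ v then Γc a.1 * (AlgEqCyc.fibreMult (pullback.snd sx sw) v a.1 h : ℤ) else 0 := fun a => by
      split_ifs <;> simp
    rw [Finset.sum_congr rfl fun a _ => by rw [hterm a, h2 a]]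
    exact finsum_subtype_dite (Equiv.subtypeSubtypeEquivSubtypeInter (fun w => Γc w ≠ 0) (fun w => w ⤳ v)).symm
      (fun a h => Γc a.1 * (AlgEqCyc.fibreMult (pullback.snd sx sw) v a.1 h : ℤ))
  -- the degree
  haveI : JacobsonSpace ↥U.toScheme := LocallyOfFiniteType.jacobsonSpace (U.ι ≫ sw)
  obtain ⟨w₀, -, hw₀⟩ := nonempty_inter_closedPoints (Z := (Set.univ : Set ↥U.toScheme))
    ⟨hne.some, trivial⟩ isOpen_univ.isLocallyClosed
  have hcard : Fintype.card T = d := by
    let u₀ := pointOfClosedPoint (U.ι ≫ sw) w₀ hw₀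
    have hu₀ : (u₀ ≫ U.ι) ≫ sw = 𝟙 _ := by rw [Category.assoc]; exact pointOfClosedPoint_comp _ _ _
    obtain ⟨ψ, -, hx⟩ := hcount u₀ hu₀
    have h := hdeg _ hu₀
    simp only [hx] at h
    rw [finsum_eq_sum_of_support_subset _ (s := Finset.univ.image fun τ : T =>
      (Spec.map (CommRingCat.ofHom ψ) ≫ pnt τ ≫ pullback.fst sx sw) (IsLocalRing.closedPoint k))
      (fun x hx' => by
        by_contra hne'
        refine hx' ?_
        haveI : IsEmpty {τ : T // (Spec.map (CommRingCat.ofHom ψ) ≫ pnt τ ≫ pullback.fst sx sw)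
            (IsLocalRing.closedPoint k) = x} :=
          ⟨fun τ => hne' (by simpa using ⟨τ.1, τ.2⟩)⟩
        exact Nat.cast_eq_zero.2 Nat.card_of_isEmpty)] at h
    simp only [Nat.card_eq_fintype_card, Fintype.card_subtype, ← Nat.cast_sum] at h
    rw [← Finset.card_eq_sum_card_image] at h
    exact_mod_cast h
  obtain ⟨e⟩ := exists_equiv_fin hcard
  -- the tuple
  have hover : ∀ i : Fin d, (pnt (e.symm i) ≫ pullback.fst sx sw) ≫ sx = b ≫ sw := fun i => by
    rw [Category.assoc, pullback.condition, ← Category.assoc, hpnt]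
  let t : Spec (CommRingCat.of R') ⟶ SymProd.fibPow sx d :=
    WidePullback.lift (b ≫ sw) (fun i => pnt (e.symm i) ≫ pullback.fst sx sw) hover
  have hinv : ∀ gg : Gal R B, (specAct R B gg).hom ≫ t ≫ q = t ≫ q := by
    intro gg
    let f' : T → T := fun τ =>
      ⟨τ.1, τ.2.1, ((incl R B).comp ((actHom R B gg⁻¹).comp (emb R B τ.1 τ.2.2)))⟩
    have hf' : Function.Injective f' := by
      rintro ⟨a, j, f⟩ ⟨a', j', f₂⟩ h
      have h0 : a = a' := congrArg Sigma.fst h
      subst h0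
      have h' := Prod.mk.inj (eq_of_heq (Sigma.mk.inj_iff.1 h).2)
      obtain ⟨rfl, h'⟩ := h'
      have h3 : emb R B a f = emb R B a f₂ := AlgHom.ext fun y =>
        actHom_injective R B gg⁻¹ (incl_injective R B (AlgHom.congr_fun h' y))
      have h4 := congrArg (fun z => (incl R B).comp z) h3
      simp only [incl_emb] at h4
      rw [h4]
    let pe : Equiv.Perm T := Equiv.ofBijective f' (Finite.injective_iff_bijective.1 hf')
    let σ : Equiv.Perm (Fin d) := (e.symm.trans (pe.trans e)).symm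
    have hact : ∀ τ : T, (specAct R B gg).hom ≫ pnt τ = pnt (f' τ) := fun τ => by
      simp only [pnt, f']
      rw [exists_eq_emb]
      exact map_pointOf sx sw _ hU _ _
    have hb : (specAct R B gg).hom ≫ b = b := by
      simp only [b]
      rw [← Category.assoc, (isQuot_specAct R B).inv gg]
    have ht : (specAct R B gg).hom ≫ t = t ≫ SymProd.permHom sx d σ := by
      apply WidePullback.hom_ext
      · intro i
        simp only [t, Category.assoc, SymProd.permHom_π, WidePullback.lift_π]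
        rw [← Category.assoc, hact]
        simp [σ, pe]
      · simp only [t, Category.assoc, SymProd.permHom_base, WidePullback.lift_base]
        rw [← Category.assoc, hb]
    rw [← Category.assoc, ht, Category.assoc]
    exact congrArg (t ≫ ·) (hS.isQuot.inv ⟨σ⟩)
  obtain ⟨F₀, hF₀, -⟩ := Groth.L27.Quot.existsUnique_desc (isQuot_specAct R B) (t ≫ q) hinv
  refine ⟨hU.isoSpec.hom ≫ F₀, ?_, fun u' hu => ?_⟩
  · have : F₀ ≫ g = hU.fromSpec ≫ sw := by
      refine Groth.L27.Quot.hom_ext (isQuot_specAct R B) ?_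
      rw [← Category.assoc, hF₀, Category.assoc, hS.over, WidePullback.lift_base]
      exact Category.assoc _ _ _
    rw [Category.assoc, this, ← hU.isoSpec_inv_ι, Category.assoc, Iso.hom_inv_id_assoc]
  · obtain ⟨ψ, hψ, hx⟩ := hcount u' hu
    refine ⟨Spec.map (CommRingCat.ofHom ψ) ≫ t, ?_, fun x => ?_⟩
    · rw [Category.assoc, ← hF₀, ← Category.assoc, ← Spec.map_comp, ← Category.assoc]
      congr 1
    · rw [hx x]
      refine congrArg Nat.cast (Nat.card_congr (Equiv.subtypeEquiv e fun τ => ?_))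
      simp [t]

end Groth.L22.SymCorr
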