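import Groth.Agent.L22.SymCorr.Dim
import Groth.Agent.L22.Cyc.NormDiv
import Groth.Agent.L22.Cyc.DropDim
import Groth.Agent.L22.Cyc.CurveDeg
import Groth.Agent.L16.ProjSpace.Basic
import Groth.Agent.L16.ProjSpace.Dim
import Mathlib.Algebra.MvPolynomial.Equiv

/-!
Two rational points of the projective line differ by a principal divisor.
-/

set_option autoImplicit false
set_option linter.style.haveILetI false
set_option backward.isDefEq.respectTransparency false
set_option backward.isDefEq.respectTransparency.types false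

universe u

open AlgebraicGeometry CategoryTheory Groth.L22.Cyc Polynomial
open scoped Classical

noncomputable section

namespace Groth.L22.SymCorr.Line

variable (k : Type u) [Field k]

/-- The projective line. -/
abbrev PL : Scheme.{u} := CohB1.ProjSpace 1 k

/-- Its structure map. -/
abbrev str : PL k ⟶ Spec (CommRingCat.of k) := CohB1.ProjSpace.toSpec 1 k

instance chartVarUnique (i : Fin (1 + 1)) : Unique (Groth.L16.ProjSpace.ChartVar 1 i) :=
  { default := ⟨1 - i, by fin_cases i <;> decide⟩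
    uniq := fun a => Subtype.ext (by
      obtain ⟨a, ha⟩ := a
      revert i a ha
      decide) }

/-- A chart of the line. -/
def aff (i : Fin (1 + 1)) : Spec (CommRingCat.of k[X]) ⟶ PL k :=
  Spec.map (CommRingCat.ofHom
    (MvPolynomial.uniqueAlgEquiv k (Groth.L16.ProjSpace.ChartVar 1 i)).toRingEquiv.toRingHom) ≫
    Groth.L16.ProjSpace.chart 1 k i

instance isOpenImmersion_aff (i : Fin (1 + 1)) : IsOpenImmersion (aff k i) := by
  have h1 : IsIso (CommRingCat.ofHom
      (MvPolynomial.uniqueAlgEquiv k (Groth.L16.ProjSpace.ChartVar 1 i)).toRingEquiv.toRingHom) :=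
    inferInstanceAs (IsIso
      (MvPolynomial.uniqueAlgEquiv k (Groth.L16.ProjSpace.ChartVar 1 i)).toRingEquiv.toCommRingCatIso.hom)
  unfold aff
  infer_instance

theorem aff_str (i : Fin (1 + 1)) : aff k i ≫ str k = Spec.map (CommRingCat.ofHom (C : k →+* k[X])) := by
  rw [aff, Category.assoc, Groth.L16.ProjSpace.chart_toSpec, ← Spec.map_comp]
  congr 1
  exact CommRingCat.hom_ext (RingHom.ext fun r =>
    (MvPolynomial.uniqueAlgEquiv k (Groth.L16.ProjSpace.ChartVar 1 i)).commutes r)

/-- The open of the first chart. -/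
abbrev U0 : (PL k).Opens := aff k 0 ''ᵁ ⊤

theorem isAffineOpen_U0 : IsAffineOpen (U0 k) := (isAffineOpen_top _).image_of_isOpenImmersion (aff k 0)

theorem genericPoint_mem : genericPoint (PL k) ∈ U0 k :=
  ((genericPoint_spec (PL k)).mem_open_set_iff (U0 k).2).2
    (by simpa using ⟨aff k 0 (genericPoint (Spec (CommRingCat.of k[X]))), Set.mem_range_self _⟩)

/-- Polynomials as functions on the first chart. -/
def theta (f : k[X]) : Γ(PL k, U0 k) :=
  ((aff k 0).appIso ⊤).inv ((Scheme.ΓSpecIso (CommRingCat.of k[X])).inv f)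

/-- Polynomials as rational functions on the line. -/
def ratl (f : k[X]) : (PL k).residueField (genericPoint (PL k)) :=
  (PL k).evaluation (U0 k) (genericPoint (PL k)) (genericPoint_mem k) (theta k f)

theorem mem_U0_of_aff (p : Spec (CommRingCat.of k[X])) : aff k 0 p ∈ U0 k :=
  ⟨p, trivial, rfl⟩

theorem germ_theta (f : k[X]) (p : Spec (CommRingCat.of k[X])) :
    (aff k 0).stalkMap p ((PL k).presheaf.germ (U0 k) (aff k 0 p) (mem_U0_of_aff k p) (theta k f)) =
      (Spec (CommRingCat.of k[X])).presheaf.germ ⊤ p trivial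
        ((Scheme.ΓSpecIso (CommRingCat.of k[X])).inv f) := by
  rw [Scheme.Hom.germ_stalkMap_apply, theta]
  have h : ((aff k 0).appIso ⊤).inv ≫ (aff k 0).app (U0 k) =
      (Spec (CommRingCat.of k[X])).presheaf.map (eqToHom (Scheme.Hom.preimage_image_eq (aff k 0) ⊤)).op :=
    (aff k 0).appIso_inv_app ⊤
  have h2 : (aff k 0).app (U0 k) (((aff k 0).appIso ⊤).inv ((Scheme.ΓSpecIso (CommRingCat.of k[X])).inv f)) =
      (Spec (CommRingCat.of k[X])).presheaf.map (eqToHom (Scheme.Hom.preimage_image_eq (aff k 0) ⊤)).op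
        ((Scheme.ΓSpecIso (CommRingCat.of k[X])).inv f) :=
    congrArg (fun φ => φ.hom ((Scheme.ΓSpecIso (CommRingCat.of k[X])).inv f)) h
  rw [h2, TopCat.Presheaf.germ_res_apply]

/-- The order of a polynomial in the local ring at a point of the chart. -/
theorem ord_theta (f : k[X]) (p : Spec (CommRingCat.of k[X])) (T : Type u) [CommRing T] [Algebra k[X] T]
    [IsLocalization.AtPrime T p.asIdeal] :
    Ring.ord ((PL k).presheaf.stalk (aff k 0 p))
        ((PL k).presheaf.germ (U0 k) (aff k 0 p) (mem_U0_of_aff k p) (theta k f)) =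
      Ring.ord T (algebraMap k[X] T f) := by
  let e₁ : (PL k).presheaf.stalk (aff k 0 p) ≃+* (Spec (CommRingCat.of k[X])).presheaf.stalk p :=
    RingEquiv.ofBijective ((aff k 0).stalkMap p).hom (ConcreteCategory.bijective_of_isIso ((aff k 0).stalkMap p))
  rw [← ord_ringEquiv e₁]
  show Ring.ord _ ((aff k 0).stalkMap p _) = _
  rw [germ_theta]
  letI : Algebra k[X] ((Spec (CommRingCat.of k[X])).presheaf.stalk p) :=
    ((Scheme.ΓSpecIso (CommRingCat.of k[X])).inv ≫ (Spec (CommRingCat.of k[X])).presheaf.germ ⊤ p trivial).hom.toAlgebra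
  haveI : IsLocalization.AtPrime ((Spec (CommRingCat.of k[X])).presheaf.stalk p) p.asIdeal :=
    inferInstanceAs (IsLocalization.AtPrime ((Spec.structureSheaf k[X]).presheaf.stalk p) p.asIdeal)
  let e₂ := IsLocalization.algEquiv p.asIdeal.primeCompl ((Spec (CommRingCat.of k[X])).presheaf.stalk p) T
  rw [← ord_ringEquiv e₂.toRingEquiv]
  exact congrArg (Ring.ord T) (e₂.commutes f)

section Points

variable [IsAlgClosed k]

/-- The rational point with coordinate `c` in chart `i`. -/
def pt (i : Fin (1 + 1)) (c : k) : Spec (CommRingCat.of k) ⟶ PL k :=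
  Spec.map (CommRingCat.ofHom (evalRingHom c)) ≫ aff k i

/-- The prime of a coordinate. -/
def primeAt (c : k) : Spec (CommRingCat.of k[X]) :=
  Spec.map (CommRingCat.ofHom (evalRingHom c)) (IsLocalRing.closedPoint k)

theorem primeAt_asIdeal (c : k) : (primeAt k c).asIdeal = Ideal.span {X - C c} := by
  rw [← ker_evalRingHom]
  show Ideal.comap (evalRingHom c) (IsLocalRing.maximalIdeal k) = _
  rw [IsLocalRing.maximalIdeal_eq_bot]
  rfl

omit [IsAlgClosed k] in
theorem pt_str (i : Fin (1 + 1)) (c : k) : pt k i c ≫ str k = 𝟙 _ := by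
  rw [pt, Category.assoc, aff_str, ← Spec.map_comp, ← Spec.map_id]
  congr 1
  exact CommRingCat.hom_ext (RingHom.ext fun r => eval_C)

theorem exists_coord {w : PL k} (hw : IsClosed ({w} : Set (PL k))) (hU : w ∈ U0 k) :
    ∃ c : k, aff k 0 (primeAt k c) = w := by
  haveI : Subsingleton ↥(Spec (CommRingCat.of k)) := inferInstanceAs (Subsingleton (PrimeSpectrum k))
  let u := pointOfClosedPoint (str k) w hw
  have hr : Set.range u ⊆ Set.range (aff k 0) := by
    rintro _ ⟨z, rfl⟩
    rw [pointOfClosedPoint_apply]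
    obtain ⟨p, -, hp⟩ := hU
    exact ⟨p, hp⟩
  let φ := Spec.preimage (IsOpenImmersion.lift (aff k 0) u hr)
  have hφ : Spec.map φ ≫ aff k 0 = u := by simp [φ]
  have hC : CommRingCat.ofHom (C : k →+* k[X]) ≫ φ = 𝟙 _ := by
    apply Spec.map_injective
    rw [Spec.map_comp, Spec.map_id, ← aff_str k 0, ← Category.assoc, hφ]
    exact pointOfClosedPoint_comp _ _ _
  refine ⟨φ.hom X, ?_⟩
  have he : φ = CommRingCat.ofHom (evalRingHom (φ.hom X)) := by
    refine CommRingCat.hom_ext (Polynomial.ringHom_ext (fun a => ?_) ?_)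
    · exact (congrArg (fun ψ => ψ.hom a) hC).trans eval_C.symm
    · exact eval_X.symm
  have h1 : (Spec.map (CommRingCat.ofHom (evalRingHom (φ.hom X))) ≫ aff k 0) (IsLocalRing.closedPoint k) = w := by
    rw [← he, hφ]
    exact pointOfClosedPoint_apply _ _ _ _
  exact h1

theorem aff_primeAt_injective {a b : k} (h : aff k 0 (primeAt k a) = aff k 0 (primeAt k b)) : a = b := by
  have h1 := congrArg PrimeSpectrum.asIdeal ((aff k 0).isOpenEmbedding.injective h)
  rw [primeAt_asIdeal, primeAt_asIdeal] at h1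
  have h2 : X - C a ∈ Ideal.span {X - C b} := h1.le (Ideal.subset_span rfl)
  rw [Ideal.mem_span_singleton, dvd_iff_isRoot, IsRoot, eval_sub, eval_X, eval_C, sub_eq_zero] at h2
  exact h2.symm

/-- Orders of linear polynomials. -/
theorem ord_linear (a c : k) :
    Ring.ord ((PL k).presheaf.stalk (aff k 0 (primeAt k c)))
      ((PL k).presheaf.germ (U0 k) (aff k 0 (primeAt k c)) (mem_U0_of_aff k _) (theta k (X - C a))) =
      if c = a then 1 else 0 := by
  let T := Localization.AtPrime (primeAt k c).asIdeal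
  rw [ord_theta k _ (primeAt k c) T]
  split_ifs with h
  · subst h
    have hm : Ideal.span {algebraMap k[X] T (X - C c)} = IsLocalRing.maximalIdeal T := by
      rw [← IsLocalization.AtPrime.map_eq_maximalIdeal (primeAt k c).asIdeal T]
      exact ((congrArg (Ideal.map (algebraMap k[X] T)) (primeAt_asIdeal k c)).trans
        ((Ideal.map_span _ _).trans (congrArg Ideal.span Set.image_singleton))).symm
    rw [Ring.ord, hm, Module.length_eq_one_iff]
    exact isSimpleModule_iff_isCoatom.2 (Ideal.isMaximal_def.1 (IsLocalRing.maximalIdeal.isMaximal T))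
  · refine Ring.ord_of_isUnit (IsLocalization.map_units T (⟨X - C a, fun hmem => ?_⟩ : (primeAt k c).asIdeal.primeCompl))
    have h2 := (primeAt_asIdeal k c).le hmem
    rw [Ideal.mem_span_singleton, dvd_iff_isRoot, IsRoot, eval_sub, eval_X, eval_C, sub_eq_zero] at h2
    exact h h2

omit [IsAlgClosed k] in
theorem theta_one : theta k 1 = 1 := by simp [theta]

omit [IsAlgClosed k] in
theorem ord_one (c : k) :
    Ring.ord ((PL k).presheaf.stalk (aff k 0 (primeAt k c)))
      ((PL k).presheaf.germ (U0 k) (aff k 0 (primeAt k c)) (mem_U0_of_aff k _) (theta k 1)) = 0 := by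
  rw [theta_one, map_one]
  exact Ring.ord_one _

omit [IsAlgClosed k] in
theorem ratl_ne_zero {f : k[X]} (hf : f ≠ 0) : ratl k f ≠ 0 := by
  intro h
  refine hf ?_
  haveI : Nonempty (U0 k) := ⟨⟨_, genericPoint_mem k⟩⟩
  have h1 : (PL k).presheaf.germ (U0 k) (genericPoint (PL k)) (genericPoint_mem k) (theta k f) = 0 :=
    (map_eq_zero_iff _ residue_generic_bijective.1).1 h
  have h2 : theta k f = 0 :=
    (map_eq_zero_iff _ (germ_injective_of_isIntegral (PL k) (genericPoint (PL k)) (genericPoint_mem k))).1 h1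
  have h3 := (map_eq_zero_iff _ (ConcreteCategory.bijective_of_isIso ((aff k 0).appIso ⊤).inv).1).1 h2
  exact (map_eq_zero_iff _ (ConcreteCategory.bijective_of_isIso (Scheme.ΓSpecIso (CommRingCat.of k[X])).inv).1).1 h3

omit [IsAlgClosed k] in
theorem aff_one_mem_iff (p' : Spec (CommRingCat.of k[X])) :
    (aff k 1 p' ∈ (Proj.basicOpen (CohB1.polyGrading 1 k) (MvPolynomial.X 0) : (PL k).Opens)) ↔ (X : k[X]) ∉ p'.asIdeal := by
  let e := MvPolynomial.uniqueAlgEquiv k (Groth.L16.ProjSpace.ChartVar 1 1)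
  let q := Spec.map (CommRingCat.ofHom (Groth.L16.ProjSpace.awayEquiv 1 k 1).symm.toRingHom)
    (Spec.map (CommRingCat.ofHom e.toRingEquiv.toRingHom) p')
  have hq : aff k 1 p' = Groth.L16.ProjSpace.chartAway 1 k 1 q := by
    simp [aff, Groth.L16.ProjSpace.chart, q, e]
  rw [hq]
  show q ∈ Proj.awayι (CohB1.polyGrading 1 k) (MvPolynomial.X 1) (Groth.L16.ProjSpace.X_mem 1 k 1) one_pos ⁻¹ᵁ
    Proj.basicOpen (CohB1.polyGrading 1 k) (MvPolynomial.X 0) ↔ _
  rw [Proj.awayι_preimage_basicOpen (g_deg := Groth.L16.ProjSpace.X_mem 1 k 0)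
    (hm' := one_pos)]
  show e ((Groth.L16.ProjSpace.awayEquiv 1 k 1).symm _) ∉ p'.asIdeal ↔ _
  have hel : (Groth.L16.ProjSpace.awayEquiv 1 k 1).symm
      (HomogeneousLocalization.Away.isLocalizationElem (Groth.L16.ProjSpace.X_mem 1 k 1)
        (Groth.L16.ProjSpace.X_mem 1 k 0)) = MvPolynomial.X ⟨0, by decide⟩ := by
    rw [RingEquiv.symm_apply_eq]
    show _ = Groth.L16.ProjSpace.toAway 1 k 1 _
    rw [Groth.L16.ProjSpace.toAway_X]
    apply HomogeneousLocalization.val_injective
    simp [HomogeneousLocalization.Away.isLocalizationElem, Groth.L16.ProjSpace.ratio]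
  rw [hel]
  have : e (MvPolynomial.X ⟨0, by decide⟩) = (X : k[X]) := by
    simp [e]
  rw [this]

omit [IsAlgClosed k] in
theorem notMem_U0 {w : PL k} (hw : w ∉ U0 k) : w = pt k 1 0 (IsLocalRing.closedPoint k) := by
  obtain ⟨i, hi⟩ := Groth.L16.ProjSpace.exists_mem_basicOpen_X 1 k w
  have hU : ∀ i, (aff k i).opensRange = (Proj.basicOpen (CohB1.polyGrading 1 k) (MvPolynomial.X i) : (PL k).Opens) := by
    intro i
    have h1 : IsIso (Spec.map (CommRingCat.ofHom
        (MvPolynomial.uniqueAlgEquiv k (Groth.L16.ProjSpace.ChartVar 1 i)).toRingEquiv.toRingHom)) :=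
      inferInstanceAs (IsIso (Scheme.Spec.map
        (MvPolynomial.uniqueAlgEquiv k (Groth.L16.ProjSpace.ChartVar 1 i)).toRingEquiv.toCommRingCatIso.hom.op))
    exact (Scheme.Hom.opensRange_comp_of_isIso _ _).trans (Groth.L16.ProjSpace.opensRange_chart 1 k i)
  have hi1 : i = 1 := by
    fin_cases i
    · exfalso
      obtain ⟨p, hp⟩ := (hU 0).ge hi
      exact hw ⟨p, trivial, hp⟩
    · rfl
  subst hi1
  obtain ⟨p, hp⟩ := (hU 1).ge hi
  have hpre := aff_one_mem_iff k
  have hX : (X : k[X]) ∈ p.asIdeal := by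
    by_contra h
    obtain ⟨p₀, hp₀⟩ := (hU 0).ge ((hpre p).2 h)
    exact hw (hp ▸ ⟨p₀, trivial, hp₀⟩)
  have hp0 : p = Spec.map (CommRingCat.ofHom (evalRingHom (0 : k))) (IsLocalRing.closedPoint k) := by
    refine PrimeSpectrum.ext ?_
    have e1 : (Spec.map (CommRingCat.ofHom (evalRingHom (0 : k))) (IsLocalRing.closedPoint k)).asIdeal =
        Ideal.span {(X : k[X])} := by
      show Ideal.comap (evalRingHom (0 : k)) (IsLocalRing.maximalIdeal k) = _
      rw [IsLocalRing.maximalIdeal_eq_bot]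
      show RingHom.ker (evalRingHom (0 : k)) = _
      rw [ker_evalRingHom, map_zero, sub_zero]
    rw [e1]
    haveI : (Ideal.span {(X : k[X])}).IsMaximal :=
      PrincipalIdealRing.isMaximal_of_irreducible irreducible_X
    exact ((‹(Ideal.span {(X : k[X])}).IsMaximal›).eq_of_le p.2.ne_top
      ((Ideal.span_singleton_le_iff_mem _).2 hX)).symm
  rw [← hp, hp0]
  rfl

/-- The polynomial of a rational point on the first chart. -/
theorem exists_poly (u : Spec (CommRingCat.of k) ⟶ PL k) (hu : u ≫ str k = 𝟙 _) : ∃ f : k[X], f ≠ 0 ∧ ∀ c,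
    Ring.ord ((PL k).presheaf.stalk (aff k 0 (primeAt k c)))
      ((PL k).presheaf.germ (U0 k) (aff k 0 (primeAt k c)) (mem_U0_of_aff k _) (theta k f)) =
      if aff k 0 (primeAt k c) = u (IsLocalRing.closedPoint k) then 1 else 0 := by
  classical
  haveI : LocallyOfFiniteType (str k) := inferInstance
  have hcl : IsClosed ({u (IsLocalRing.closedPoint k)} : Set (PL k)) :=
    ((pointEquivClosedPoint (str k)) ⟨u, hu⟩).2
  by_cases hU : u (IsLocalRing.closedPoint k) ∈ U0 k
  · obtain ⟨a, ha⟩ := exists_coord k hcl hU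
    refine ⟨X - C a, X_sub_C_ne_zero a, fun c => ?_⟩
    rw [ord_linear k a c]
    by_cases hca : c = a
    · rw [if_pos hca, if_pos (hca ▸ ha)]
    · rw [if_neg hca, if_neg fun h => hca (aff_primeAt_injective k (h.trans ha.symm))]
  · refine ⟨1, one_ne_zero, fun c => ?_⟩
    rw [ord_one k c, if_neg (fun h : aff k 0 (primeAt k c) = u (IsLocalRing.closedPoint k) => hU (h ▸ mem_U0_of_aff k _))]

/-- The orders of a quotient of two such polynomials. -/
theorem ordAt_ratl_div (u₀ u₁ : Spec (CommRingCat.of k) ⟶ PL k) (h₀ : u₀ ≫ str k = 𝟙 _) (h₁ : u₁ ≫ str k = 𝟙 _)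
    {f₀ f₁ : k[X]} (hf₀ : f₀ ≠ 0) (hf₁ : f₁ ≠ 0)
    (e₀ : ∀ c, Ring.ord ((PL k).presheaf.stalk (aff k 0 (primeAt k c)))
      ((PL k).presheaf.germ (U0 k) (aff k 0 (primeAt k c)) (mem_U0_of_aff k _) (theta k f₀)) =
      if aff k 0 (primeAt k c) = u₀ (IsLocalRing.closedPoint k) then 1 else 0)
    (e₁ : ∀ c, Ring.ord ((PL k).presheaf.stalk (aff k 0 (primeAt k c)))
      ((PL k).presheaf.germ (U0 k) (aff k 0 (primeAt k c)) (mem_U0_of_aff k _) (theta k f₁)) =
      if aff k 0 (primeAt k c) = u₁ (IsLocalRing.closedPoint k) then 1 else 0) :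
    ∀ w : PL k, IsClosed ({w} : Set (PL k)) → ∀ h : genericPoint (PL k) ⤳ w,
      Cyc.ordAt w (genericPoint (PL k)) h (ratl k f₀ / ratl k f₁) =
        (if w = u₀ (IsLocalRing.closedPoint k) then 1 else 0) -
          (if w = u₁ (IsLocalRing.closedPoint k) then 1 else 0) := by
  classical
  haveI : LocallyOfFiniteType (str k) := inferInstance
  haveI : IsLocallyNoetherian (PL k) := LocallyOfFiniteType.isLocallyNoetherian (str k)
  obtain ⟨δ, hδ⟩ := exists_delta (str k)
  have hdim : topologicalKrullDim (PL k) = 1 :=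
    (Groth.L16.ProjSpace.topologicalKrullDim_eq_of_field 1 k).trans Nat.cast_one
  have hη : δ (genericPoint (PL k)) = 1 := by
    obtain ⟨m, hm, hd⟩ := hδ (genericPoint (PL k))
    have h2 : (m : Cardinal.{u}) = 1 := hm.symm.trans (by
      have h3 := rtrdeg_genericPoint (str k) 1 (by rw [hdim]; exact Nat.cast_one.symm)
      rw [Nat.cast_one] at h3
      exact h3)
    rw [hd, show m = 1 by exact_mod_cast h2]
    simp
  have hk1 : ∀ w : PL k, IsClosed ({w} : Set (PL k)) → Ring.KrullDimLE 1 ((PL k).presheaf.stalk w) := fun w hw =>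
    krullDimLE_one_stalk (isDimFun_of_field (str k) hδ) w
      (by rw [hη, (delta_eq_zero_iff (str k) hδ w).2 hw]; rfl)
  have hcl : ∀ (u : Spec (CommRingCat.of k) ⟶ PL k), u ≫ str k = 𝟙 _ →
      IsClosed ({u (IsLocalRing.closedPoint k)} : Set (PL k)) := fun u hu =>
    ((pointEquivClosedPoint (str k)) ⟨u, hu⟩).2
  let g := ratl k f₀ / ratl k f₁
  have hg : g ≠ 0 := div_ne_zero (ratl_ne_zero k hf₀) (ratl_ne_zero k hf₁)
  let D : PL k → ℤ := fun w => (if w = u₀ (IsLocalRing.closedPoint k) then 1 else 0) -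
    (if w = u₁ (IsLocalRing.closedPoint k) then 1 else 0)
  -- the orders on the first chart
  have hfin : ∀ w : PL k, IsClosed ({w} : Set (PL k)) → ∀ (h : genericPoint (PL k) ⤳ w), w ∈ U0 k →
      Cyc.ordAt w (genericPoint (PL k)) h g = D w := by
    intro w hw h hwU
    obtain ⟨c, rfl⟩ := exists_coord k hw hwU
    haveI := hk1 _ hw
    have ev : ∀ f, ratl k f = Cyc.specMap (aff k 0 (primeAt k c)) (genericPoint (PL k)) h
        ((PL k).presheaf.germ (U0 k) (aff k 0 (primeAt k c)) (mem_U0_of_aff k _) (theta k f)) := fun f =>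
      evaluation_eq_specMap (mem_U0_of_aff k _) (genericPoint_mem k) h _
    have hne : ∀ f, f ≠ 0 →
        (PL k).presheaf.germ (U0 k) (aff k 0 (primeAt k c)) (mem_U0_of_aff k _) (theta k f) ≠ 0 := fun f hf h0 =>
      ratl_ne_zero k hf (by rw [ev, h0, map_zero])
    simp only [g, ev]
    rw [ordAt_div _ h (hne _ hf₀) (hne _ hf₁), e₀, e₁]
    simp only [D]
    split_ifs <;> simp
  intro w hw h
  by_cases hwU : w ∈ U0 k
  · exact hfin w hw h hwU
  have hw' : w = pt k 1 0 (IsLocalRing.closedPoint k) := notMem_U0 k hwU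
  -- the point at infinity, from the vanishing of the degree
  obtain ⟨F, hF⟩ := (residue_generic_bijective (X := PL k)).2 g
  have hF0 : F ≠ 0 := by
    intro h0
    rw [h0, map_zero] at hF
    exact hg hF.symm
  have hdeg := finsum_residueDegree_mul_ordFrac_eq_zero k (str k) hdim F hF0
  let G : PL k → ℤ := fun v => ∑ᶠ (_ : IsClosed ({v} : Set (PL k))),
    ((str k).residueDegree v : ℤ) * CycAlg.ordFrac ((PL k).presheaf.stalk v) (PL k).functionField F
  have hG : ∀ v, IsClosed ({v} : Set (PL k)) →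
      G v = Cyc.ordAt v (genericPoint (PL k)) ((genericPoint_spec (PL k)).specializes trivial) g := by
    intro v hv
    haveI := hk1 v hv
    simp only [G]
    rw [finsum_eq_if, if_pos hv, residueDegree_of_isClosed (str k) v hv, Nat.cast_one, one_mul,
      ordFrac_eq_ordAt v ((genericPoint_spec (PL k)).specializes trivial) F hF0, hF]
  have hG0 : ∀ v, ¬ IsClosed ({v} : Set (PL k)) → G v = 0 := fun v hv => by
    simp only [G]
    rw [finsum_eq_if, if_neg hv]
  let s : Finset (PL k) := {w, u₀ (IsLocalRing.closedPoint k), u₁ (IsLocalRing.closedPoint k)}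
  have hsub : Function.support G ⊆ ↑s := by
    intro v hv
    by_contra hvs
    simp only [s, Finset.coe_insert, Finset.coe_singleton, Set.mem_insert_iff, Set.mem_singleton_iff, not_or] at hvs
    by_cases hvc : IsClosed ({v} : Set (PL k))
    · have hvU : v ∈ U0 k := by
        by_contra hvU
        exact hvs.1 ((notMem_U0 k hvU).trans hw'.symm)
      exact hv ((hG v hvc).trans ((hfin v hvc _ hvU).trans (by simp [D, hvs.2.1, hvs.2.2])))
    · exact hv (hG0 v hvc)
  have hD : ∑ v ∈ s, D v = 0 := by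
    simp [D, Finset.sum_sub_distrib, s]
  have hG' : ∑ v ∈ s, G v = 0 := by
    rw [← finsum_eq_sum_of_support_subset G hsub]
    exact hdeg
  have hrest : ∀ v ∈ s.erase w, G v = D v := by
    intro v hv
    obtain ⟨hvw, hvs⟩ := Finset.mem_erase.1 hv
    have hvc : IsClosed ({v} : Set (PL k)) := by
      simp only [s, Finset.mem_insert, Finset.mem_singleton] at hvs
      rcases hvs with rfl | rfl | rfl
      · exact hw
      · exact hcl u₀ h₀
      · exact hcl u₁ h₁
    exact (hG v hvc).trans (hfin v hvc _ (by_contra fun hvU => hvw ((notMem_U0 k hvU).trans hw'.symm)))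
  have hws : w ∈ s := Finset.mem_insert_self _ _
  rw [← Finset.add_sum_erase _ _ hws, Finset.sum_congr rfl hrest] at hG'
  rw [← Finset.add_sum_erase _ _ hws] at hD
  rw [← hG w hw] at *
  show G w = D w
  linarith

/-- Two rational points of the line differ by a principal divisor. -/
theorem exists_divisor (u₀ u₁ : Spec (CommRingCat.of k) ⟶ PL k) (h₀ : u₀ ≫ str k = 𝟙 _) (h₁ : u₁ ≫ str k = 𝟙 _) :
    ∃ g : (PL k).residueField (genericPoint (PL k)), g ≠ 0 ∧
      ∀ w : PL k, IsClosed ({w} : Set (PL k)) → ∀ h : genericPoint (PL k) ⤳ w,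
        Cyc.ordAt w (genericPoint (PL k)) h g =
          (if w = u₀ (IsLocalRing.closedPoint k) then 1 else 0) -
            (if w = u₁ (IsLocalRing.closedPoint k) then 1 else 0) := by
  obtain ⟨f₀, hf₀, e₀⟩ := exists_poly k u₀ h₀
  obtain ⟨f₁, hf₁, e₁⟩ := exists_poly k u₁ h₁
  exact ⟨_, div_ne_zero (ratl_ne_zero k hf₀) (ratl_ne_zero k hf₁), ordAt_ratl_div k u₀ u₁ h₀ h₁ hf₀ hf₁ e₀ e₁⟩

theorem pt_one_notMem : pt k 1 0 (IsLocalRing.closedPoint k) ∉ U0 k := by
  intro h
  obtain ⟨p, -, hp⟩ := h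
  have h1 : aff k 1 (primeAt k 0) ∈ (Proj.basicOpen (CohB1.polyGrading 1 k) (MvPolynomial.X 0) : (PL k).Opens) := by
    have h2 : IsIso (Spec.map (CommRingCat.ofHom
        (MvPolynomial.uniqueAlgEquiv k (Groth.L16.ProjSpace.ChartVar 1 0)).toRingEquiv.toRingHom)) :=
      inferInstanceAs (IsIso (Scheme.Spec.map
        (MvPolynomial.uniqueAlgEquiv k (Groth.L16.ProjSpace.ChartVar 1 0)).toRingEquiv.toCommRingCatIso.hom.op))
    exact ((Scheme.Hom.opensRange_comp_of_isIso _ _).trans (Groth.L16.ProjSpace.opensRange_chart 1 k 0)).le ⟨p, hp⟩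
  refine (aff_one_mem_iff k (primeAt k 0)).1 h1 ?_
  rw [primeAt_asIdeal, map_zero, sub_zero]
  exact Ideal.subset_span rfl

/-- The coordinate function has a zero at the origin and a pole at infinity. -/
theorem ordAt_ratl_X : ∀ w : PL k, IsClosed ({w} : Set (PL k)) → ∀ h : genericPoint (PL k) ⤳ w,
      Cyc.ordAt w (genericPoint (PL k)) h (ratl k X) =
        (if w = pt k 0 0 (IsLocalRing.closedPoint k) then 1 else 0) -
          (if w = pt k 1 0 (IsLocalRing.closedPoint k) then 1 else 0) := by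
  intro w hw h
  have e₀ : ∀ c, Ring.ord ((PL k).presheaf.stalk (aff k 0 (primeAt k c)))
      ((PL k).presheaf.germ (U0 k) (aff k 0 (primeAt k c)) (mem_U0_of_aff k _) (theta k (X - C 0))) =
      if aff k 0 (primeAt k c) = pt k 0 0 (IsLocalRing.closedPoint k) then 1 else 0 := fun c => by
    rw [ord_linear k 0 c]
    by_cases hc : c = 0
    · rw [if_pos hc, if_pos (show aff k 0 (primeAt k c) = pt k 0 0 (IsLocalRing.closedPoint k) by subst hc; rfl)]
    · rw [if_neg hc, if_neg (show ¬aff k 0 (primeAt k c) = pt k 0 0 (IsLocalRing.closedPoint k) from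
        fun e => hc (aff_primeAt_injective k (e.trans rfl)))]
  have e₁ : ∀ c, Ring.ord ((PL k).presheaf.stalk (aff k 0 (primeAt k c)))
      ((PL k).presheaf.germ (U0 k) (aff k 0 (primeAt k c)) (mem_U0_of_aff k _) (theta k 1)) =
      if aff k 0 (primeAt k c) = pt k 1 0 (IsLocalRing.closedPoint k) then 1 else 0 := fun c => by
    rw [ord_one k c, if_neg (show ¬aff k 0 (primeAt k c) = pt k 1 0 (IsLocalRing.closedPoint k) from
      fun e => pt_one_notMem k (e ▸ mem_U0_of_aff k _))]
  have key := ordAt_ratl_div k _ _ (pt_str k 0 0) (pt_str k 1 0) (X_sub_C_ne_zero 0) one_ne_zero e₀ e₁ w hw h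
  have h1 : ratl k 1 = 1 := by rw [ratl, theta_one, map_one]
  rwa [map_zero, sub_zero, h1, div_one] at key

/-- The value of a polynomial at a field valued point of the first chart. -/
theorem ratl_eval {K : Type u} [Field K] (φ : k[X] →+* K) {x : PL k} (hx : x ∈ U0 k)
    (e : (PL k).residueField x ⟶ CommRingCat.of K)
    (h : Spec.map e ≫ (PL k).fromSpecResidueField x = Spec.map (CommRingCat.ofHom φ) ≫ aff k 0) (f : k[X]) :
    e ((PL k).evaluation (U0 k) x hx (theta k f)) = φ f := by
  let s := Spec.map (CommRingCat.ofHom φ)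
  let p := s (IsLocalRing.closedPoint K)
  have hxp : x = aff k 0 p := by
    have h1 := congrArg (fun ψ : Spec (CommRingCat.of K) ⟶ PL k => ψ (IsLocalRing.closedPoint K)) h
    simp only [Scheme.Hom.comp_apply, Scheme.fromSpecResidueField_apply] at h1
    exact h1
  subst hxp
  let e' := (Spec (CommRingCat.of k[X])).descResidueField (Scheme.stalkClosedPointTo s)
  have hs : Spec.map e' ≫ (Spec (CommRingCat.of k[X])).fromSpecResidueField p = s :=
    Scheme.descResidueField_stalkClosedPointTo_fromSpecResidueField K _ s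
  have he : e = (aff k 0).residueFieldMap p ≫ e' := by
    apply Spec.map_injective
    rw [← cancel_mono ((PL k).fromSpecResidueField _), h, Spec.map_comp, Category.assoc,
      Scheme.Hom.SpecMap_residueFieldMap_fromSpecResidueField, reassoc_of% hs]
  have hφ : CommRingCat.ofHom φ = (Scheme.ΓSpecIso (CommRingCat.of k[X])).inv ≫
      (Spec (CommRingCat.of k[X])).presheaf.germ ⊤ p trivial ≫ (Spec (CommRingCat.of k[X])).residue p ≫ e' := by
    apply Spec.map_injective
    show s = _
    rw [← hs, Scheme.fromSpecResidueField, Spec.fromSpecStalk_eq]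
    simp only [Spec.map_comp, Category.assoc]
  have h3 : (aff k 0).residueFieldMap p ((PL k).residue _ ((PL k).presheaf.germ (U0 k) (aff k 0 p) hx (theta k f))) =
      (Spec (CommRingCat.of k[X])).residue p ((aff k 0).stalkMap p
        ((PL k).presheaf.germ (U0 k) (aff k 0 p) hx (theta k f))) :=
    congrArg (fun ψ => ψ.hom ((PL k).presheaf.germ (U0 k) (aff k 0 p) hx (theta k f)))
      (Scheme.residue_residueFieldMap (aff k 0) p)
  rw [show φ f = (CommRingCat.ofHom φ) f from rfl, hφ, he]
  exact ((congrArg e' h3).trans (congrArg (fun z => e' ((Spec (CommRingCat.of k[X])).residue p z))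
    (germ_theta k f p)))

end Points

end Groth.L22.SymCorr.Line
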