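import Groth.Agent.L22.SymCorr.P1
import Groth.Agent.L22.SymCorr.Conv
import Groth.Agent.L22.Cyc.PushRat
import Groth.Agent.L22.Bundle.Immersion
import Mathlib.RingTheory.Flat.TorsionFree

/-!
A morphism of the projective line to a symmetric product gives a rational equivalence.
-/

set_option autoImplicit false
set_option linter.style.haveILetI false
set_option backward.isDefEq.respectTransparency false
set_option backward.isDefEq.respectTransparency.types false

universe u

open AlgebraicGeometry CategoryTheory CategoryTheory.Limits Groth.L22.Cyc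
open scoped Classical

noncomputable section

namespace Groth.L22.SymCorr

section Slice

variable {k : Type u} [Field k] {X W : Scheme.{u}}
  (sx : X ⟶ Spec (CommRingCat.of k)) (sw : W ⟶ Spec (CommRingCat.of k))
  (u : Spec (CommRingCat.of k) ⟶ W) (hu : u ≫ sw = 𝟙 _)

theorem fst_slice (x : X) : pullback.fst sx sw (AlgEqCyc.slice sx sw u hu x) = x := by
  rw [← Scheme.Hom.comp_apply, AlgEqCyc.slice, pullback.lift_fst]
  rfl

theorem snd_slice (x : X) :
    pullback.snd sx sw (AlgEqCyc.slice sx sw u hu x) = u (IsLocalRing.closedPoint k) := by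
  haveI : Subsingleton ↥(Spec (CommRingCat.of k)) := inferInstanceAs (Subsingleton (PrimeSpectrum k))
  rw [← Scheme.Hom.comp_apply, AlgEqCyc.slice, pullback.lift_snd, Scheme.Hom.comp_apply]
  exact congrArg u (Subsingleton.elim _ _)

theorem isClosed_slice [IsSeparated sw] {x : X} (hx : IsClosed ({x} : Set X)) :
    IsClosed ({AlgEqCyc.slice sx sw u hu x} : Set ↥(pullback sx sw)) := by
  haveI : IsClosedImmersion (AlgEqCyc.slice sx sw u hu ≫ pullback.fst sx sw) := by
    rw [AlgEqCyc.slice, pullback.lift_fst]; infer_instance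
  haveI : IsClosedImmersion (AlgEqCyc.slice sx sw u hu) := IsClosedImmersion.of_comp _ (pullback.fst sx sw)
  rw [← Set.image_singleton]
  exact (AlgEqCyc.slice sx sw u hu).isClosedEmbedding.isClosedMap _ hx

/-- The multiplicity at a point of a slice of the fibre of a component. -/
def fm (ξ : ↥(pullback sx sw)) (x : X) : ℤ :=
  if h : ξ ⤳ AlgEqCyc.slice sx sw u hu x then
    (AlgEqCyc.fibreMult (pullback.snd sx sw) (AlgEqCyc.slice sx sw u hu x) ξ h : ℤ)
  else 0

theorem fibreFun_eq_sum (Γc : AlgebraicCycle (pullback sx sw) ℤ) (S : Finset ↥(pullback sx sw))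
    (hS : ∀ ξ, Γc ξ ≠ 0 → ξ ∈ S) (x : X) :
    AlgEqCyc.fibreFun sx sw Γc u hu x = ∑ ξ ∈ S, Γc ξ * fm sx sw u hu ξ x := by
  let p : ↥(pullback sx sw) → Prop := fun w => Γc w ≠ 0 ∧ w ⤳ AlgEqCyc.slice sx sw u hu x
  have h1 : ∀ w : {w // p w}, Γc w.1 * (AlgEqCyc.fibreMult (pullback.snd sx sw)
      (AlgEqCyc.slice sx sw u hu x) w.1 w.2.2 : ℤ) = (fun ξ => Γc ξ * fm sx sw u hu ξ x) w.1 := fun w => by
    simp only [fm]
    rw [dif_pos w.2.2]
  rw [AlgEqCyc.fibreFun, finsum_congr h1]
  show ∑ᶠ w : ({ξ | p ξ} : Set _), (fun ξ => Γc ξ * fm sx sw u hu ξ x) (w : ↥(pullback sx sw)) = _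
  rw [finsum_set_coe_eq_finsum_mem (f := fun ξ => Γc ξ * fm sx sw u hu ξ x) {ξ | p ξ}]
  refine finsum_mem_eq_sum_of_inter_support_eq _ ?_
  ext ξ
  simp only [Set.mem_inter_iff, Set.mem_setOf_eq, Function.mem_support, Finset.mem_coe]
  constructor
  · rintro ⟨hp, hne⟩
    exact ⟨hS ξ hp.1, hne⟩
  · rintro ⟨-, hne⟩
    refine ⟨⟨left_ne_zero_of_mul hne, ?_⟩, hne⟩
    by_contra h
    exact hne (by rw [fm, dif_neg h, mul_zero])

variable [IsAlgClosed k]

/-- A closed point of a product is determined by its projections. -/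
theorem closed_ext [LocallyOfFiniteType sx] [LocallyOfFiniteType sw] {v v' : ↥(pullback sx sw)}
    (hv : IsClosed ({v} : Set ↥(pullback sx sw))) (hv' : IsClosed ({v'} : Set ↥(pullback sx sw)))
    (h₁ : pullback.fst sx sw v = pullback.fst sx sw v') (h₂ : pullback.snd sx sw v = pullback.snd sx sw v') :
    v = v' := by
  let a := pointOfClosedPoint (pullback.fst sx sw ≫ sx) v hv
  let b := pointOfClosedPoint (pullback.fst sx sw ≫ sx) v' hv'
  have ha : a ≫ pullback.fst sx sw ≫ sx = 𝟙 _ := pointOfClosedPoint_comp _ _ _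
  have hb : b ≫ pullback.fst sx sw ≫ sx = 𝟙 _ := pointOfClosedPoint_comp _ _ _
  have hab : a = b := by
    apply pullback.hom_ext
    · refine ext_of_apply_closedPoint_eq sx ((Category.assoc _ _ _).trans ha) ((Category.assoc _ _ _).trans hb) ?_
      rw [Scheme.Hom.comp_apply, Scheme.Hom.comp_apply, pointOfClosedPoint_apply, pointOfClosedPoint_apply, h₁]
    · refine ext_of_apply_closedPoint_eq sw (by rw [Category.assoc, ← pullback.condition]; exact ha)
        (by rw [Category.assoc, ← pullback.condition]; exact hb) ?_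
      rw [Scheme.Hom.comp_apply, Scheme.Hom.comp_apply, pointOfClosedPoint_apply, pointOfClosedPoint_apply, h₂]
  rw [← pointOfClosedPoint_apply (pullback.fst sx sw ≫ sx) v hv (IsLocalRing.closedPoint k),
    ← pointOfClosedPoint_apply (pullback.fst sx sw ≫ sx) v' hv' (IsLocalRing.closedPoint k)]
  exact congrArg (fun φ : Spec (CommRingCat.of k) ⟶ pullback sx sw => φ (IsLocalRing.closedPoint k)) hab

end Slice

theorem finite_of_closed_points {Y : Scheme.{u}} [TopologicalSpace.NoetherianSpace Y] {C : Set Y}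
    (hC : IsClosed C) (h : ∀ v ∈ C, IsClosed ({v} : Set Y)) : C.Finite := by
  obtain ⟨S, hSf, hSc, hSi, rfl⟩ := TopologicalSpace.NoetherianSpace.exists_finite_set_isClosed_irreducible hC
  refine hSf.sUnion fun t ht => ?_
  have hg := (hSi t ht).isGenericPoint_genericPoint (hSc t ht)
  have hcl := h _ (Set.mem_sUnion.2 ⟨t, ht, hg.mem⟩)
  rw [← hg.def, hcl.closure_eq]
  exact Set.finite_singleton _

/-- Uniqueness of the cycle of a point of a symmetric product. -/
theorem cycle_unique {k : Type u} [Field k] {X Y : Scheme.{u}} (sx : X ⟶ Spec (CommRingCat.of k)) {d : ℕ}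
    {q : SymProd.fibPow sx d ⟶ Y} {g : Y ⟶ Spec (CommRingCat.of k)} (hS : SymProd.IsSymProd sx d q g)
    {y : Spec (CommRingCat.of k) ⟶ Y} {α β : X → ℤ} (hα : ZCorr.IsCycleOfSymPt sx d q y α)
    (hβ : ZCorr.IsCycleOfSymPt sx d q y β) : α = β := by
  obtain ⟨t, rfl, ht⟩ := hα
  obtain ⟨t', he, ht'⟩ := hβ
  obtain ⟨⟨σ⟩, hσ⟩ := Groth.L27.Quot.exists_comp_eq_of_comp_eq hS.isQuot t t' he.symm
  funext x
  rw [ht x, ht' x, Nat.cast_inj]
  refine Nat.card_congr (Equiv.subtypeEquiv σ fun i => ?_)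
  rw [← hσ]
  have : (t ≫ (SymProd.permHom sx d σ)) ≫ WidePullback.π (fun _ : Fin d => sx) (σ i) =
      t ≫ WidePullback.π (fun _ : Fin d => sx) i := by
    rw [Category.assoc, SymProd.permHom_π, Equiv.symm_apply_apply]
  exact (congrArg (fun φ : Spec (CommRingCat.of k) ⟶ X => φ (IsLocalRing.closedPoint k) = x) this).symm.to_iff

namespace Line

variable (k : Type u) [Field k]

theorem isPrincipalIdealRing_stalk (w : PL k) : IsPrincipalIdealRing ((PL k).presheaf.stalk w) := by
  obtain ⟨i, hi⟩ := Groth.L16.ProjSpace.exists_mem_basicOpen_X 1 k w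
  have h1 : IsIso (Spec.map (CommRingCat.ofHom
      (MvPolynomial.uniqueAlgEquiv k (Groth.L16.ProjSpace.ChartVar 1 i)).toRingEquiv.toRingHom)) :=
    inferInstanceAs (IsIso (Scheme.Spec.map
      (MvPolynomial.uniqueAlgEquiv k (Groth.L16.ProjSpace.ChartVar 1 i)).toRingEquiv.toCommRingCatIso.hom.op))
  have hU : (aff k i).opensRange = (Proj.basicOpen (CohB1.polyGrading 1 k) (MvPolynomial.X i) : (PL k).Opens) :=
    (Scheme.Hom.opensRange_comp_of_isIso _ _).trans (Groth.L16.ProjSpace.opensRange_chart 1 k i)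
  obtain ⟨p, rfl⟩ := hU.ge hi
  haveI : IsPrincipalIdealRing ((Spec (CommRingCat.of (Polynomial k))).presheaf.stalk p) := by
    letI : Algebra (Polynomial k) ((Spec (CommRingCat.of (Polynomial k))).presheaf.stalk p) :=
      ((Scheme.ΓSpecIso (CommRingCat.of (Polynomial k))).inv ≫
        (Spec (CommRingCat.of (Polynomial k))).presheaf.germ ⊤ p trivial).hom.toAlgebra
    haveI : IsLocalization.AtPrime ((Spec (CommRingCat.of (Polynomial k))).presheaf.stalk p) p.asIdeal :=
      inferInstanceAs (IsLocalization.AtPrime ((Spec.structureSheaf (Polynomial k)).presheaf.stalk p) p.asIdeal)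
    exact IsPrincipalIdealRing.of_surjective
      (IsLocalization.algEquiv p.asIdeal.primeCompl (Localization.AtPrime p.asIdeal)
        ((Spec (CommRingCat.of (Polynomial k))).presheaf.stalk p)).toRingEquiv.toRingHom
      (RingEquiv.surjective _)
  let e : (PL k).presheaf.stalk (aff k i p) ≃+* (Spec (CommRingCat.of (Polynomial k))).presheaf.stalk p :=
    RingEquiv.ofBijective ((aff k i).stalkMap p).hom (ConcreteCategory.bijective_of_isIso ((aff k i).stalkMap p))
  exact IsPrincipalIdealRing.of_surjective e.symm.toRingHom e.symm.surjective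

variable [IsAlgClosed k]

theorem exists_delta_line : ∃ δ : PL k → ℤ, Cyc.DeltaCompat (str k) δ (fun _ => 0) ∧ δ (genericPoint (PL k)) = 1 := by
  haveI : LocallyOfFiniteType (str k) := inferInstance
  obtain ⟨δ, hδ⟩ := exists_delta (str k)
  refine ⟨δ, hδ, ?_⟩
  have hdim : topologicalKrullDim (PL k) = 1 :=
    (Groth.L16.ProjSpace.topologicalKrullDim_eq_of_field 1 k).trans Nat.cast_one
  obtain ⟨m, hm, hd⟩ := hδ (genericPoint (PL k))
  have h2 : (m : Cardinal.{u}) = 1 := hm.symm.trans (by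
    have h3 := rtrdeg_genericPoint (str k) 1 (by rw [hdim]; exact Nat.cast_one.symm)
    rw [Nat.cast_one] at h3
    exact h3)
  rw [hd, show m = 1 by exact_mod_cast h2]
  simp

theorem eq_genericPoint_of_not_isClosed {w : PL k} (hw : ¬ IsClosed ({w} : Set (PL k))) :
    w = genericPoint (PL k) := by
  haveI : LocallyOfFiniteType (str k) := inferInstance
  obtain ⟨δ, hδ, h1⟩ := exists_delta_line k
  by_contra hne
  have h2 := (isDimFun_of_field (str k) hδ (genericPoint (PL k)) w (genericPoint_specializes' w) (Ne.symm hne)).1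
  have h3 := delta_nonneg (str k) hδ w
  exact hw ((delta_eq_zero_iff (str k) hδ w).1 (by omega))

theorem not_isClosed_genericPoint : ¬ IsClosed ({genericPoint (PL k)} : Set (PL k)) := by
  haveI : LocallyOfFiniteType (str k) := inferInstance
  obtain ⟨δ, hδ, h1⟩ := exists_delta_line k
  intro h
  have := (delta_eq_zero_iff (str k) hδ _).2 h
  omega

theorem exists_divisor' (u₀ u₁ : Spec (CommRingCat.of k) ⟶ PL k) (h₀ : u₀ ≫ str k = 𝟙 _) (h₁ : u₁ ≫ str k = 𝟙 _)
    {η : PL k} (hη : η = genericPoint (PL k)) :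
    ∃ g : (PL k).residueField η, g ≠ 0 ∧
      ∀ w : PL k, IsClosed ({w} : Set (PL k)) → ∀ h : η ⤳ w,
        Cyc.ordAt w η h g = (if w = u₀ (IsLocalRing.closedPoint k) then 1 else 0) -
            (if w = u₁ (IsLocalRing.closedPoint k) then 1 else 0) := by
  subst hη
  exact exists_divisor k u₀ u₁ h₀ h₁

end Line

open Line (PL str)

section Family

variable {k : Type u} [Field k] [IsAlgClosed k] {X : Scheme.{u}} (sx : X ⟶ Spec (CommRingCat.of k))
  [IsProper sx] {δP : ↥(pullback sx (str k)) → ℤ}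
  (hδP : Cyc.DeltaCompat (pullback.fst sx (str k) ≫ sx) δP fun _ => 0)

instance isProper_str : IsProper (str k) := Groth.L16.ProjSpace.isProper_toSpec 1 k

include hδP

theorem closed_of_delta_zero {v : ↥(pullback sx (str k))} (h : δP v = 0) :
    IsClosed ({v} : Set ↥(pullback sx (str k))) :=
  (delta_eq_zero_iff (pullback.fst sx (str k) ≫ sx) hδP v).1 h

theorem snd_closed {v : ↥(pullback sx (str k))} (hv : IsClosed ({v} : Set ↥(pullback sx (str k)))) :
    IsClosed ({pullback.snd sx (str k) v} : Set (PL k)) := by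
  rw [← Set.image_singleton]
  exact (pullback.snd sx (str k)).isClosedMap _ hv

theorem fst_closed {v : ↥(pullback sx (str k))} (hv : IsClosed ({v} : Set ↥(pullback sx (str k)))) :
    IsClosed ({pullback.fst sx (str k) v} : Set X) := by
  rw [← Set.image_singleton]
  exact (pullback.fst sx (str k)).isClosedMap _ hv

theorem delta_slice {u : Spec (CommRingCat.of k) ⟶ PL k} (hu : u ≫ str k = 𝟙 _) {x : X}
    (hx : IsClosed ({x} : Set X)) : δP (AlgEqCyc.slice sx (str k) u hu x) = 0 :=
  (delta_eq_zero_iff (pullback.fst sx (str k) ≫ sx) hδP _).2 (isClosed_slice sx (str k) u hu hx)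

/-- A component of dimension one over the generic point has finite fibres. -/
theorem finite_fibres {ξ : ↥(pullback sx (str k))} (hξη : pullback.snd sx (str k) ξ = genericPoint (PL k))
    (hξ1 : δP ξ = 1) (w : PL k) : (closure {ξ} ∩ pullback.snd sx (str k) ⁻¹' {w}).Finite := by
  have hdf := isDimFun_of_field (pullback.fst sx (str k) ≫ sx) hδP
  have hcl : ∀ v ∈ closure ({ξ} : Set ↥(pullback sx (str k))), v ≠ ξ → IsClosed ({v} : Set ↥(pullback sx (str k))) :=
    fun v hv hne => by
      have h1 := (hdf ξ v (specializes_iff_mem_closure.2 hv) (Ne.symm hne)).1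
      have h2 := delta_nonneg (pullback.fst sx (str k) ≫ sx) hδP v
      exact closed_of_delta_zero sx hδP (by omega)
  haveI : CompactSpace ↥(pullback sx (str k)) := QuasiCompact.compactSpace_of_compactSpace (pullback.fst sx (str k) ≫ sx)
  haveI : IsLocallyNoetherian (pullback sx (str k)) :=
    LocallyOfFiniteType.isLocallyNoetherian (pullback.fst sx (str k) ≫ sx)
  haveI : IsNoetherian (pullback sx (str k)) := { }
  by_cases hw : IsClosed ({w} : Set (PL k))
  · refine finite_of_closed_points (isClosed_closure.inter (hw.preimage (pullback.snd sx (str k)).continuous))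
      fun v hv => hcl v hv.1 fun e => ?_
    subst e
    exact Line.not_isClosed_genericPoint k (hξη ▸ (show pullback.snd sx (str k) v = w from hv.2).symm ▸ hw)
  · refine (Set.finite_singleton ξ).subset fun v hv => ?_
    by_contra hne
    exact hw ((show pullback.snd sx (str k) v = w from hv.2) ▸ snd_closed sx hδP (hcl v hv.1 hne))

omit hδP in
/-- A component over the generic point is flat over the line. -/
theorem flat_of_generic {ξ : ↥(pullback sx (str k))} (hξη : pullback.snd sx (str k) ξ = genericPoint (PL k))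
    (v : ↥(pullback sx (str k))) (h : ξ ⤳ v) :
    ((Ideal.Quotient.mk (RingHom.ker (Cyc.specMap v ξ h))).comp
      ((pullback.snd sx (str k)).stalkMap v).hom).Flat := by
  haveI := Line.isPrincipalIdealRing_stalk k (pullback.snd sx (str k) v)
  let φ := (Ideal.Quotient.mk (RingHom.ker (Cyc.specMap v ξ h))).comp ((pullback.snd sx (str k)).stalkMap v).hom
  haveI := Groth.L22.DimFormula.isDomain_locQuot v ξ h
  haveI : IsDomain ((PL k).presheaf.stalk (pullback.snd sx (str k) v)) :=
    (specMap_injective _ (genericPoint_specializes' _)).isDomain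
  have hinj : Function.Injective φ := by
    rw [injective_iff_map_eq_zero]
    intro a ha
    have h1 : Cyc.specMap v ξ h (((pullback.snd sx (str k)).stalkMap v).hom a) = 0 :=
      RingHom.mem_ker.1 (Ideal.Quotient.eq_zero_iff_mem.1 ha)
    rw [← residueFieldMap_specMap (pullback.snd sx (str k)) h (h.map (pullback.snd sx (str k)).continuous) a] at h1
    exact (map_eq_zero_iff _ (specMap_injective' _ hξη _)).1 ((map_eq_zero _).1 h1)
  letI : Algebra ((PL k).presheaf.stalk (pullback.snd sx (str k) v)) (Cyc.LocQuot v ξ h) := φ.toAlgebra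
  haveI : FaithfulSMul ((PL k).presheaf.stalk (pullback.snd sx (str k) v)) (Cyc.LocQuot v ξ h) :=
    (faithfulSMul_iff_algebraMap_injective _ _).2 hinj
  show Module.Flat _ _
  exact Module.Flat.flat_iff_torsion_eq_bot_of_isBezout.2 (Submodule.isTorsionFree_iff_torsion_eq_bot.1 inferInstance)

theorem fst_deltaCompat [LocallyOfFiniteType sx] {δ : X → ℤ} (hδ : Cyc.DeltaCompat sx δ fun _ => 0) :
    Cyc.DeltaCompat (pullback.fst sx (str k)) δP δ :=
  Groth.L22.Bundle.deltaCompat_cancel _ _ hδP hδ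

set_option maxHeartbeats 1600000 in
/-- The divisor of the pull-back of a function with two rational zeros and poles. -/
theorem divFun_pull {u₀ u₁ : Spec (CommRingCat.of k) ⟶ PL k}
    {ξ : ↥(pullback sx (str k))} (hξη : pullback.snd sx (str k) ξ = genericPoint (PL k)) (hξ1 : δP ξ = 1)
    (g' : (PL k).residueField (pullback.snd sx (str k) ξ)) (hg' : g' ≠ 0)
    (hord : ∀ w : PL k, IsClosed ({w} : Set (PL k)) → ∀ h : pullback.snd sx (str k) ξ ⤳ w,
      Cyc.ordAt w (pullback.snd sx (str k) ξ) h g' = (if w = u₀ (IsLocalRing.closedPoint k) then 1 else 0) -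
        (if w = u₁ (IsLocalRing.closedPoint k) then 1 else 0)) :
    ∀ v : ↥(pullback sx (str k)),
      Cyc.divFun δP ξ ((pullback.snd sx (str k)).residueFieldMap ξ g') v = if h : ξ ⤳ v ∧ δP v = 0 then
        ((if pullback.snd sx (str k) v = u₀ (IsLocalRing.closedPoint k) then 1 else 0) -
          (if pullback.snd sx (str k) v = u₁ (IsLocalRing.closedPoint k) then 1 else 0)) *
          (AlgEqCyc.fibreMult (pullback.snd sx (str k)) v ξ h.1 : ℤ) else 0 := by
  haveI : IsLocallyNoetherian (PL k) := LocallyOfFiniteType.isLocallyNoetherian (str k)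
  haveI : IsLocallyNoetherian (pullback sx (str k)) :=
    LocallyOfFiniteType.isLocallyNoetherian (pullback.fst sx (str k) ≫ sx)
  have hdf := isDimFun_of_field (pullback.fst sx (str k) ≫ sx) hδP
  obtain ⟨δW, hδW, hW1⟩ := Line.exists_delta_line k
  have hdW := isDimFun_of_field (str k) hδW
  obtain ⟨Z, hZ, i, hi, rfl⟩ : ∃ (Z : Scheme.{u}) (_ : IsIntegral Z) (i : Z ⟶ pullback sx (str k))
      (_ : IsClosedImmersion i), i (genericPoint Z) = ξ :=
    ⟨clSub ξ, inferInstance, clι ξ, inferInstance, clι_genericPoint ξ⟩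
  haveI : IsLocallyNoetherian Z := LocallyOfFiniteType.isLocallyNoetherian i
  let pr := pullback.snd sx (str k)
  haveI : IsFinite (i ≫ pr) :=
    isFinite_of_fibres i pr fun w => by
      rw [range_eq_closure i rfl]
      exact finite_fibres sx hδP hξη hξ1 w
  haveI : Flat (i ≫ pr) := flat_of_stalks i pr rfl fun v h => flat_of_generic sx hξη v h
  intro v
  by_cases hv : i (genericPoint Z) ⤳ v ∧ δP v = 0
  swap
  · rw [dif_neg hv, Cyc.divFun, dif_neg]
    rw [hξ1]
    exact fun h => hv ⟨h.1, by omega⟩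
  obtain ⟨z, rfl⟩ : v ∈ Set.range i := hv.1.mem_closed i.isClosedEmbedding.isClosed_range ⟨_, rfl⟩
  have hz : δP (i z) + 1 = δP (i (genericPoint Z)) := by rw [hv.2, hξ1]; norm_num
  have hwc : IsClosed ({pr (i z)} : Set (PL k)) := snd_closed sx hδP (closed_of_delta_zero sx hδP hv.2)
  rw [dif_pos hv, Cyc.divFun, dif_pos ⟨hv.1, hz⟩,
    ← ordAt_closedImmersion i hdf (genericPoint_specializes' z) hz _ ((map_ne_zero _).2 hg'),
    ← hord (pr (i z)) hwc (hv.1.map pr.continuous)]
  haveI : Ring.KrullDimLE 1 (Z.presheaf.stalk z) := krullDimLE_one_stalk (isDimFun_closedImmersion i hdf) z hz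
  haveI : Ring.KrullDimLE 1 ((PL k).presheaf.stalk ((i ≫ pr) z)) :=
    krullDimLE_one_stalk hdW _ (by rw [hW1, (delta_eq_zero_iff (str k) hδW ((i ≫ pr) z)).2 hwc]; norm_num)
  have hfib : FibGen (i ≫ pr) z := fun y hy hyz => i.isClosedEmbedding.injective <|
    eq_of_specializes_of_finite_fibre pr isClosed_closure (pr (i z))
      (finite_fibres sx hδP hξη hξ1 (pr (i z)))
      (specializes_iff_mem_closure.1 (generic_specializes i rfl y))
      (specializes_iff_mem_closure.1 (generic_specializes i rfl z)) hy rfl (hyz.map i.continuous)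
  have key := ordAt_pullback (i ≫ pr) z (genericPoint_specializes' z) hξη (hv.1.map pr.continuous) hfib g' hg'
  rw [fibreMult_eq i pr rfl z hv.1]
  refine Eq.trans ?_ key.symm
  congr 1
  rw [Scheme.residueFieldMap_comp]
  rfl

set_option maxHeartbeats 1600000 in
/-- The difference of the fibres of a component is a principal divisor. -/
theorem fibre_sub {δ : X → ℤ} (hδ : Cyc.DeltaCompat sx δ fun _ => 0)
    {u₀ u₁ : Spec (CommRingCat.of k) ⟶ PL k} (h₀ : u₀ ≫ str k = 𝟙 _) (h₁ : u₁ ≫ str k = 𝟙 _)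
    {ξ : ↥(pullback sx (str k))} (hξη : pullback.snd sx (str k) ξ = genericPoint (PL k)) (hξ1 : δP ξ = 1)
    (g' : (PL k).residueField (pullback.snd sx (str k) ξ)) (hg' : g' ≠ 0)
    (hord : ∀ w : PL k, IsClosed ({w} : Set (PL k)) → ∀ h : pullback.snd sx (str k) ξ ⤳ w,
      Cyc.ordAt w (pullback.snd sx (str k) ξ) h g' = (if w = u₀ (IsLocalRing.closedPoint k) then 1 else 0) -
        (if w = u₁ (IsLocalRing.closedPoint k) then 1 else 0)) :
    (δ (pullback.fst sx (str k) ξ) = 1 →
      Cyc.normGen (pullback.fst sx (str k)) ξ ((pullback.snd sx (str k)).residueFieldMap ξ g') ≠ 0) ∧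
      ∀ x, fm sx (str k) u₀ h₀ ξ x - fm sx (str k) u₁ h₁ ξ x =
        if δ (pullback.fst sx (str k) ξ) = 1 then Cyc.divFun δ (pullback.fst sx (str k) ξ)
          (Cyc.normGen (pullback.fst sx (str k)) ξ ((pullback.snd sx (str k)).residueFieldMap ξ g')) x else 0 := by
  have hdiv := divFun_pull sx hδP hξη hξ1 g' hg' hord
  haveI : IsLocallyNoetherian X := LocallyOfFiniteType.isLocallyNoetherian sx
  haveI : IsLocallyNoetherian (pullback sx (str k)) :=
    LocallyOfFiniteType.isLocallyNoetherian (pullback.fst sx (str k) ≫ sx)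
  have hdf := isDimFun_of_field (pullback.fst sx (str k) ≫ sx) hδP
  have hdX := isDimFun_of_field sx hδ
  have hc := fst_deltaCompat sx hδP hδ
  set p := pullback.fst sx (str k) with hp
  set g := (pullback.snd sx (str k)).residueFieldMap ξ g'
  have hg : g ≠ 0 := (map_ne_zero _).2 hg'
  refine ⟨fun hd => ?_, fun x => ?_⟩
  · letI := (p.residueFieldMap ξ).hom.toAlgebra
    haveI : Module.Finite (X.residueField (p ξ)) ((pullback sx (str k)).residueField ξ) :=
      Module.finite_of_finrank_pos (Nat.pos_of_ne_zero fun h0 =>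
        absurd (hd.trans hξ1.symm) ((residueDegree_eq_zero_of_lt p hc ξ).2 h0).ne)
    exact Algebra.norm_ne_zero_iff.2 hg
  by_cases hx : IsClosed ({x} : Set X)
  swap
  · have h0 : ∀ (u : Spec (CommRingCat.of k) ⟶ PL k) (hu : u ≫ str k = 𝟙 _),
        fm sx (str k) u hu ξ x = 0 := by
      intro u hu
      rw [fm, dif_neg]
      intro h
      by_cases he : ξ = AlgEqCyc.slice sx (str k) u hu x
      · refine Line.not_isClosed_genericPoint k ?_
        rw [← hξη, he, snd_slice]
        exact ((pointEquivClosedPoint (str k)) ⟨u, hu⟩).2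
      · have h1 := (hdf ξ _ h he).1
        have h2 := delta_nonneg (p ≫ sx) hδP (AlgEqCyc.slice sx (str k) u hu x)
        have hv := closed_of_delta_zero sx hδP (show δP (AlgEqCyc.slice sx (str k) u hu x) = 0 by omega)
        have := fst_closed sx hδP hv
        rw [fst_slice] at this
        exact hx this
    rw [h0 u₀ h₀, h0 u₁ h₁, sub_zero]
    split_ifs with hd
    · rw [Cyc.divFun, dif_neg]
      rintro ⟨-, h⟩
      exact hx ((delta_eq_zero_iff sx hδ x).1 (by omega))
    · rfl
  let F : ↥(pullback sx (str k)) → ℤ := fun v =>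
    if h : ξ ⤳ v then (AlgEqCyc.fibreMult (pullback.snd sx (str k)) v ξ h : ℤ) else 0
  let v₀ := AlgEqCyc.slice sx (str k) u₀ h₀ x
  let v₁ := AlgEqCyc.slice sx (str k) u₁ h₁ x
  have hv₀ : δP v₀ = 0 := delta_slice sx hδP h₀ hx
  have hv₁ : δP v₁ = 0 := delta_slice sx hδP h₁ hx
  let c : ↥(pullback sx (str k)) → ℤ := fun v => ((if v = v₀ then 1 else 0) - (if v = v₁ then 1 else 0)) * F v
  have key : ∀ v, p v = x → Cyc.divFun δP ξ g v * ((AlgebraicCycle.mapCoeff p δP δ v : ℕ) : ℤ) = c v := by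
    intro v hv
    by_cases h : ξ ⤳ v ∧ δP v = 0
    · have hvc := closed_of_delta_zero sx hδP h.2
      have e : ∀ (u : Spec (CommRingCat.of k) ⟶ PL k) (hu : u ≫ str k = 𝟙 _),
          (pullback.snd sx (str k) v = u (IsLocalRing.closedPoint k)) ↔ v = AlgEqCyc.slice sx (str k) u hu x := by
        intro u hu
        refine ⟨fun e => closed_ext sx (str k) hvc (isClosed_slice sx (str k) u hu hx)
          (hv.trans (fst_slice sx (str k) u hu x).symm) (e.trans (snd_slice sx (str k) u hu x).symm), fun e => ?_⟩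
        rw [e, snd_slice]
      have hm : AlgebraicCycle.mapCoeff p δP δ v = 1 := by
        rw [mapCoeff_eq p hc]
        have h1 := residueDegree_of_isClosed (p ≫ sx) v hvc
        rw [residueDegree_comp] at h1
        exact Nat.eq_one_of_mul_eq_one_left h1
      rw [hm, Nat.cast_one, mul_one, hdiv v, dif_pos h]
      simp only [e u₀ h₀, e u₁ h₁, c, F, dif_pos h.1, v₀, v₁]
    · rw [hdiv v, dif_neg h, zero_mul]
      simp only [c]
      by_cases hs : ξ ⤳ v
      · rw [if_neg fun e => h ⟨hs, by rw [e, hv₀]⟩, if_neg fun e => h ⟨hs, by rw [e, hv₁]⟩, sub_zero, zero_mul]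
      · simp [F, hs]
  have hm := map_divFun p hdf hdX hc ξ g hg x
  rw [finsum_mem_congr (s := p ⁻¹' {x}) rfl (g := c) (fun v (hv : v ∈ p ⁻¹' {x}) => key v hv), hξ1] at hm
  rw [← hm, finsum_mem_eq_sum_of_inter_support_eq c (t := {v₀, v₁}) ?_]
  · have hF : ∀ (u : Spec (CommRingCat.of k) ⟶ PL k) (hu : u ≫ str k = 𝟙 _),
        fm sx (str k) u hu ξ x = F (AlgEqCyc.slice sx (str k) u hu x) := fun u hu => rfl
    rw [hF, hF]
    by_cases he : v₀ = v₁
    · simp [c, he, v₀, v₁]
    · rw [Finset.sum_pair he]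
      simp [c, he, Ne.symm he, v₀, v₁, sub_eq_add_neg]
  · ext v
    simp only [Set.mem_inter_iff, Set.mem_preimage, Set.mem_singleton_iff, Function.mem_support,
      Finset.coe_insert, Finset.coe_singleton, Set.mem_insert_iff]
    refine ⟨fun ⟨_, hne⟩ => ⟨?_, hne⟩, fun ⟨h, hne⟩ => ⟨?_, hne⟩⟩
    · by_contra hh
      rw [not_or] at hh
      exact hne (by simp [c, hh.1, hh.2])
    · rcases h with rfl | rfl
      · exact fst_slice sx (str k) u₀ h₀ x
      · exact fst_slice sx (str k) u₁ h₁ x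

/-- The fibres of an effective family of zero-cycles over the line are rationally equivalent. -/
theorem ratEquiv_fibres {δ : X → ℤ} (hδ : Cyc.DeltaCompat sx δ fun _ => 0)
    (Γc : AlgebraicCycle (pullback sx (str k)) ℤ) (hΓ0 : ∀ ξ, 0 ≤ Γc ξ)
    (hη : ∀ ξ, Γc ξ ≠ 0 → pullback.snd sx (str k) ξ = genericPoint (PL k) ∧ δP ξ = 1)
    {u₀ u₁ : Spec (CommRingCat.of k) ⟶ PL k} (h₀ : u₀ ≫ str k = 𝟙 _) (h₁ : u₁ ≫ str k = 𝟙 _)
    (α β : AlgebraicCycle X ℤ) (hα : ⇑α = AlgEqCyc.fibreFun sx (str k) Γc u₀ h₀)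
    (hβ : ⇑β = AlgEqCyc.fibreFun sx (str k) Γc u₁ h₁) : Cyc.RatEquiv δ 0 α β := by
  haveI : CompactSpace ↥(pullback sx (str k)) :=
    QuasiCompact.compactSpace_of_compactSpace (pullback.fst sx (str k) ≫ sx)
  let T := (finite_support Γc).toFinset
  have hT : ∀ ξ, Γc ξ ≠ 0 ↔ ξ ∈ T := fun ξ => (finite_support Γc).mem_toFinset.symm
  choose g hg hord using fun a : {ξ // ξ ∈ T} => Line.exists_divisor' k u₀ u₁ h₀ h₁ (hη a.1 ((hT _).2 a.2)).1
  let G := fun a : {ξ // ξ ∈ T} =>
    Cyc.normGen (pullback.fst sx (str k)) a.1 ((pullback.snd sx (str k)).residueFieldMap a.1 (g a))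
  have hsub := fun a : {ξ // ξ ∈ T} =>
    fibre_sub sx hδP hδ h₀ h₁ (hη a.1 ((hT _).2 a.2)).1 (hη a.1 ((hT _).2 a.2)).2 (g a) (hg a) (hord a)
  have hG0 := fun a => (hsub a).1
  have hG := fun a => (hsub a).2
  let ι := (a : {a : {ξ // ξ ∈ T} // δ (pullback.fst sx (str k) a.1) = 1}) × Fin (Γc a.1.1).toNat
  haveI : Finite ι := inferInstance
  refine ⟨ι, fun i => pullback.fst sx (str k) i.1.1.1, fun i => G i.1.1, fun i => by rw [i.1.2]; norm_num,
    fun i => hG0 _ i.1.2, fun x => ⟨Set.univ, isOpen_univ, trivial, Set.toFinite _⟩, fun x => ?_⟩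
  rw [Function.locallyFinsuppWithin.coe_sub, Pi.sub_apply, hα, hβ,
    fibreFun_eq_sum sx (str k) u₀ h₀ Γc T (fun ξ h => (hT ξ).1 h),
    fibreFun_eq_sum sx (str k) u₁ h₁ Γc T (fun ξ h => (hT ξ).1 h), ← Finset.sum_sub_distrib, ← Finset.sum_attach,
    Finset.attach_eq_univ, finsum_eq_sum_of_fintype, Fintype.sum_sigma]
  simp only [Finset.sum_const, Finset.card_univ, Fintype.card_fin, nsmul_eq_mul, ← mul_sub, hG, mul_ite, mul_zero]
  rw [← Finset.sum_filter, Finset.sum_subtype _ (p := fun a : {ξ // ξ ∈ T} => δ (pullback.fst sx (str k) a.1) = 1)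
    (fun a => by simp)]
  exact Finset.sum_congr rfl fun a _ => by rw [Int.toNat_of_nonneg (hΓ0 _)]

omit hδP

set_option maxHeartbeats 800000 in
/-- The cycles of two points of a map of the line to a symmetric product are rationally equivalent. -/
theorem ratEquiv_of_morphism [CharZero k] {δ : X → ℤ} (hδ : Cyc.DeltaCompat sx δ fun _ => 0)
    {d : ℕ} {Sy : Scheme.{u}} (q : SymProd.fibPow sx d ⟶ Sy) (g : Sy ⟶ Spec (CommRingCat.of k))
    (hS : SymProd.IsSymProd sx d q g) (f : PL k ⟶ Sy) (hf : f ≫ g = str k)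
    (t₀ t₁ : Spec (CommRingCat.of k) ⟶ PL k) (h₀ : t₀ ≫ str k = 𝟙 _) (h₁ : t₁ ≫ str k = 𝟙 _)
    (α β : AlgebraicCycle X ℤ) (hα : ZCorr.IsCycleOfSymPt sx d q (t₀ ≫ f) ⇑α)
    (hβ : ZCorr.IsCycleOfSymPt sx d q (t₁ ≫ f) ⇑β) : Cyc.RatEquiv δ 0 α β := by
  obtain ⟨δP, hδP⟩ := exists_delta (pullback.fst sx (str k) ≫ sx)
  have hdim : topologicalKrullDim (PL k) = ((1 : ℕ) : WithBot ℕ∞) :=
    Groth.L16.ProjSpace.topologicalKrullDim_eq_of_field 1 k
  obtain ⟨Γc, hΓ, hΓ0, hfin, hpt⟩ := exists_cycle sx (str k) 1 hdim q g hS δP hδP f hf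
  haveI : JacobsonSpace ↥(pullback sx (str k)) :=
    LocallyOfFiniteType.jacobsonSpace (pullback.fst sx (str k) ≫ sx)
  have hη : ∀ ξ, Γc ξ ≠ 0 → pullback.snd sx (str k) ξ = genericPoint (PL k) ∧ δP ξ = 1 := by
    intro ξ hξ
    have h1 : δP ξ = 1 := by
      by_contra h
      exact hξ (hΓ ξ h)
    refine ⟨Line.eq_genericPoint_of_not_isClosed k fun hc => ?_, h1⟩
    let C : Set ↥(pullback sx (str k)) := closure {ξ}
    have hsub : C ⊆ pullback.snd sx (str k) ⁻¹' {pullback.snd sx (str k) ξ} :=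
      closure_minimal (Set.singleton_subset_iff.2 rfl) (hc.preimage (pullback.snd sx (str k)).continuous)
    haveI : Finite C := by
      refine Set.Finite.to_subtype ?_
      have := hfin ξ hξ (pullback.snd sx (str k) ξ)
      rwa [Set.inter_eq_left.2 hsub] at this
    haveI : JacobsonSpace C := JacobsonSpace.of_isClosedEmbedding isClosed_closure.isClosedEmbedding_subtypeVal
    haveI : DiscreteTopology C := JacobsonSpace.discreteTopology (Set.toFinite _)
    have hcl : IsClosed ({ξ} : Set ↥(pullback sx (str k))) := by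
      have := (isClosed_discrete ({⟨ξ, subset_closure rfl⟩} : Set C))
      have h2 := isClosed_closure.isClosedEmbedding_subtypeVal.isClosedMap _ this
      rwa [Set.image_singleton] at h2
    have := (delta_eq_zero_iff (pullback.fst sx (str k) ≫ sx) hδP ξ).2 hcl
    omega
  have hflat : ∀ ξ, Γc ξ ≠ 0 → ∀ (z : ↥(pullback sx (str k))) (h : ξ ⤳ z),
      ((Ideal.Quotient.mk (RingHom.ker (Cyc.specMap z ξ h))).comp
        ((pullback.snd sx (str k)).stalkMap z).hom).Flat := fun ξ hξ z h => flat_of_generic sx (hη ξ hξ).1 z h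
  exact ratEquiv_fibres sx hδP hδ Γc hΓ0 hη h₀ h₁ α β
    (cycle_unique sx hS hα (hpt t₀ h₀ fun ξ hξ z h _ => hflat ξ hξ z h))
    (cycle_unique sx hS hβ (hpt t₁ h₁ fun ξ hξ z h _ => hflat ξ hξ z h))

end Family

end Groth.L22.SymCorr
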