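import Groth.Agent.L22.SymCorr.Fam
import Groth.Agent.L19.AmpleAffineLocus
import Groth.Agent.L08.Cube.AmpleFixed

/-!
Points on rational curves of a surface with an ample connected curve made of rational curves.
-/

set_option autoImplicit false
set_option linter.style.haveILetI false
set_option backward.isDefEq.respectTransparency false
set_option backward.isDefEq.respectTransparency.types false

universe u

open AlgebraicGeometry CategoryTheory CategoryTheory.Limits Groth.L22.Cyc
open scoped Classical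

noncomputable section

namespace Groth.L22.SymCorr.RatCurves

open Line (PL str)

variable {k : Type u} [Field k] {X : Scheme.{u}} (sx : X ⟶ Spec (CommRingCat.of k))

theorem ratEquiv_trans' [IsLocallyNoetherian X] {δ : X → ℤ} (n : ℤ) {α β γ : AlgebraicCycle X ℤ}
    (h₁ : Cyc.RatEquiv δ n α β) (h₂ : Cyc.RatEquiv δ n β γ) : Cyc.RatEquiv δ n α γ := by
  obtain ⟨ι, ξ, f, h1, h2, h3, h4⟩ := h₁
  obtain ⟨ι', ξ', f', h1', h2', h3', h4'⟩ := h₂
  refine ⟨ι ⊕ ι', Sum.elim ξ ξ', fun i => match i with | .inl i => f i | .inr i => f' i,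
    ?_, ?_, fun x => ?_, fun x => ?_⟩
  · rintro (i | i) <;> simp [h1, h1']
  · rintro (i | i)
    · exact h2 i
    · exact h2' i
  · obtain ⟨U, hU, hxU, hfin⟩ := h3 x
    obtain ⟨U', hU', hxU', hfin'⟩ := h3' x
    refine ⟨U ∩ U', hU.inter hU', ⟨hxU, hxU'⟩,
      ((hfin.image Sum.inl).union (hfin'.image Sum.inr)).subset ?_⟩
    rintro (i | i) ⟨z, hz, hzU, hzU'⟩
    · exact Or.inl ⟨i, ⟨z, hz, hzU⟩, rfl⟩
    · exact Or.inr ⟨i, ⟨z, hz, hzU'⟩, rfl⟩
  · have hs : ∀ {κ : Type u} (ζ : κ → X) (g : (i : κ) → X.residueField (ζ i)),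
        (∀ x : X, ∃ U : Set X, IsOpen U ∧ x ∈ U ∧ {i | (closure {ζ i} ∩ U).Nonempty}.Finite) →
        (Function.support fun i => Cyc.divFun δ (ζ i) (g i) x).Finite := fun ζ g hloc => by
      obtain ⟨U, hU, hxU, hfin⟩ := hloc x
      refine hfin.subset fun i hi => ⟨x, ?_, hxU⟩
      rw [Function.mem_support, Cyc.divFun] at hi
      split_ifs at hi with h
      · exact specializes_iff_mem_closure.1 h.1
      · exact absurd rfl hi
    have e1 := hs ξ f h3
    have e2 := hs ξ' f' h3'
    have e : (α - γ) x = (α - β) x + (β - γ) x := by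
      simp only [Function.locallyFinsuppWithin.coe_sub, Pi.sub_apply]; ring
    rw [e, h4 x, h4' x]
    have hA : ((Function.support fun i : ι ⊕ ι' => Cyc.divFun δ (Sum.elim ξ ξ' i)
        (match i with | .inl i => f i | .inr i => f' i) x)) ⊆
        ↑(e1.toFinset.disjSum e2.toFinset) := by
      rintro (i | i) hi
      · exact Finset.mem_coe.2 (Finset.inl_mem_disjSum.2 (e1.mem_toFinset.2 hi))
      · exact Finset.mem_coe.2 (Finset.inr_mem_disjSum.2 (e2.mem_toFinset.2 hi))
    rw [finsum_eq_sum_of_support_subset _ hA, Finset.sum_disjSum,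
      finsum_eq_sum_of_support_subset _ (e1.coe_toFinset.symm.subset),
      finsum_eq_sum_of_support_subset _ (e2.coe_toFinset.symm.subset)]
    rfl

section Line

variable [IsAlgClosed k] [IsProper sx]

set_option maxHeartbeats 1600000 in
/-- Two closed points on a curve parametrised by the line are rationally equivalent. -/
theorem ratEquiv_of_line {δ : X → ℤ} (hδ : Cyc.DeltaCompat sx δ fun _ => 0)
    (g : PL k ⟶ X) (hg : g ≫ sx = str k) (x y : X) (hx : IsClosed ({x} : Set X)) (hy : IsClosed ({y} : Set X))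
    (hxg : x ∈ Set.range g) (hyg : y ∈ Set.range g) :
    Cyc.RatEquiv δ 0 (Function.locallyFinsuppWithin.single x (1 : ℤ) : AlgebraicCycle X ℤ)
      (Function.locallyFinsuppWithin.single y (1 : ℤ)) := by
  haveI : LocallyOfFiniteType (str k) := inferInstance
  haveI : JacobsonSpace ↥(PL k) := LocallyOfFiniteType.jacobsonSpace (str k)
  have hlift : ∀ x : X, IsClosed ({x} : Set X) → x ∈ Set.range g →
      ∃ (t : Spec (CommRingCat.of k) ⟶ PL k), t ≫ str k = 𝟙 _ ∧ g (t (IsLocalRing.closedPoint k)) = x := by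
    intro x hx hxg
    obtain ⟨c, hc⟩ := hxg
    obtain ⟨w, hw, hwc⟩ := nonempty_inter_closedPoints (Z := g ⁻¹' {x}) ⟨c, hc⟩
      (hx.preimage g.continuous).isLocallyClosed
    exact ⟨pointOfClosedPoint (str k) w hwc, pointOfClosedPoint_comp _ _ _,
      (congrArg g (pointOfClosedPoint_apply _ _ _ _)).trans hw⟩
  obtain ⟨t₀, ht₀, rfl⟩ := hlift x hx hxg
  obtain ⟨t₁, ht₁, rfl⟩ := hlift y hy hyg
  obtain ⟨δP, hδP⟩ := exists_delta (pullback.fst sx (str k) ≫ sx)
  let d : PL k ⟶ pullback sx (str k) := pullback.lift g (𝟙 _) (by rw [hg, Category.id_comp])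
  have hd2 : d ≫ pullback.snd sx (str k) = 𝟙 _ := pullback.lift_snd _ _ _
  haveI : IsClosedImmersion (d ≫ pullback.snd sx (str k)) := by rw [hd2]; infer_instance
  haveI : IsClosedImmersion d := IsClosedImmersion.of_comp d (pullback.snd sx (str k))
  have hdfst : ∀ c, pullback.fst sx (str k) (d c) = g c := fun c => by
    rw [← Scheme.Hom.comp_apply, pullback.lift_fst]
  have hdsnd : ∀ c, pullback.snd sx (str k) (d c) = c := fun c => by
    rw [← Scheme.Hom.comp_apply, hd2]; rfl
  obtain ⟨δW, hδW, hW1⟩ := Line.exists_delta_line k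
  have hη1 : δP (d (genericPoint (PL k))) = 1 := by
    rw [← hW1]
    have h1 := Groth.L22.Bundle.deltaCompat_comp d _ hδP
    rw [← Category.assoc, pullback.lift_fst, hg] at h1
    obtain ⟨n, hn, hdn⟩ := h1 (genericPoint (PL k))
    obtain ⟨n', hn', hdn'⟩ := hδW (genericPoint (PL k))
    have hnn : n = n' := by exact_mod_cast hn.symm.trans hn'
    exact hdn.trans (hnn ▸ hdn'.symm)
  let Γc : AlgebraicCycle (pullback sx (str k)) ℤ :=
    Function.locallyFinsuppWithin.single (d (genericPoint (PL k))) 1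
  have hΓ : ∀ ξ, Γc ξ = if ξ = d (genericPoint (PL k)) then 1 else 0 := fun ξ =>
    Function.locallyFinsuppWithin.single_apply
  have hsupp : ∀ ξ, Γc ξ ≠ 0 → ξ = d (genericPoint (PL k)) := fun ξ hξ => by
    by_contra hh
    exact hξ (by rw [hΓ, if_neg hh])
  have key : ∀ (u : Spec (CommRingCat.of k) ⟶ PL k) (hu : u ≫ str k = 𝟙 _) (x : X),
      AlgEqCyc.fibreFun sx (str k) Γc u hu x = if x = g (u (IsLocalRing.closedPoint k)) then 1 else 0 := by
    intro u hu x
    rw [fibreFun_eq_sum sx (str k) u hu Γc {d (genericPoint (PL k))}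
      (fun ξ h => Finset.mem_singleton.2 (hsupp ξ h)), Finset.sum_singleton, hΓ, if_pos rfl, one_mul]
    by_cases hxb : x = g (u (IsLocalRing.closedPoint k))
    · have hcu := ((pointEquivClosedPoint (str k)) ⟨u, hu⟩).2
      have hxc : IsClosed ({x} : Set X) := by
        haveI : IsProper (g ≫ sx) := by rw [hg]; infer_instance
        haveI : IsProper g := IsProper.of_comp g sx
        rw [hxb, ← Set.image_singleton]
        exact g.isClosedMap _ hcu
      rw [if_pos hxb]
      have he : d (u (IsLocalRing.closedPoint k)) = AlgEqCyc.slice sx (str k) u hu x := by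
        refine closed_ext sx (str k) ?_ (isClosed_slice sx (str k) u hu hxc)
          (((hdfst _).trans hxb.symm).trans (fst_slice sx (str k) u hu x).symm)
          ((hdsnd _).trans (snd_slice sx (str k) u hu x).symm)
        rw [← Set.image_singleton]
        exact d.isClosedEmbedding.isClosedMap _ hcu
      have hsp : d (genericPoint (PL k)) ⤳ d (u (IsLocalRing.closedPoint k)) :=
        (genericPoint_specializes' _).map d.continuous
      rw [fm, dif_pos (he ▸ hsp)]
      have hm := Groth.L16.AlgEqC.fibreMult_section d (pullback.snd sx (str k)) hd2 (u (IsLocalRing.closedPoint k)) hsp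
      have hcongr : ∀ (v : ↥(pullback sx (str k))) (_ : d (u (IsLocalRing.closedPoint k)) = v) (h : d (genericPoint (PL k)) ⤳ v),
          AlgEqCyc.fibreMult (pullback.snd sx (str k)) v (d (genericPoint (PL k))) h = 1 := by
        rintro v rfl h
        exact hm
      rw [hcongr _ he _]
      rfl
    · rw [if_neg hxb, fm, dif_neg]
      intro h
      obtain ⟨c, hc⟩ := h.mem_closed d.isClosedEmbedding.isClosed_range ⟨_, rfl⟩
      have hcu : c = u (IsLocalRing.closedPoint k) := by rw [← hdsnd c, hc, snd_slice]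
      exact hxb (by rw [← fst_slice sx (str k) u hu x, ← hc, hdfst, hcu])
  refine ratEquiv_fibres sx hδP hδ Γc (fun ξ => by rw [hΓ]; split_ifs <;> norm_num)
    (fun ξ hξ => by rw [hsupp ξ hξ]; exact ⟨hdsnd _, hη1⟩) ht₀ ht₁ _ _ ?_ ?_
  · funext z; rw [key, Function.locallyFinsuppWithin.single_apply]
  · funext z; rw [key, Function.locallyFinsuppWithin.single_apply]

/-- The image of the line in an affine open is a point. -/
theorem subsingleton_range_of_affine (g : PL k ⟶ X) {U : X.Opens} (hU : IsAffineOpen U)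
    (hgU : Set.range g ⊆ (U : Set X)) : (Set.range g).Subsingleton := by
  haveI := hU
  haveI : IsAffine U.toScheme := hU
  haveI : UniversallyClosed (str k) := inferInstance
  let g' : PL k ⟶ U.toScheme := IsOpenImmersion.lift U.ι g (by rwa [Scheme.Opens.range_ι])
  have hg' : g' ≫ U.ι = g := IsOpenImmersion.lift_fac _ _ _
  have hnat : g' ≫ U.toScheme.toSpecΓ = (PL k).toSpecΓ ≫ Spec.map g'.appTop := Scheme.toSpecΓ_naturality g'
  letI := (isField_of_universallyClosed k (str k)).toField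
  haveI : Subsingleton ↥(Spec Γ(PL k, ⊤)) := inferInstanceAs (Subsingleton (PrimeSpectrum Γ(PL k, ⊤)))
  rintro _ ⟨a, rfl⟩ _ ⟨b, rfl⟩
  have h : g' a = g' b := by
    refine U.toScheme.toSpecΓ.isOpenEmbedding.injective ?_
    rw [← Scheme.Hom.comp_apply, ← Scheme.Hom.comp_apply, hnat, Scheme.Hom.comp_apply, Scheme.Hom.comp_apply]
    exact congrArg _ (Subsingleton.elim _ _)
  rw [← hg', Scheme.Hom.comp_apply, Scheme.Hom.comp_apply, h]

set_option maxHeartbeats 1600000 in
/-- The main theorem. -/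
theorem ratEquiv_points [IsIntegral X] {δ : X → ℤ} (hδ : Cyc.DeltaCompat sx δ fun _ => 0)
    (hdim : topologicalKrullDim X = 2)
    {L : X.Modules} (hL : CohB1.IsAmple L) (s : Coh.structureModule X ⟶ L) (hs : s ≠ 0)
    (hconn : _root_.IsConnected ((CohB1.genLocus L s : Set X)ᶜ))
    (hrat : ∀ h ∈ ((CohB1.genLocus L s : Set X)ᶜ), IsClosed ({h} : Set X) →
      ∃ g : PL k ⟶ X, g ≫ sx = str k ∧ (Set.range ⇑g).Nontrivial ∧
        h ∈ Set.range ⇑g ∧ Set.range ⇑g ⊆ (CohB1.genLocus L s : Set X)ᶜ)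
    (x y : X) (hx : IsClosed ({x} : Set X)) (hy : IsClosed ({y} : Set X))
    (hxr : ∃ g : PL k ⟶ X, g ≫ sx = str k ∧ (Set.range ⇑g).Nontrivial ∧ x ∈ Set.range ⇑g)
    (hyr : ∃ g : PL k ⟶ X, g ≫ sx = str k ∧ (Set.range ⇑g).Nontrivial ∧ y ∈ Set.range ⇑g) :
    Cyc.RatEquiv δ 0 (Function.locallyFinsuppWithin.single x (1 : ℤ) : AlgebraicCycle X ℤ)
      (Function.locallyFinsuppWithin.single y (1 : ℤ)) := by
  haveI : IsLocallyNoetherian X := LocallyOfFiniteType.isLocallyNoetherian sx
  haveI : CompactSpace X := QuasiCompact.compactSpace_of_compactSpace sx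
  haveI : IsNoetherian X := { }
  haveI : TopologicalSpace.NoetherianSpace X := inferInstance
  haveI : JacobsonSpace X := LocallyOfFiniteType.jacobsonSpace sx
  set H : Set X := (CohB1.genLocus L s : Set X)ᶜ with hHdef
  have hH : IsClosed H := (CohB1.genLocus L s).2.isClosed_compl
  have hHne : H ≠ Set.univ := fun h => by
    obtain ⟨z, hz⟩ := Groth.L08.Cube.genLocus_nonempty hL.1 hs
    exact (h ▸ Set.mem_univ z : z ∈ H) hz
  have hcl : ∀ g : PL k ⟶ X, g ≫ sx = str k → IsClosed (Set.range g) := fun g hg => by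
    haveI : IsProper (g ≫ sx) := by rw [hg]; infer_instance
    haveI : IsProper g := IsProper.of_comp g sx
    exact g.isClosedMap.isClosed_range
  have hirr : ∀ g : PL k ⟶ X, IsIrreducible (Set.range g) := fun g => by
    rw [← Set.image_univ]
    exact (IrreducibleSpace.isIrreducible_univ _).image _ g.continuous.continuousOn
  have hmax : ∀ (g : PL k ⟶ X), g ≫ sx = str k → (Set.range g).Nontrivial → ∀ t : Set X, IsClosed t →
      IsIrreducible t → t ⊆ H → Set.range g ⊆ t → Set.range g = t := by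
    intro g hg hnt t ht hti htH hgt
    by_contra hne
    obtain ⟨c, hc, hcc⟩ := nonempty_inter_closedPoints (hirr g).nonempty (hcl g hg).isLocallyClosed
    let F : Fin 4 → TopologicalSpace.IrreducibleCloseds X :=
      ![⟨{c}, isIrreducible_singleton, hcc⟩, ⟨Set.range g, hirr g, hcl g hg⟩, ⟨t, hti, ht⟩,
        ⟨Set.univ, IrreducibleSpace.isIrreducible_univ X, isClosed_univ⟩]
    have hF : StrictMono F := Fin.strictMono_iff_lt_succ.2 fun i => by
      fin_cases i
      · exact lt_of_le_of_ne (SetLike.coe_subset_coe.1 (Set.singleton_subset_iff.2 hc)) fun h =>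
          hnt.ne_singleton (congrArg SetLike.coe h).symm
      · exact lt_of_le_of_ne (SetLike.coe_subset_coe.1 hgt) fun h => hne (congrArg SetLike.coe h)
      · exact lt_of_le_of_ne (SetLike.coe_subset_coe.1 (Set.subset_univ _)) fun h =>
          hHne (Set.eq_univ_of_univ_subset (le_trans (le_of_eq (show (Set.univ : Set X) = t from
            (congrArg SetLike.coe h).symm)) htH))
    have h3 := Order.LTSeries.length_le_krullDim (LTSeries.mk 3 F hF)
    rw [show Order.krullDim (TopologicalSpace.IrreducibleCloseds X) = 2 from hdim] at h3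
    exact absurd h3 (by simp [LTSeries.mk]; decide)
  obtain ⟨S, hSf, hSc, hSi, hSU⟩ := TopologicalSpace.NoetherianSpace.exists_finite_set_isClosed_irreducible hH
  let S' : Set (Set X) := {t | t ∈ S ∧ ∃ g : PL k ⟶ X, g ≫ sx = str k ∧ Set.range g = t}
  have hS'f : S'.Finite := hSf.subset fun t ht => ht.1
  have hS'H : ∀ t ∈ S', t ⊆ H := fun t ht => hSU ▸ Set.subset_sUnion_of_mem ht.1
  have hpts : ∀ h ∈ H, IsClosed ({h} : Set X) → ∃ t ∈ S', h ∈ t := by
    intro h hh hhc
    obtain ⟨g, hg, hnt, hhg, hgH⟩ := hrat h hh hhc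
    obtain ⟨t, htS, hgt⟩ := (isIrreducible_iff_sUnion_isClosed.1 (hirr g)) hSf.toFinset
      (fun t ht => hSc t (hSf.mem_toFinset.1 ht)) (by rw [hSf.coe_toFinset, ← hSU]; exact hgH)
    rw [hSf.mem_toFinset] at htS
    have he := hmax g hg hnt t (hSc t htS) (hSi t htS) (hSU ▸ Set.subset_sUnion_of_mem htS) hgt
    exact ⟨t, ⟨htS, g, hg, he⟩, he ▸ hhg⟩
  have hline : ∀ t ∈ S', ∀ a b : X, IsClosed ({a} : Set X) → IsClosed ({b} : Set X) → a ∈ t → b ∈ t →
      Cyc.RatEquiv δ 0 (Function.locallyFinsuppWithin.single a (1 : ℤ) : AlgebraicCycle X ℤ)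
        (Function.locallyFinsuppWithin.single b (1 : ℤ)) := by
    rintro t ⟨-, g, hg, rfl⟩ a b ha hb hat hbt
    exact ratEquiv_of_line sx hδ g hg a b ha hb hat hbt
  have hmeet : ∀ g : PL k ⟶ X, g ≫ sx = str k → (Set.range g).Nontrivial →
      ∃ h ∈ H, IsClosed ({h} : Set X) ∧ h ∈ Set.range g := by
    intro g hg hnt
    have hne : (Set.range g ∩ H).Nonempty := by
      by_contra he
      refine hnt.not_subsingleton (subsingleton_range_of_affine g
        (Groth.L19.AmpleAffine.isAffineOpen_genLocus sx hL s) fun z hz => ?_)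
      by_contra hzH
      exact he ⟨z, hz, hzH⟩
    obtain ⟨h, ⟨h1, h2⟩, h3⟩ := nonempty_inter_closedPoints hne ((hcl g hg).inter hH).isLocallyClosed
    exact ⟨h, h2, h3, h1⟩
  have hchain : ∀ h₀ ∈ H, IsClosed ({h₀} : Set X) → ∀ h ∈ H, IsClosed ({h} : Set X) →
      Cyc.RatEquiv δ 0 (Function.locallyFinsuppWithin.single h₀ (1 : ℤ) : AlgebraicCycle X ℤ)
        (Function.locallyFinsuppWithin.single h (1 : ℤ)) := by
    intro h₀ hh₀ hh₀c
    let G : Set (Set X) := {t ∈ S' | ∀ b ∈ t, IsClosed ({b} : Set X) →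
      Cyc.RatEquiv δ 0 (Function.locallyFinsuppWithin.single h₀ (1 : ℤ) : AlgebraicCycle X ℤ)
        (Function.locallyFinsuppWithin.single b (1 : ℤ))}
    let B : Set (Set X) := S' \ G
    have hclU : ∀ T : Set (Set X), T ⊆ S' → IsClosed (⋃₀ T) := fun T hT => by
      rw [Set.sUnion_eq_biUnion]
      exact (hS'f.subset hT).isClosed_biUnion fun t ht => hSc t (hT ht).1
    have hcover : H ⊆ ⋃₀ G ∪ ⋃₀ B := by
      refine le_trans ?_ ((hclU G fun t ht => ht.1).union (hclU B fun t ht => ht.1)).closure_subset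
      rw [← closure_inter_closedPoints hH]
      refine closure_mono fun h ⟨hh, hhc⟩ => ?_
      obtain ⟨t, ht, hht⟩ := hpts h hh hhc
      by_cases htG : t ∈ G
      · exact Or.inl ⟨t, htG, hht⟩
      · exact Or.inr ⟨t, ⟨ht, htG⟩, hht⟩
    have hdisj : ¬ (H ∩ (⋃₀ G ∩ ⋃₀ B)).Nonempty := by
      intro hne
      obtain ⟨c, ⟨-, ⟨t, htG, hct⟩, ⟨t', htB, hct'⟩⟩, hcc⟩ := nonempty_inter_closedPoints hne
        (hH.inter ((hclU G fun t ht => ht.1).inter (hclU B fun t ht => ht.1))).isLocallyClosed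
      exact htB.2 ⟨htB.1, fun b hb hbc => ratEquiv_trans' 0 (htG.2 c hct hcc) (hline t' htB.1 c b hcc hbc hct' hb)⟩
    obtain ⟨t₀, ht₀, hh₀t⟩ := hpts h₀ hh₀ hh₀c
    have hGne : (H ∩ ⋃₀ G).Nonempty :=
      ⟨h₀, hh₀, t₀, ⟨ht₀, fun b hb hbc => hline t₀ ht₀ h₀ b hh₀c hbc hh₀t hb⟩, hh₀t⟩
    intro h hh hhc
    obtain ⟨t, ht, hht⟩ := hpts h hh hhc
    by_cases htG : t ∈ G
    · exact htG.2 h hht hhc
    · exact absurd (isPreconnected_closed_iff.1 hconn.2 _ _ (hclU G fun t ht => ht.1) (hclU B fun t ht => ht.1)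
        hcover hGne ⟨h, hh, t, ⟨ht, htG⟩, hht⟩) hdisj
  obtain ⟨gx, hgx, hxnt, hxg⟩ := hxr
  obtain ⟨gy, hgy, hynt, hyg⟩ := hyr
  obtain ⟨a, ha, hac, hag⟩ := hmeet gx hgx hxnt
  obtain ⟨b, hb, hbc, hbg⟩ := hmeet gy hgy hynt
  exact ratEquiv_trans' 0 (ratEquiv_of_line sx hδ gx hgx x a hx hac hxg hag)
    (ratEquiv_trans' 0 (hchain a ha hac b hb hbc) (ratEquiv_of_line sx hδ gy hgy b y hbc hy hbg hyg))

end Line

end Groth.L22.SymCorr.RatCurves
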